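import Cfsg.Agent.Lib.Small.SL2.Products
import Cfsg.Agent.Lib.Classical.SL2FourSylow

/-!
Centralisers in `PSL₂(q)` for `q ≡ 3 (mod 4)`.
-/

set_option autoImplicit false
set_option linter.unusedSectionVars false

namespace Cfsg.Agent.Small.Ree.PSLFacts

open Cfsg.Agent.Small Cfsg.Agent.Small.SL2C

variable {F : Type*} [Field F] [Fintype F]

local notation "SL2" => Matrix.SpecialLinearGroup (Fin 2) F
local notation "P2" => Matrix.ProjectiveSpecialLinearGroup (Fin 2) F

theorem two_ne_of_mod (h4 : Fintype.card F % 4 = 3) : (2 : F) ≠ 0 :=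
  not_two_dvd_iff.1 (by omega)

theorem sol_zero (h4 : Fintype.card F % 4 = 3) : sol (0 : F) 1 = Fintype.card F + 1 := by
  have h2 := two_ne_of_mod h4
  have hr : roots (0 : F) 1 = 0 := by
    rw [roots, Nat.card_eq_zero]
    refine Or.inl ⟨fun k => ?_⟩
    have hsq : IsSquare (-1 : F) := ⟨k.1, by linear_combination -k.2⟩
    exact (FiniteField.isSquare_neg_one_iff.1 hsq) h4
  have ht : (0 : F) * 0 ≠ 4 := fun h => mul_ne_zero h2 h2 (by linear_combination -h)
  rcases sol_eq (t := (0 : F)) ht with ⟨h, -⟩ | ⟨-, h⟩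
  · omega
  · exact h

/-- The centraliser of an involution. -/
theorem invol_centralizer (h4 : Fintype.card F % 4 = 3) {y : P2} (hy : y * y = 1) (hy1 : y ≠ 1) :
    Nat.card (Subgroup.centralizer ({y} : Set P2)) = Fintype.card F + 1 := by
  have h2 := two_ne_of_mod h4
  obtain ⟨g, rfl⟩ := PSL2.pr_surjective y
  have hg : ¬ IsSc g.1 := fun h => hy1 (pr_eq_one_iff.2 h)
  have ht : g.1.trace = 0 := ((Classical.SL2Four.pr_self_mul_eq_one_iff h2).1 hy).resolve_left hg
  have h := card_centralizer_pr g hg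
  rw [center_card_odd h2, if_pos ⟨h2, ht⟩, ht, sol_zero h4] at h
  omega

/-- The centraliser of an element of order prime to `q (q - 1)`. -/
theorem odd_centralizer (h4 : Fintype.card F % 4 = 3) {y : P2} (hodd : Odd (orderOf y)) (hy1 : y ≠ 1)
    (hcop : Nat.Coprime (orderOf y) (Fintype.card F * (Fintype.card F - 1))) :
    Nat.card (Subgroup.centralizer ({y} : Set P2)) = (Fintype.card F + 1) / 2 ∧
      ∀ a ∈ Subgroup.centralizer ({y} : Set P2), ∀ b ∈ Subgroup.centralizer ({y} : Set P2), a * b = b * a := by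
  classical
  have h2 := two_ne_of_mod h4
  obtain ⟨p, hp⟩ := CharP.exists F
  obtain ⟨n, hpp, hn⟩ := FiniteField.card F p
  haveI : Fact p.Prime := ⟨hpp⟩
  have hord : orderOf y ≠ 1 := fun h => hy1 (orderOf_eq_one_iff.1 h)
  have hnd : ∀ d, d ∣ Fintype.card F * (Fintype.card F - 1) → ¬ orderOf y ∣ d := fun d hd h =>
    hord (Nat.Coprime.eq_one_of_dvd hcop (h.trans hd))
  obtain ⟨g, rfl⟩ := PSL2.pr_surjective y
  have hg : ¬ IsSc g.1 := fun h => hy1 (pr_eq_one_iff.2 h)
  have ht : g.1.trace * g.1.trace ≠ 4 := by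
    intro h
    obtain ⟨x, -, hc⟩ := exists_pr_uS hg h
    refine hnd p (Dvd.dvd.mul_right (hn ▸ dvd_pow_self p n.ne_zero) _) (orderOf_dvd_of_pow_eq_one ?_)
    obtain ⟨c, hc⟩ := isConj_iff.mp hc
    have h := pr_uS_pow p x
    rw [← hc, conj_pow] at h
    exact conj_eq_one_iff.mp h
  have hord3 : 2 < orderOf (PSL2.pr g) := by
    obtain ⟨k, hk⟩ := hodd
    omega
  have h0 := trace_ne_zero_of_order hord3
  have hsol : sol g.1.trace 1 = Fintype.card F + 1 := by
    rcases sol_eq ht with ⟨-, h⟩ | ⟨-, h⟩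
    · exfalso
      refine hnd ((Fintype.card F - 1) / 2) ((Nat.div_dvd_of_dvd (by omega)).trans (Dvd.intro_left _ rfl)) ?_
      have h1 := orderOf_dvd_of_pow_eq_one (pr_pow_sol ht)
      rwa [center_card_odd h2, h] at h1
    · exact h
  refine ⟨?_, fun a ha b hb => ?_⟩
  · have h := card_centralizer_pr g hg
    rw [center_card_odd h2, if_neg (fun hh => h0 hh.2), hsol] at h
    omega
  · obtain ⟨A, rfl⟩ := PSL2.pr_surjective a
    obtain ⟨B, rfl⟩ := PSL2.pr_surjective b
    have key : ∀ X : SL2, PSL2.pr X ∈ Subgroup.centralizer ({PSL2.pr g} : Set P2) →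
        X ∈ Subgroup.centralizer ({g} : Set SL2) := fun X hX => by
      obtain ⟨ε, hε, h⟩ := mem_centralizer_pr.1 hX
      rcases sign_cases hε h with e | ⟨-, e⟩
      · rw [e, one_smul] at h
        exact Subgroup.mem_centralizer_singleton_iff.2 (Subtype.ext h)
      · exact absurd ((mul_eq_zero.1 (show (2 : F) * g.1.trace = 0 by linear_combination e)).resolve_left h2) h0
    haveI := isCyclic_centralizer ht
    letI := IsCyclic.commGroup (α := Subgroup.centralizer ({g} : Set SL2))
    have h := congrArg Subtype.val (mul_comm (⟨A, key A ha⟩ : Subgroup.centralizer ({g} : Set SL2)) ⟨B, key B hb⟩)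
    rw [← map_mul, ← map_mul]
    exact congrArg PSL2.pr h

/-- An element of order a quarter of `q + 1`. -/
theorem exists_quarter (h4 : Fintype.card F % 4 = 3) : ∃ y : P2, orderOf y = (Fintype.card F + 1) / 4 := by
  obtain ⟨t, ht, hr⟩ := exists_roots_zero (F := F)
  obtain ⟨y, hy⟩ := exists_order ht
  have hsol : sol t 1 = Fintype.card F + 1 := by
    rcases sol_eq ht with ⟨h, -⟩ | ⟨-, h⟩
    · omega
    · exact h
  rw [hsol, center_card_odd (two_ne_of_mod h4)] at hy
  refine ⟨y ^ 2, ?_⟩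
  rw [orderOf_pow, hy]
  have e : (Fintype.card F + 1) / 2 = 2 * ((Fintype.card F + 1) / 4) := by omega
  rw [e, Nat.gcd_mul_right_left, Nat.mul_div_cancel_left _ two_pos]

end Cfsg.Agent.Small.Ree.PSLFacts
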