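import Cfsg.Agent.Lib.Small.TwistAut.TwoGen

/-!
The small Ree groups acting on the cosets of their Borel subgroup: coordinates and fixed points.
-/

set_option autoImplicit false
set_option synthInstance.maxHeartbeats 400000
set_option maxHeartbeats 1600000
set_option maxRecDepth 4000
set_option linter.style.haveILetI false

namespace Cfsg.Agent.Small.Ree

open Cfsg Cfsg.Lie Cfsg.Agent.Lie Cfsg.Agent.Lie.Twist Matrix
open scoped MatrixGroups
open Cfsg.Agent.Lie.G2 (Os Setup)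
open Cfsg.Agent.Small.TwistAut Cfsg.Agent.Small.TwistAut.G2

variable {K : Type*} [Field K] [Fintype K] {m : ℕ} (S : Setup K m)

/-- The ambient group. -/
abbrev RG : Type _ := ↥S.data.G1

include S in
theorem card_K : Fintype.card K = 3 ^ (2 * m + 1) := by rw [← Nat.card_eq_fintype_card]; exact S.hK

include S in
theorem qtwo : 2 ≤ S.data.q := by
  show 2 ≤ 3 ^ (2 * m + 1)
  calc 2 ≤ 3 ^ 1 := by norm_num
    _ ≤ 3 ^ (2 * m + 1) := Nat.pow_le_pow_right (by norm_num) (by omega)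

/-- A longest monomial element, with its defining property. -/
theorem exists_longest : ∃ n : RG S, ∃ a ∈ (factsG2.tsys K).H,
    (n : GL chevG2.Idx K) = a * (factsG2.tsys K).nW (ChevAut.w0 factsG2) := by
  obtain ⟨a, ha, n, hn, -⟩ := exists_n0 S.data
  exact ⟨n, a, ha, hn⟩

/-- The longest monomial element. -/
noncomputable def nn : RG S := (exists_longest S).choose

theorem nn_spec : ∃ a ∈ (factsG2.tsys K).H,
    (nn S : GL chevG2.Idx K) = a * (factsG2.tsys K).nW (ChevAut.w0 factsG2) :=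
  (exists_longest S).choose_spec

theorem nn_inv_tz (z : Kˣ) : (nn S)⁻¹ * tz S z * nn S = (tz S z)⁻¹ := by
  obtain ⟨a, ha, hn⟩ := nn_spec S
  refine Subtype.ext ?_
  rw [Subgroup.coe_mul, Subgroup.coe_mul, Subgroup.coe_inv, Subgroup.coe_inv, hn]
  exact n0_inverts G2.okMinus_G2 ha _

theorem nn_tz (z : Kˣ) : nn S * tz S z = (tz S z)⁻¹ * nn S := by
  have := nn_inv_tz S z⁻¹
  rw [map_inv, inv_inv] at this
  rw [← map_inv]
  calc nn S * tz S z = nn S * ((nn S)⁻¹ * (tz S z)⁻¹ * nn S) := by rw [this]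
    _ = _ := by rw [map_inv]; group

theorem tz_nn (z : Kˣ) : tz S z * nn S = nn S * (tz S z)⁻¹ := by
  rw [← map_inv, nn_tz, map_inv, inv_inv]

/-- The Borel subgroup. -/
noncomputable def BB : Subgroup (RG S) := ((factsG2.tsys K).B).subgroupOf S.data.G1

theorem mem_BB {g : RG S} : g ∈ BB S ↔ (g : GL chevG2.Idx K) ∈ (factsG2.tsys K).B := Iff.rfl

theorem P_mem_BB (t u v : K) : P S t u v ∈ BB S := by
  rw [mem_BB]
  refine (factsG2.tsys K).U_le_B ?_
  rw [factsG2.tsys_U, ← posU]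
  exact S.N3_mem_US t u v

theorem tz_mem_BB (z : Kˣ) : tz S z ∈ BB S := by
  rw [mem_BB]
  refine (factsG2.tsys K).H_le_B ?_
  rw [factsG2.tsys_H]
  exact (mem_H1_iff S).2 ⟨z, rfl⟩

theorem exists_V_conj (t u v : K) :
    ((nn S * P S t u v * (nn S)⁻¹ : RG S) : GL chevG2.Idx K) ∈ chevG2.negUnipotent K := by
  obtain ⟨a, ha, hn⟩ := nn_spec S
  exact (longest_conj S.data ha hn).1.2 ((mem_U1_iff S).2 ⟨t, u, v, rfl⟩)

/-- An element of the unipotent subgroup moved into the Borel subgroup is trivial. -/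
theorem P_conj_BB {t u v : K} (h : nn S * P S t u v * (nn S)⁻¹ ∈ BB S) : P S t u v = 1 :=
  conj_eq_one_iff.1 (Subtype.ext (factsG2.B_inter_V h (exists_V_conj S t u v)))

theorem mul_U {x y : RG S} (hx : ∃ t u v, x = P S t u v) (hy : ∃ t u v, y = P S t u v) :
    ∃ t u v, x * y = P S t u v := by
  rw [← mem_U1_iff] at hx hy ⊢
  exact mul_mem hx hy

theorem inv_U (t u v : K) : ∃ t' u' v', (P S t u v)⁻¹ = P S t' u' v' := by
  rw [← mem_U1_iff]
  exact inv_mem ((mem_U1_iff S).2 ⟨t, u, v, rfl⟩)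

/-- Bruhat decomposition. -/
theorem bruhat (g : RG S) : (∃ t u v z, g = P S t u v * tz S z) ∨
    ∃ t u v z t' u' v', g = P S t u v * nn S * tz S z * P S t' u' v' := by
  obtain ⟨ω₀, hω₀⟩ := List.exists_mem_of_ne_nil Os (by decide +kernel)
  have hone : ∀ ω ∈ Os, ω = ω₀ := fun ω hω => by
    simp only [Os, List.map_cons, List.map_nil, List.mem_singleton] at hω hω₀
    rw [hω, hω₀]
  have hcase : ∀ w, S.T.PiFix w → w = 1 ∨ w = S.T.wO ω₀ := fun w hw => by
    refine S.T.piFix_induction S.hOs (P := fun w => w = 1 ∨ w = S.T.wO ω₀) (Or.inl rfl) ?_ w hw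
    rintro ω hω z - - - - (rfl | rfl)
    · exact Or.inr (by rw [one_mul, hone ω hω])
    · exact Or.inl (by rw [hone ω hω]; exact S.T.wO_sq S.hOs hω₀)
  obtain ⟨-, -, -, -, hw0⟩ := exists_n0 S.data
  obtain ⟨w, hw, u, hu, huG, a, ha, hnw, v, hv, hvG, he⟩ := S.data.decomp g.2
  obtain ⟨t₁, u₁, v₁, hP⟩ : ∃ t₁ u₁ v₁, (⟨u, huG⟩ : RG S) = P S t₁ u₁ v₁ := by
    rw [← mem_U1_iff, mem_U1, ← factsG2.tsys_U]; exact hu
  have hvU : v ∈ chevG2.posUnipotent K := by
    rw [← factsG2.tsys_U]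
    exact CommSys.US_mono _ (fun r hr => (List.mem_filter.1 hr).1) hv
  obtain ⟨t₂, u₂, v₂, hQ⟩ : ∃ t₂ u₂ v₂, (⟨v, hvG⟩ : RG S) = P S t₂ u₂ v₂ := by
    rw [← mem_U1_iff]; exact hvU
  have hg : g = P S t₁ u₁ v₁ * ⟨_, hnw⟩ * P S t₂ u₂ v₂ := by
    rw [← hP, ← hQ]; exact Subtype.ext he
  by_cases hw1 : w = 1
  · left
    subst hw1
    obtain ⟨z, hz⟩ : ∃ z, (⟨_, hnw⟩ : RG S) = tz S z := (mem_H1_iff S).1 (by
      show a * (factsG2.tsys K).nW 1 ∈ chevG2.diagonalSubgroup K
      rw [← factsG2.tsys_H]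
      exact mul_mem ha (factsG2.tsys K).nW_one)
    obtain ⟨t, u', v', hm⟩ := mul_U S ⟨t₁, u₁, v₁, rfl⟩ ⟨_, _, _, tz_conj S z t₂ u₂ v₂⟩
    refine ⟨t, u', v', z, ?_⟩
    rw [← hm, hg, hz]
    group
  · right
    have hweq : w = ChevAut.w0 factsG2 := by
      rcases hcase w hw with h | h
      · exact absurd h hw1
      rcases hcase _ hw0 with h' | h'
      · exfalso
        have h := ChevAut.w0_neg factsG2 (r := ⟨0, by decide +kernel⟩)
          (by simp [Facts.refSys]; decide +kernel)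
        rw [h', one_smul] at h
        revert h
        simp [Facts.refSys]
        decide +kernel
      · rw [h, h']
    subst hweq
    obtain ⟨a₀, ha₀, hn⟩ := nn_spec S
    obtain ⟨z, hz⟩ : ∃ z, (nn S)⁻¹ * (⟨_, hnw⟩ : RG S) = tz S z := (mem_H1_iff S).1 (by
      show (((nn S)⁻¹ * (⟨_, hnw⟩ : RG S) : RG S) : GL chevG2.Idx K) ∈ chevG2.diagonalSubgroup K
      rw [Subgroup.coe_mul, Subgroup.coe_inv, hn, ← factsG2.tsys_H]
      have h := (factsG2.tsys K).H_normal_in_N (inv_mem ((factsG2.tsys K).nW_mem_N (ChevAut.w0 factsG2)))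
        (mul_mem (inv_mem ha₀) ha)
      rw [inv_inv] at h
      convert h using 1
      group)
    refine ⟨t₁, u₁, v₁, z, t₂, u₂, v₂, ?_⟩
    rw [hg, ← hz]
    group

theorem exists_BB {g : RG S} : g ∈ BB S ↔ ∃ t u v z, g = P S t u v * tz S z := by
  refine ⟨fun hg => ?_, ?_⟩
  · rcases bruhat S g with h | ⟨t, u, v, z, t', u', v', rfl⟩
    · exact h
    · exfalso
      have hn : nn S ∈ BB S := by
        have h := mul_mem (mul_mem (mul_mem (inv_mem (P_mem_BB S t u v)) hg)
          (inv_mem (P_mem_BB S t' u' v'))) (inv_mem (tz_mem_BB S z))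
        convert h using 1
        group
      have := P_conj_BB S (t := 1) (u := 0) (v := 0)
        (mul_mem (mul_mem hn (P_mem_BB S 1 0 0)) (inv_mem hn))
      rw [← P_zero S] at this
      exact one_ne_zero (P_inj S this).1
  · rintro ⟨t, u, v, z, rfl⟩
    exact mul_mem (P_mem_BB S t u v) (tz_mem_BB S z)

theorem BB_unique {t u v t' u' v' : K} {z z' : Kˣ}
    (h : P S t u v * tz S z = P S t' u' v' * tz S z') :
    t = t' ∧ u = u' ∧ v = v' ∧ z = z' := by
  have hd : tz S (z * z'⁻¹) = (P S t u v)⁻¹ * P S t' u' v' := by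
    rw [map_mul, map_inv, eq_inv_mul_iff_mul_eq, ← mul_assoc, h, mul_inv_cancel_right]
  obtain ⟨t₀, u₀, v₀, he⟩ := mul_U S (inv_U S t u v) ⟨t', u', v', rfl⟩
  rw [he] at hd
  -- conjugation by the longest element separates the torus from the unipotent subgroup
  have h1 := P_conj_BB S (t := t₀) (u := u₀) (v := v₀) (by
    rw [← hd, nn_tz, mul_assoc, mul_inv_cancel, mul_one]
    exact inv_mem (tz_mem_BB S _))
  rw [h1, ← map_one (tz S)] at hd
  obtain rfl : z = z' := mul_inv_eq_one.1 (tz_inj S hd)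
  exact ⟨(P_inj S (mul_right_cancel h)).1, (P_inj S (mul_right_cancel h)).2.1,
    (P_inj S (mul_right_cancel h)).2.2, rfl⟩

/-! ### The points -/

/-- The points. -/
abbrev Pt : Type _ := RG S ⧸ BB S

/-- The point fixed by the Borel subgroup. -/
noncomputable def infty : Pt S := ((1 : RG S) : Pt S)

/-- The second base point. -/
noncomputable def zero : Pt S := nn S • infty S

theorem fix_infty {g : RG S} : g • infty S = infty S ↔ g ∈ BB S := by
  rw [infty, MulAction.Quotient.smul_coe, smul_eq_mul, mul_one, QuotientGroup.eq, mul_one, inv_mem_iff]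

theorem P_smul_infty (t u v : K) : P S t u v • infty S = infty S := (fix_infty S).2 (P_mem_BB S t u v)

theorem tz_smul_infty (z : Kˣ) : tz S z • infty S = infty S := (fix_infty S).2 (tz_mem_BB S z)

theorem tz_smul_zero (z : Kˣ) : tz S z • zero S = zero S := by
  rw [zero, smul_smul, tz_nn, ← map_inv, mul_smul, tz_smul_infty]

theorem tz_smul_P (z : Kˣ) (t u v : K) :
    tz S z • P S t u v • zero S =
      P S ((z : K) ^ 2 * ((z : K) ^ (3 * 3 ^ m))⁻¹ * t) ((z : K) ^ (3 * 3 ^ m) * (z : K)⁻¹ * u)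
        ((z : K) * v) • zero S := by
  rw [← tz_conj, mul_smul, mul_smul, ← map_inv, tz_smul_zero]

theorem zero_ne_infty : zero S ≠ infty S := by
  rw [zero, Ne, fix_infty]
  intro hn
  have := P_conj_BB S (t := 1) (u := 0) (v := 0)
    (mul_mem (mul_mem hn (P_mem_BB S 1 0 0)) (inv_mem hn))
  rw [← P_zero S] at this
  exact one_ne_zero (P_inj S this).1

theorem P_smul_ne (t u v : K) : P S t u v • zero S ≠ infty S := fun h =>
  zero_ne_infty S (MulAction.injective (P S t u v) (h.trans (P_smul_infty S t u v).symm))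

/-- The square of the longest element. -/
theorem nn_sq : ∃ z : Kˣ, z ^ 2 = 1 ∧ nn S * nn S = tz S z := by
  obtain ⟨a, ha, hn⟩ := nn_spec S
  rcases bruhat S (nn S * nn S) with ⟨t, u, v, z, hb⟩ | ⟨t, u, v, z, t', u', v', hb⟩
  · have hc : nn S * P S t u v * (nn S)⁻¹ = P S t u v * tz S z * tz S z := by
      have h0 : nn S * (P S t u v * tz S z) * (nn S)⁻¹ = P S t u v * tz S z := by rw [← hb]; group
      have h1 : nn S * tz S z * (nn S)⁻¹ = (tz S z)⁻¹ := by rw [nn_tz]; group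
      calc nn S * P S t u v * (nn S)⁻¹
          = nn S * (P S t u v * tz S z) * (nn S)⁻¹ * (nn S * tz S z * (nn S)⁻¹)⁻¹ := by group
        _ = _ := by rw [h0, h1, inv_inv]
    have hP : P S t u v = 1 := P_conj_BB S (by
      rw [hc]
      exact mul_mem (mul_mem (P_mem_BB S _ _ _) (tz_mem_BB S _)) (tz_mem_BB S _))
    refine ⟨z, tz_inj S ?_, by rw [hb, hP, one_mul]⟩
    rw [hP, mul_one, mul_inv_cancel, one_mul, ← map_mul] at hc
    rw [map_one, pow_two]
    exact hc.symm
  · exfalso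
    have hU : ∀ g : RG S, g ∈ U1 S.data → (nn S * nn S) * g * (nn S * nn S)⁻¹ ∈ U1 S.data := fun g hg => by
      have h := (longest_conj S.data ha hn).2.2 ((longest_conj S.data ha hn).1.2 hg)
      convert h using 1
      group
    have hUP : ∀ a b c : K, P S a b c ∈ U1 S.data := fun a b c => (mem_U1_iff S).2 ⟨a, b, c, rfl⟩
    obtain ⟨t₁, u₁, v₁, h1⟩ := (mem_U1_iff S).1
      (mul_mem (mul_mem (hUP t' u' v') (hUP 1 0 0)) (inv_mem (hUP t' u' v')))
    set x := tz S z * P S t₁ u₁ v₁ * (tz S z)⁻¹ with hx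
    have hxU : x = _ := tz_conj S z t₁ u₁ v₁
    have h2 : nn S * x * (nn S)⁻¹ ∈ BB S := by
      obtain ⟨t₂, u₂, v₂, h3⟩ := (mem_U1_iff S).1 (mul_mem (mul_mem (inv_mem (hUP t u v))
        (hU _ (hUP 1 0 0))) (hUP t u v))
      have h4 : nn S * x * (nn S)⁻¹ = P S t₂ u₂ v₂ := by
        rw [← h3, hx, ← h1, hb]
        group
      rw [h4]
      exact P_mem_BB S _ _ _
    rw [hxU] at h2
    have h5 := P_conj_BB S h2
    rw [← hxU, hx, conj_eq_one_iff] at h5
    rw [h5, conj_eq_one_iff, ← P_zero S] at h1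
    exact one_ne_zero (P_inj S h1).1

theorem nn_sq_mem : nn S * nn S ∈ BB S := by
  obtain ⟨z, -, h⟩ := nn_sq S
  rw [h]
  exact tz_mem_BB S z

theorem nn_smul_infty : nn S • infty S = zero S := rfl

theorem nn_smul_zero : nn S • zero S = infty S := by
  rw [zero, smul_smul, fix_infty]
  exact nn_sq_mem S

theorem P_smul_inj {t u v t' u' v' : K} (h : P S t u v • zero S = P S t' u' v' • zero S) :
    t = t' ∧ u = u' ∧ v = v' := by
  obtain ⟨t₀, u₀, v₀, he⟩ := mul_U S (inv_U S t' u' v') ⟨t, u, v, rfl⟩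
  have h1 : nn S * P S t₀ u₀ v₀ * nn S ∈ BB S := by
    rw [← fix_infty, mul_smul, mul_smul, nn_smul_infty, ← he, mul_smul, h, inv_smul_smul, nn_smul_zero]
  have h2 : nn S * P S t₀ u₀ v₀ * (nn S)⁻¹ ∈ BB S := by
    have := mul_mem h1 (inv_mem (nn_sq_mem S))
    convert this using 1
    group
  have h3 := P_conj_BB S h2
  rw [← he, inv_mul_eq_one] at h3
  exact P_inj S h3.symm

/-- Every other point. -/
theorem pt_cases (x : Pt S) : x = infty S ∨ ∃ t u v, x = P S t u v • zero S := by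
  obtain ⟨g, rfl⟩ := QuotientGroup.mk_surjective x
  have hg : (g : Pt S) = g • infty S := by simp [infty]
  rcases bruhat S g with ⟨t, u, v, z, rfl⟩ | ⟨t, u, v, z, t', u', v', rfl⟩
  · exact Or.inl (by rw [hg, fix_infty]; exact mul_mem (P_mem_BB S t u v) (tz_mem_BB S z))
  · exact Or.inr ⟨t, u, v, by rw [hg, mul_smul, mul_smul, mul_smul, P_smul_infty, tz_smul_infty]; rfl⟩

theorem card_Pt : Nat.card (Pt S) = Fintype.card K ^ 3 + 1 := by
  classical
  have hbij : Function.Bijective (fun o : Option (K × K × K) =>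
      (o.elim (infty S) fun x => P S x.1 x.2.1 x.2.2 • zero S : Pt S)) := by
    refine ⟨fun a b h => ?_, fun x => ?_⟩
    · rcases a with _ | a <;> rcases b with _ | b
      · rfl
      · exact absurd h.symm (P_smul_ne S _ _ _)
      · exact absurd h (P_smul_ne S _ _ _)
      · obtain ⟨h1, h2, h3⟩ := P_smul_inj S h
        rw [show a = b from Prod.ext h1 (Prod.ext h2 h3)]
    · rcases pt_cases S x with rfl | ⟨t, u, v, rfl⟩
      · exact ⟨none, rfl⟩
      · exact ⟨some (t, u, v), rfl⟩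
  rw [← Nat.card_eq_of_bijective _ hbij, Nat.card_eq_fintype_card, Fintype.card_option,
    Fintype.card_prod, Fintype.card_prod]
  ring

/-- The two base points are fixed exactly by the torus. -/
theorem fix_pair {g : RG S} (h1 : g • infty S = infty S) (h2 : g • zero S = zero S) :
    ∃ z, g = tz S z := by
  obtain ⟨t, u, v, z, rfl⟩ := (exists_BB S).1 ((fix_infty S).1 h1)
  rw [mul_smul, tz_smul_zero] at h2
  have : P S t u v • zero S = P S 0 0 0 • zero S := by rw [h2, P_zero, one_smul]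
  obtain ⟨rfl, rfl, rfl⟩ := P_smul_inj S this
  exact ⟨z, by rw [P_zero, one_mul]⟩

/-- The action is doubly transitive. -/
theorem move_pair {x y : Pt S} (h : x ≠ y) : ∃ g : RG S, g • infty S = x ∧ g • zero S = y := by
  obtain ⟨g, rfl⟩ := MulAction.exists_smul_eq (RG S) (infty S) x
  obtain ⟨y, rfl⟩ : ∃ y', y = g • y' := ⟨g⁻¹ • y, by simp⟩
  rcases pt_cases S y with rfl | ⟨t, u, v, rfl⟩
  · exact absurd rfl h
  · exact ⟨g * P S t u v, by rw [mul_smul, P_smul_infty], by rw [mul_smul]⟩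

end Cfsg.Agent.Small.Ree
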