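import Cfsg.Agent.Lib.Small.Ree.Action
import Cfsg.Agent.Lib.Lie.ZassenhausHalfOdd
import Cfsg.Agent.Lib.Lead.ProjLine
import Cfsg.Agent.Lib.Classical.Dickson.Tools

/-!
The small Ree groups: fixed points, and the centraliser of an involution acting on the points it fixes.
-/

set_option autoImplicit false
set_option synthInstance.maxHeartbeats 400000
set_option maxHeartbeats 1600000
set_option maxRecDepth 4000
set_option linter.style.haveILetI false

namespace Cfsg.Agent.Small.Ree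

open Cfsg Cfsg.Lie Cfsg.Agent.Lie Cfsg.Agent.Lie.Twist Matrix
open scoped MatrixGroups
open Cfsg.Agent.Lie.G2 (Os Setup)
open Cfsg.Agent.Small.TwistAut Cfsg.Agent.Small.TwistAut.G2

variable {K : Type*} [Field K] [Fintype K] {m : ℕ} (S : Setup K m)

/-! ### Arithmetic -/

omit [Fintype K] in
theorem zero_pow_s {n : ℕ} : (0 : K) ^ (3 * 3 ^ n) = 0 := zero_pow (by positivity)

include S in
theorem neg_one_ne : (-1 : Kˣ) ≠ 1 := fun h =>
  two_ne S (by
    have h1 : ((-1 : Kˣ) : K) = ((1 : Kˣ) : K) := by rw [h]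
    rw [Units.val_neg, Units.val_one] at h1
    linear_combination -h1)

omit [Fintype K] in
theorem unit_sq {z : Kˣ} (h : z ^ 2 = 1) : z = 1 ∨ z = -1 := by
  have h1 : ((z : K) - 1) * ((z : K) + 1) = 0 := by
    have := congrArg Units.val h
    rw [Units.val_pow_eq_pow_val, Units.val_one] at this
    linear_combination this
  rcases mul_eq_zero.1 h1 with h2 | h2
  · exact Or.inl (Units.ext (by rw [Units.val_one]; linear_combination h2))
  · exact Or.inr (Units.ext (by rw [Units.val_neg, Units.val_one]; linear_combination h2))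

include S in
theorem pow_s_eq_self {z : Kˣ} (h : (z : K) ^ (3 * 3 ^ m) = z) : z ^ 2 = 1 := by
  have h2 := pow_s_s S (z : K)
  rw [h, h] at h2
  refine Units.ext (mul_left_cancel₀ z.ne_zero ?_)
  rw [Units.val_pow_eq_pow_val, Units.val_one, mul_one]
  linear_combination -h2

include S in
theorem pow_s_eq_sq {z : Kˣ} (h : (z : K) ^ 2 * ((z : K) ^ (3 * 3 ^ m))⁻¹ = 1) : z = 1 := by
  have h1 : (z : K) ^ 2 = (z : K) ^ (3 * 3 ^ m) := by
    rwa [mul_inv_eq_one₀ (pow_ne_zero _ z.ne_zero)] at h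
  have h2 := pow_s_s S (z : K)
  rw [← h1, ← pow_mul, Nat.mul_comm 2, pow_mul, ← h1] at h2
  refine Units.ext (mul_left_cancel₀ (pow_ne_zero 3 z.ne_zero) ?_)
  rw [Units.val_one, mul_one]
  linear_combination h2

include S in
theorem card_mod_eight : Fintype.card K % 8 = 3 := by
  rw [card_K S, pow_succ, pow_mul, Nat.mul_mod, Nat.pow_mod]
  norm_num

include S in
theorem card_mod_four' : Fintype.card K % 4 = 3 := by
  have := card_mod_eight S; omega

/-! ### Fixed points -/

/-- The involution of the torus. -/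
noncomputable def tau : RG S := tz S (-1)

theorem tau_ne : tau S ≠ 1 := fun h => neg_one_ne S (tz_inj S (h.trans (map_one _).symm))

theorem tau_sq : tau S * tau S = 1 := by
  rw [tau, ← map_mul, neg_mul_neg, one_mul, map_one]

theorem tau_inv : (tau S)⁻¹ = tau S := inv_eq_of_mul_eq_one_right (tau_sq S)

theorem tau_conj (t u v : K) : tau S * P S t u v * (tau S)⁻¹ = P S (-t) u (-v) := by
  rw [tau, tz_conj, Units.val_neg, Units.val_one, (odd_s S).neg_one_pow]
  congr 1 <;> simp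

theorem tau_smul_P (t u v : K) : tau S • P S t u v • zero S = P S (-t) u (-v) • zero S := by
  rw [← tau_conj, mul_smul, mul_smul, tau_inv, tau, tz_smul_zero]

include S in
theorem eq_zero_of_neg {a : K} (h : -a = a) : a = 0 :=
  (mul_eq_zero.1 (show (2 : K) * a = 0 by linear_combination -h)).resolve_left (two_ne S)

theorem tau_fix_P {t u v : K} :
    tau S • P S t u v • zero S = P S t u v • zero S ↔ t = 0 ∧ v = 0 := by
  rw [tau_smul_P]
  constructor
  · intro h
    obtain ⟨h1, -, h3⟩ := P_smul_inj S h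
    exact ⟨eq_zero_of_neg S h1, eq_zero_of_neg S h3⟩
  · rintro ⟨rfl, rfl⟩; rw [neg_zero]

theorem zero_eq_P : zero S = P S 0 0 0 • zero S := by rw [P_zero, one_smul]

/-- An element fixing the base points and one more point. -/
theorem fix_three {g : RG S} {x : Pt S} (h1 : g • infty S = infty S) (h2 : g • zero S = zero S)
    (hx1 : x ≠ infty S) (hx2 : x ≠ zero S) (h3 : g • x = x) :
    g = 1 ∨ (g = tau S ∧ ∃ u, x = P S 0 u 0 • zero S) := by
  obtain ⟨z, rfl⟩ := fix_pair S h1 h2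
  rcases pt_cases S x with rfl | ⟨t, u, v, rfl⟩
  · exact absurd rfl hx1
  rw [tz_smul_P] at h3
  obtain ⟨e1, e2, e3⟩ := P_smul_inj S h3
  by_cases hz : z = 1
  · exact Or.inl (by rw [hz, map_one])
  have ht : t = 0 := by
    by_contra ht
    exact hz (pow_s_eq_sq S (mul_right_cancel₀ ht (e1.trans (one_mul t).symm)))
  have hv : v = 0 := by
    by_contra hv
    exact hz (Units.ext (mul_right_cancel₀ hv (e3.trans (by rw [Units.val_one, one_mul]))))
  subst ht hv
  have hu : u ≠ 0 := by rintro rfl; exact hx2 (zero_eq_P S).symm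
  have hz2 : z ^ 2 = 1 := pow_s_eq_self S (by
    have := mul_right_cancel₀ hu (e2.trans (one_mul u).symm)
    rwa [mul_inv_eq_one₀ z.ne_zero] at this)
  rcases unit_sq hz2 with rfl | rfl
  · exact absurd rfl hz
  · exact Or.inr ⟨rfl, u, rfl⟩

/-- The action is faithful. -/
theorem eq_one_of_fix_all {g : RG S} (h : ∀ x : Pt S, g • x = x) : g = 1 := by
  rcases fix_three S (h _) (h _) (P_smul_ne S 1 0 0)
    (fun e => one_ne_zero (P_smul_inj S (e.trans (zero_eq_P S))).1) (h _) with h1 | ⟨-, u, hu⟩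
  · exact h1
  · exact absurd (P_smul_inj S hu).1 one_ne_zero

theorem exists_moved_pt {g : RG S} (hg : g ≠ 1) : ∃ x : Pt S, g • x ≠ x := by
  by_contra h
  exact hg (eq_one_of_fix_all S fun x => by_contra fun hx => h ⟨x, hx⟩)

/-- An element exchanging the base points. -/
theorem swap_eq {g : RG S} (h1 : g • infty S = zero S) (h2 : g • zero S = infty S) :
    ∃ z, g = nn S * tz S z := by
  obtain ⟨z, hz⟩ := fix_pair S (g := nn S * g) (by rw [mul_smul, h1, nn_smul_zero])
    (by rw [mul_smul, h2, nn_smul_infty])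
  obtain ⟨w, -, hw⟩ := nn_sq S
  refine ⟨w⁻¹ * z, ?_⟩
  rw [map_mul, map_inv, ← hz, ← hw]
  group

/-- An involution moves a pair of points to each other, hence is conjugate into the outer coset of the torus. -/
theorem exists_conj_nn {w : RG S} (hw : w * w = 1) (hw1 : w ≠ 1) :
    ∃ g : RG S, ∃ z, g⁻¹ * w * g = nn S * tz S z := by
  obtain ⟨x, hx⟩ := exists_moved_pt S hw1
  obtain ⟨g, hg1, hg2⟩ := move_pair S (Ne.symm hx)
  refine ⟨g, swap_eq S ?_ ?_⟩
  · rw [mul_smul, mul_smul, hg1, inv_smul_eq_iff, hg2]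
  · rw [mul_smul, mul_smul, hg2, smul_smul w, hw, one_smul, inv_smul_eq_iff, hg1]

theorem nn_mul_nn : nn S * nn S = 1 := by
  obtain ⟨g, z, hg⟩ := exists_conj_nn S (tau_sq S) (tau_ne S)
  have h1 : (nn S * tz S z) * (nn S * tz S z) = 1 := by
    rw [← hg]
    calc g⁻¹ * tau S * g * (g⁻¹ * tau S * g) = g⁻¹ * (tau S * tau S) * g := by group
      _ = 1 := by rw [tau_sq]; group
  calc nn S * nn S = (nn S * tz S z) * ((nn S * tz S z)) := by
        rw [mul_assoc (nn S) (tz S z), ← mul_assoc (tz S z), tz_nn, mul_assoc (nn S) (tz S z)⁻¹,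
          inv_mul_cancel, mul_one]
    _ = 1 := h1

theorem nn_inv : (nn S)⁻¹ = nn S := inv_eq_of_mul_eq_one_right (nn_mul_nn S)

theorem nn_tz_sq (z : Kˣ) : nn S * tz S z * (nn S * tz S z) = 1 := by
  rw [mul_assoc (nn S) (tz S z), ← mul_assoc (tz S z), tz_nn, mul_assoc (nn S) (tz S z)⁻¹,
    inv_mul_cancel, mul_one, nn_mul_nn]

theorem nn_tz_ne (z : Kˣ) : nn S * tz S z ≠ 1 := fun h => zero_ne_infty S (by
  rw [← nn_smul_infty S]
  conv_lhs => rw [← tz_smul_infty S z]
  rw [smul_smul, h, one_smul])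

/-! ### The centraliser -/

/-- The centraliser of the involution of the torus. -/
noncomputable def Cent : Subgroup (RG S) := Subgroup.centralizer {tau S}

theorem mem_Cent {g : RG S} : g ∈ Cent S ↔ g * tau S = tau S * g :=
  Subgroup.mem_centralizer_singleton_iff

theorem tz_mem_Cent (z : Kˣ) : tz S z ∈ Cent S := by
  rw [mem_Cent, tau, ← map_mul, ← map_mul, mul_comm]

theorem tau_mem_Cent : tau S ∈ Cent S := tz_mem_Cent S _

theorem nn_mem_Cent : nn S ∈ Cent S := by
  rw [mem_Cent, tau, tz_nn, ← map_inv, inv_neg, inv_one]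

theorem P_mem_Cent {t u v : K} : P S t u v ∈ Cent S ↔ t = 0 ∧ v = 0 := by
  rw [mem_Cent, eq_comm, ← mul_inv_eq_iff_eq_mul, tau_conj]
  constructor
  · intro h
    obtain ⟨h1, -, h3⟩ := P_inj S h
    exact ⟨eq_zero_of_neg S h1, eq_zero_of_neg S h3⟩
  · rintro ⟨rfl, rfl⟩; rw [neg_zero]

theorem Q0_mem_Cent (u : K) : P S 0 u 0 ∈ Cent S := (P_mem_Cent S).2 ⟨rfl, rfl⟩

/-- The points fixed by the involution. -/
abbrev Ft : Type _ := {x : Pt S // tau S • x = x}

noncomputable instance : MulAction ↥(Cent S) (Ft S) where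
  smul c x := ⟨(c : RG S) • x.1, by
    rw [smul_smul, ← (mem_Cent S).1 c.2, mul_smul, x.2]⟩
  one_smul x := Subtype.ext (one_smul (RG S) x.1)
  mul_smul c d x := Subtype.ext (mul_smul (c : RG S) (d : RG S) x.1)

theorem coe_smul_Ft (c : ↥(Cent S)) (x : Ft S) : (c • x).1 = (c : RG S) • x.1 := rfl

/-- The first fixed point. -/
noncomputable def aI : Ft S := ⟨infty S, tz_smul_infty S _⟩

/-- The second fixed point. -/
noncomputable def aO : Ft S := ⟨zero S, tz_smul_zero S _⟩

theorem aI_ne_aO : aI S ≠ aO S := fun h => zero_ne_infty S (congrArg Subtype.val h).symm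

/-- The other fixed points. -/
noncomputable def aP (u : K) : Ft S := ⟨P S 0 u 0 • zero S, (tau_fix_P S).2 ⟨rfl, rfl⟩⟩

theorem aP_inj : Function.Injective (aP S) := fun _ _ h =>
  (P_smul_inj S (congrArg Subtype.val h)).2.1

theorem aP_ne (u : K) : aP S u ≠ aI S := fun h => P_smul_ne S 0 u 0 (congrArg Subtype.val h)

theorem Ft_cases (x : Ft S) : x = aI S ∨ ∃ u, x = aP S u := by
  rcases pt_cases S x.1 with h | ⟨t, u, v, h⟩
  · exact Or.inl (Subtype.ext h)
  · obtain ⟨rfl, rfl⟩ := (tau_fix_P S).1 (h ▸ x.2)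
    exact Or.inr ⟨u, Subtype.ext h⟩

theorem card_Ft : Nat.card (Ft S) = Fintype.card K + 1 := by
  classical
  have hbij : Function.Bijective (fun o : Option K => o.elim (aI S) (aP S)) := by
    refine ⟨fun a b h => ?_, fun x => ?_⟩
    · rcases a with _ | a <;> rcases b with _ | b
      · rfl
      · exact absurd h.symm (aP_ne S _)
      · exact absurd h (aP_ne S _)
      · rw [show a = b from aP_inj S h]
    · rcases Ft_cases S x with rfl | ⟨u, rfl⟩
      · exact ⟨none, rfl⟩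
      · exact ⟨some u, rfl⟩
  rw [← Nat.card_eq_of_bijective _ hbij, Nat.card_eq_fintype_card, Fintype.card_option]

theorem move_Ft {x y : Ft S} (h : x ≠ y) : ∃ c : ↥(Cent S), c • aI S = x ∧ c • aO S = y := by
  obtain ⟨c, rfl⟩ : ∃ c : ↥(Cent S), c • aI S = x := by
    rcases Ft_cases S x with rfl | ⟨u, rfl⟩
    · exact ⟨1, one_smul _ _⟩
    · refine ⟨⟨P S 0 u 0 * nn S, mul_mem (Q0_mem_Cent S u) (nn_mem_Cent S)⟩, Subtype.ext ?_⟩
      show (P S 0 u 0 * nn S) • infty S = _
      rw [mul_smul]; rfl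
  rcases Ft_cases S (c⁻¹ • y) with h1 | ⟨u, h1⟩
  · exact absurd (inv_smul_eq_iff.1 h1).symm h
  · refine ⟨c * ⟨P S 0 u 0, Q0_mem_Cent S u⟩, ?_, ?_⟩
    · rw [mul_smul, show (⟨P S 0 u 0, Q0_mem_Cent S u⟩ : ↥(Cent S)) • aI S = aI S from
        Subtype.ext (P_smul_infty S 0 u 0)]
    · rw [mul_smul, inv_smul_eq_iff.1 h1]; rfl

theorem exists_stab_aI {c : ↥(Cent S)} (h : c • aI S = aI S) :
    ∃ u z, (c : RG S) = P S 0 u 0 * tz S z := by
  obtain ⟨t, u, v, z, he⟩ := (exists_BB S).1 ((fix_infty S).1 (congrArg Subtype.val h))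
  have h1 : P S t u v ∈ Cent S := by
    have := mul_mem c.2 (inv_mem (tz_mem_Cent S z))
    rwa [he, mul_inv_cancel_right] at this
  obtain ⟨rfl, rfl⟩ := (P_mem_Cent S).1 h1
  exact ⟨u, z, he⟩

theorem card_Cent :
    Nat.card ↥(Cent S) = (Fintype.card K + 1) * (Fintype.card K * (Fintype.card K - 1)) := by
  classical
  have htr : MulAction.orbit ↥(Cent S) (aI S) = Set.univ := Set.eq_univ_of_forall fun x => by
    by_cases h : x = aO S
    · obtain ⟨c, hc, -⟩ := move_Ft S (x := x) (y := aI S) (h ▸ (aI_ne_aO S).symm)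
      exact ⟨c, hc⟩
    · obtain ⟨c, hc, -⟩ := move_Ft S h
      exact ⟨c, hc⟩
  have h1 := Nat.card_congr (MulAction.orbitProdStabilizerEquivGroup ↥(Cent S) (aI S))
  rw [Nat.card_prod] at h1
  let f : K × Kˣ → MulAction.stabilizer ↥(Cent S) (aI S) := fun x =>
    ⟨⟨P S 0 x.1 0 * tz S x.2, mul_mem (Q0_mem_Cent S x.1) (tz_mem_Cent S x.2)⟩, Subtype.ext (by
      show (P S 0 x.1 0 * tz S x.2) • infty S = infty S
      rw [mul_smul, tz_smul_infty, P_smul_infty])⟩
  have hf : Function.Bijective f := by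
    refine ⟨fun x y h => ?_, fun c => ?_⟩
    · obtain ⟨-, h2, -, h4⟩ := BB_unique S (congrArg (fun c => ((c.1 : ↥(Cent S)) : RG S)) h)
      exact Prod.ext h2 h4
    · obtain ⟨u, z, he⟩ := exists_stab_aI S c.2
      exact ⟨(u, z), Subtype.ext (Subtype.ext he.symm)⟩
  rw [← Nat.card_eq_of_bijective _ hf, Nat.card_prod, Nat.card_units, htr,
    Nat.card_congr (Equiv.Set.univ (Ft S)), card_Ft] at h1
  rw [← h1, Nat.card_eq_fintype_card]

/-! ### The induced group -/

/-- The action of the centraliser on the fixed points. -/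
noncomputable def rho : ↥(Cent S) →* Equiv.Perm (Ft S) := MulAction.toPermHom ↥(Cent S) (Ft S)

theorem rho_apply (c : ↥(Cent S)) (x : Ft S) : rho S c x = c • x := rfl

theorem rho_eq_one {c : ↥(Cent S)} : rho S c = 1 ↔ (c : RG S) = 1 ∨ (c : RG S) = tau S := by
  constructor
  · intro h
    have hx : ∀ x : Ft S, (c : RG S) • x.1 = x.1 := fun x =>
      congrArg Subtype.val (show c • x = x by rw [← rho_apply, h]; rfl)
    rcases fix_three S (hx (aI S)) (hx (aO S)) (P_smul_ne S 0 1 0)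
      (fun e => one_ne_zero (P_smul_inj S (e.trans (zero_eq_P S))).2.1) (hx (aP S 1)) with h1 | ⟨h1, -⟩
    · exact Or.inl h1
    · exact Or.inr h1
  · rintro (h | h) <;> refine Equiv.ext fun x => Subtype.ext ?_
    · show (c : RG S) • x.1 = x.1
      rw [h, one_smul]
    · show (c : RG S) • x.1 = x.1
      rw [h]; exact x.2

theorem card_ker_rho : Nat.card (rho S).ker = 2 := by
  rw [Nat.card_eq_two_iff]
  refine ⟨1, ⟨⟨tau S, tau_mem_Cent S⟩, (rho_eq_one S).2 (Or.inr rfl)⟩,
    fun h => tau_ne S (congrArg (fun c => ((c.1 : ↥(Cent S)) : RG S)) h).symm, ?_⟩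
  refine Set.eq_univ_of_forall fun c => ?_
  rcases (rho_eq_one S).1 c.2 with h | h
  · exact Or.inl (Subtype.ext (Subtype.ext h))
  · exact Or.inr (Subtype.ext (Subtype.ext h))

/-- The group induced on the fixed points. -/
noncomputable def Cb : Subgroup (Equiv.Perm (Ft S)) := (rho S).range

theorem card_Cb :
    2 * Nat.card ↥(Cb S) = (Fintype.card K + 1) * (Fintype.card K * (Fintype.card K - 1)) := by
  rw [← card_Cent, ← Subgroup.card_mul_index (rho S).ker, card_ker_rho, Subgroup.index_ker, Cb]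

/-- The induced map onto the induced group. -/
noncomputable def rhoR : ↥(Cent S) →* ↥(Cb S) := (rho S).rangeRestrict

theorem rhoR_surj : Function.Surjective (rhoR S) := MonoidHom.rangeRestrict_surjective _

theorem rhoR_smul (c : ↥(Cent S)) (x : Ft S) : rhoR S c • x = c • x := rfl

/-- The image of the torus. -/
noncomputable def torC : Kˣ →* ↥(Cb S) := (rhoR S).comp ((tz S).codRestrict (Cent S) (tz_mem_Cent S))

theorem mem_torC {g : ↥(Cb S)} (h1 : g • aI S = aI S) (h2 : g • aO S = aO S) : ∃ z, torC S z = g := by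
  obtain ⟨c, rfl⟩ := rhoR_surj S g
  rw [rhoR_smul] at h1 h2
  obtain ⟨z, hz⟩ := fix_pair S (congrArg Subtype.val h1) (congrArg Subtype.val h2)
  exact ⟨z, congrArg (rhoR S) (Subtype.ext hz.symm)⟩

theorem torC_fix (z : Kˣ) : torC S z • aI S = aI S ∧ torC S z • aO S = aO S :=
  ⟨Subtype.ext (tz_smul_infty S z), Subtype.ext (tz_smul_zero S z)⟩

theorem card_stab_pair :
    2 * Nat.card ↥(MulAction.stabilizer ↥(Cb S) (aI S) ⊓ MulAction.stabilizer ↥(Cb S) (aO S)) =
      Fintype.card K - 1 := by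
  classical
  have hr : (torC S).range =
      MulAction.stabilizer ↥(Cb S) (aI S) ⊓ MulAction.stabilizer ↥(Cb S) (aO S) := by
    ext g
    refine ⟨?_, fun h => mem_torC S h.1 h.2⟩
    rintro ⟨z, rfl⟩
    exact torC_fix S z
  have hk : Nat.card (torC S).ker = 2 := by
    rw [Nat.card_eq_two_iff]
    have hm : ∀ z : Kˣ, z ∈ (torC S).ker ↔ z = 1 ∨ z = -1 := fun z => by
      rw [MonoidHom.mem_ker, ← (tz_inj S).eq_iff, ← (tz_inj S).eq_iff (b := -1), map_one]
      rw [Subtype.ext_iff]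
      exact rho_eq_one S
    refine ⟨1, ⟨-1, (hm _).2 (Or.inr rfl)⟩, fun h => neg_one_ne S (congrArg Subtype.val h).symm, ?_⟩
    refine Set.eq_univ_of_forall fun c => ?_
    rcases (hm c.1).1 c.2 with h | h
    · exact Or.inl (Subtype.ext h)
    · exact Or.inr (Subtype.ext h)
  rw [← hr, ← Subgroup.index_ker, ← hk, Subgroup.card_mul_index, Nat.card_units, Nat.card_eq_fintype_card]

theorem three_point : Zassenhaus.ThreePoint ↥(Cb S) (Ft S) := by
  intro g a b c hab hbc hac ha hb hc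
  obtain ⟨d, rfl⟩ := rhoR_surj S g
  rw [rhoR_smul] at ha hb hc
  obtain ⟨k, rfl, rfl⟩ := move_Ft S hab
  have h1 : ∀ x : Ft S, d • k • x = k • x → (k⁻¹ * d * k) • x = x := fun x h => by
    rw [mul_smul, mul_smul, h, inv_smul_smul]
  have hc' := h1 (k⁻¹ • c) (by rwa [smul_inv_smul])
  have hne : (k⁻¹ * d * k : ↥(Cent S)) = 1 ∨ ((k⁻¹ * d * k : ↥(Cent S)) : RG S) = tau S := by
    rcases fix_three S (congrArg Subtype.val (h1 _ ha)) (congrArg Subtype.val (h1 _ hb))
      (x := (k⁻¹ • c).1) (fun e => hac (by rw [← smul_inv_smul k c]; exact congrArg (k • ·) (Subtype.ext e).symm))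
      (fun e => hbc (by rw [← smul_inv_smul k c]; exact congrArg (k • ·) (Subtype.ext e).symm))
      (congrArg Subtype.val hc') with h | ⟨h, -⟩
    · exact Or.inl (Subtype.ext h)
    · exact Or.inr h
  have h2 : rhoR S (k⁻¹ * d * k) = 1 := Subtype.ext ((rho_eq_one S).2 (hne.imp (congrArg Subtype.val) id))
  rwa [map_mul, map_mul, map_inv, mul_eq_one_iff_eq_inv, inv_mul_eq_iff_eq_mul,
    mul_inv_cancel] at h2

/-- The centraliser induces the projective special linear group on the fixed points. -/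
theorem Cb_equiv : Nonempty (↥(Cb S) ≃* Matrix.ProjectiveSpecialLinearGroup (Fin 2) K) := by
  classical
  have hq := card_K S
  have hC := card_Cb S
  rcases Nat.eq_zero_or_pos m with hm | hm
  · subst hm
    rw [hq] at hC
    simp only [Nat.reduceMul, Nat.reduceAdd, Nat.reducePow, Nat.reduceSub] at hC
    have h4 : Nat.card (Ft S) = 4 := by rw [card_Ft, hq]; norm_num
    set e := (Finite.equivFinOfCardEq h4).permCongrHom
    have hidx : ((Cb S).map e.toMonoidHom).index = 2 := by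
      have := Subgroup.card_mul_index ((Cb S).map e.toMonoidHom)
      rw [← Nat.card_congr ((Cb S).equivMapOfInjective e.toMonoidHom e.injective).toEquiv, Nat.card_perm,
        Nat.card_fin] at this
      rw [show Nat.factorial 4 = 24 from rfl] at this
      have h12 : Nat.card ↥(Cb S) = 12 := by omega
      rw [h12] at this
      omega
    obtain ⟨p⟩ := Lead.ProjLine.psl23 (F := K) (by rw [hq]; norm_num)
    exact ⟨(((Cb S).equivMapOfInjective e.toMonoidHom e.injective).trans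
      (MulEquiv.subgroupCongr (Equiv.Perm.eq_alternatingGroup_of_index_eq_two hidx))).trans p.symm⟩
  haveI : Fintype (Ft S) := Fintype.ofFinite _
  haveI : Fintype ↥(Cb S) := Fintype.ofFinite _
  have h4 := card_mod_four' S
  have h27 : 27 ≤ Fintype.card K := by
    rw [hq]
    calc 27 = 3 ^ 3 := by norm_num
      _ ≤ _ := Nat.pow_le_pow_right (by norm_num) (by omega)
  have he := card_stab_pair S
  have hctx : Lie.ZassenhausCount.OddCtx ↥(Cb S) (Ft S) (aI S) (aO S) (Fintype.card K)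
      ((Fintype.card K - 1) / 2) := by
    refine ⟨?_, three_point S, aI_ne_aO S, ?_, by omega, by omega, ?_, by omega, ?_, ?_⟩
    · rw [MulAction.is_two_pretransitive_iff]
      intro a b c d hab hcd
      obtain ⟨k, hka, hkb⟩ := move_Ft S hab
      obtain ⟨l, hla, hlb⟩ := move_Ft S hcd
      refine ⟨rhoR S (l * k⁻¹), ?_, ?_⟩ <;> rw [rhoR_smul, mul_smul]
      · rw [← hka, inv_smul_smul, hla]
      · rw [← hkb, inv_smul_smul, hlb]
    · rw [← Nat.card_eq_fintype_card, card_Ft]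
    · exact Nat.odd_iff.2 (by omega)
    · intro x hx y hy
      obtain ⟨a, rfl⟩ := mem_torC S hx.1 hx.2
      obtain ⟨b, rfl⟩ := mem_torC S hy.1 hy.2
      rw [← map_mul, ← map_mul, mul_comm]
    · intro s h1 h2
      obtain ⟨c, rfl⟩ := rhoR_surj S s
      rw [rhoR_smul] at h1 h2
      obtain ⟨z, hz⟩ := swap_eq S (congrArg Subtype.val h1) (congrArg Subtype.val h2)
      have hcc : c * c = 1 := Subtype.ext (by rw [Subgroup.coe_mul, hz]; exact nn_tz_sq S z)
      refine ⟨by rw [← map_mul, hcc, map_one], fun x hx => ?_⟩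
      obtain ⟨a, rfl⟩ := mem_torC S hx.1 hx.2
      show rhoR S c * rhoR S _ * (rhoR S c)⁻¹ = (rhoR S _)⁻¹
      rw [← map_inv, ← map_inv, ← map_mul, ← map_mul]
      refine congrArg (rhoR S) (Subtype.ext ?_)
      show (c : RG S) * tz S a * (c : RG S)⁻¹ = (tz S a)⁻¹
      rw [hz]
      calc nn S * tz S z * tz S a * (nn S * tz S z)⁻¹ = nn S * (tz S z * tz S a * (tz S z)⁻¹) * (nn S)⁻¹ := by
            group
        _ = _ := by rw [← map_mul, mul_comm z, map_mul, mul_inv_cancel_right, nn_tz, mul_inv_cancel_right]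
  let ι : Multiplicative K →* ↥(Cent S) :=
    MonoidHom.mk' (fun u => ⟨P S 0 u.toAdd 0, Q0_mem_Cent S _⟩) fun u v => Subtype.ext (by
      show P S 0 (u.toAdd + v.toAdd) 0 = P S 0 u.toAdd 0 * P S 0 v.toAdd 0
      rw [P_mul, zero_pow_s]
      congr 1 <;> ring)
  have hUa : ((rhoR S).comp ι).range ≤ MulAction.stabilizer ↥(Cb S) (aI S) := by
    rintro - ⟨u, rfl⟩
    exact Subtype.ext (P_smul_infty S _ _ _)
  have hUn : ∀ g ∈ MulAction.stabilizer ↥(Cb S) (aI S), ∀ k ∈ ((rhoR S).comp ι).range,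
      g * k * g⁻¹ ∈ ((rhoR S).comp ι).range := by
    rintro g hg - ⟨u, rfl⟩
    obtain ⟨c, rfl⟩ := rhoR_surj S g
    obtain ⟨w, z, he⟩ := exists_stab_aI S (c := c) hg
    refine ⟨Multiplicative.ofAdd ((z : K) ^ (3 * 3 ^ m) * (z : K)⁻¹ * u.toAdd), ?_⟩
    show rhoR S _ = rhoR S c * rhoR S _ * (rhoR S c)⁻¹
    rw [← map_inv, ← map_mul, ← map_mul]
    refine congrArg (rhoR S) (Subtype.ext ?_)
    show P S 0 _ 0 = (c : RG S) * P S 0 u.toAdd 0 * (c : RG S)⁻¹
    rw [he, show P S 0 w 0 * tz S z * P S 0 u.toAdd 0 * (P S 0 w 0 * tz S z)⁻¹ =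
      P S 0 w 0 * (tz S z * P S 0 u.toAdd 0 * (tz S z)⁻¹) * (P S 0 w 0)⁻¹ by group, tz_conj]
    simp only [mul_zero]
    rw [eq_mul_inv_iff_mul_eq, P_mul, P_mul, zero_pow_s]
    congr 1 <;> simp [toAdd_ofAdd] <;> ring
  have hUc : ∀ x y : ((rhoR S).comp ι).range, x * y = y * x := by
    rintro ⟨-, u, rfl⟩ ⟨-, v, rfl⟩
    exact Subtype.ext (by rw [Subgroup.coe_mul, Subgroup.coe_mul, ← map_mul, ← map_mul, mul_comm u v])
  have hreg : ∀ c : Ft S, c ≠ aI S → ∃! k : ((rhoR S).comp ι).range, (k : ↥(Cb S)) • aO S = c := by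
    intro c hc
    rcases Ft_cases S c with rfl | ⟨u, rfl⟩
    · exact absurd rfl hc
    · refine ⟨⟨_, Multiplicative.ofAdd u, rfl⟩, rfl, ?_⟩
      rintro ⟨-, v, rfl⟩ h
      have hv : v.toAdd = u := aP_inj S h
      exact Subtype.ext (by rw [← hv, ofAdd_toAdd])
  obtain ⟨F, _, _, hchar, ⟨ψ'⟩⟩ := Lie.ZassenhausHalfOdd.psl_of_half_odd hctx (by omega)
    ((rhoR S).comp ι).range hUa hUn hUc hreg
  have hF2 : (2 : F) ≠ 0 := Ring.two_ne_zero hchar
  have h1 := Classical.Dickson.card_psl F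
  rw [Classical.Dickson.two_dvd_pred hF2, ← Nat.card_congr ψ'.toEquiv, mul_comm, hC] at h1
  have hcard : Fintype.card K = Fintype.card F := by
    by_contra hne
    have hexp : ∀ n : ℕ, 1 ≤ n → (n + 1) * (n * (n - 1)) = n * (n ^ 2 - 1) := fun n hn => by
      obtain ⟨k, rfl⟩ := Nat.exists_eq_add_of_le hn
      rw [show (1 + k) ^ 2 - 1 = k * k + 2 * k by rw [pow_two, Nat.sub_eq_iff_eq_add (by nlinarith)]; ring,
        Nat.add_sub_cancel_left]
      ring
    rw [hexp _ (by omega)] at h1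
    have hmono : ∀ a b : ℕ, 1 ≤ a → a < b → a * (a ^ 2 - 1) < b * (b ^ 2 - 1) := fun a b ha hab =>
      Nat.mul_lt_mul_of_lt_of_le hab (Nat.sub_le_sub_right (Nat.pow_le_pow_left hab.le 2) 1)
        (by have : 4 ≤ b ^ 2 := Nat.pow_le_pow_left (show 2 ≤ b by omega) 2; omega)
    rcases Nat.lt_or_gt_of_ne hne with h | h
    · exact (hmono _ _ (by omega) h).ne h1
    · exact (hmono _ _ Fintype.card_pos h).ne h1.symm
  exact ⟨ψ'.trans (Classical.Dickson.pslCongr (FiniteField.ringEquivOfCardEq hcard.symm))⟩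

end Cfsg.Agent.Small.Ree
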