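import Cfsg.Agent.Lib.Small.Ree.TorusTwoNorm

/-!
The small Ree groups: arithmetic of the order, and conjugacy into the two small tori.
-/

set_option autoImplicit false
set_option synthInstance.maxHeartbeats 400000
set_option maxHeartbeats 1600000
set_option maxRecDepth 4000
set_option linter.style.haveILetI false

namespace Cfsg.Agent.Small.Ree

open Cfsg Cfsg.Lie Cfsg.Agent.Lie Cfsg.Agent.Lie.Twist Matrix
open scoped MatrixGroups
open Cfsg.Agent.Lie.G2 (Os Setup)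
open Cfsg.Agent.Small.TwistAut Cfsg.Agent.Small.TwistAut.G2

section Generic

theorem zpowers_isPGroup {G : Type*} [Group G] {p : ℕ} [Fact p.Prime] {x : G} {j : ℕ} (h : x ^ p ^ j = 1) :
    IsPGroup p ↥(Subgroup.zpowers x) := by
  rintro ⟨w, hw⟩
  obtain ⟨i, rfl⟩ := Subgroup.mem_zpowers_iff.1 hw
  exact ⟨j, Subtype.ext (by
    show (x ^ i) ^ p ^ j = 1
    rw [← zpow_natCast, ← _root_.zpow_mul, mul_comm, _root_.zpow_mul, zpow_natCast, h, _root_.one_zpow])⟩

/-- A `p`-subgroup is conjugate into a subgroup containing a full Sylow subgroup. -/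
theorem pgroup_conj_into {G : Type*} [Group G] [Finite G] {p : ℕ} [Fact p.Prime] {A Q : Subgroup G}
    (hfac : (Nat.card G).factorization p = (Nat.card A).factorization p) (hQ : IsPGroup p Q) :
    ∃ g : G, ∀ x ∈ Q, g⁻¹ * x * g ∈ A := by
  obtain ⟨R, hR⟩ := Sylow.exists_subgroup_card_pow_prime p (G := A) (n := (Nat.card A).factorization p)
    (Nat.ordProj_dvd _ _)
  set T : Sylow p G := Sylow.ofCard (R.map A.subtype) (by
    rw [← Nat.card_congr (Subgroup.equivMapOfInjective _ _ A.subtype_injective).toEquiv, hR, hfac]) with hT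
  obtain ⟨P, hP⟩ := hQ.exists_le_sylow
  obtain ⟨g, hg⟩ := MulAction.exists_smul_eq G T P
  refine ⟨g, fun x hx => ?_⟩
  have h2 : x ∈ (P : Subgroup G) := hP hx
  rw [← hg, Sylow.coe_subgroup_smul, Subgroup.mem_pointwise_smul_iff_inv_smul_mem, ← map_inv,
    MulAut.smul_def, MulAut.conj_apply, inv_inv] at h2
  exact Subgroup.map_subtype_le R h2

/-- An element of prime order inside a given subgroup. -/
theorem exists_prime_mem {G : Type*} [Group G] [Finite G] (H : Subgroup G) (h : 1 < Nat.card H) :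
    ∃ x ∈ H, ∃ p : ℕ, p.Prime ∧ orderOf x = p := by
  obtain ⟨p, hp, hpd⟩ := Nat.exists_prime_and_dvd h.ne'
  haveI : Fact p.Prime := ⟨hp⟩
  obtain ⟨y, hy⟩ := exists_prime_orderOf_dvd_card' p hpd
  exact ⟨y, y.2, p, hp, by rw [Subgroup.orderOf_coe, hy]⟩

end Generic

variable {K : Type*} [Field K] [Fintype K] {m : ℕ} (S : Setup K m)

theorem card_split : Nat.card (RG S) = 8 * Fintype.card K ^ 3 * ((Fintype.card K - 1) / 2) *
    ((Fintype.card K + 1) / 4) * (Fintype.card K ^ 2 - Fintype.card K + 1) := by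
  have h8 := card_mod_eight S
  show Nat.card ↥(twistedG2 K (3 ^ m)) = _
  rw [S.card_group, ← card_K S]
  have hle : Fintype.card K ≤ Fintype.card K ^ 2 := Nat.le_self_pow two_ne_zero _
  have e : Fintype.card K ^ 3 + 1 = (Fintype.card K + 1) * (Fintype.card K ^ 2 - Fintype.card K + 1) := by
    zify [hle]; ring
  rw [e]
  obtain ⟨a, ha⟩ : ∃ a, Fintype.card K - 1 = 2 * a := ⟨(Fintype.card K - 1) / 2, by omega⟩
  obtain ⟨b, hb⟩ : ∃ b, Fintype.card K + 1 = 4 * b := ⟨(Fintype.card K + 1) / 4, by omega⟩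
  rw [ha, hb, Nat.mul_div_cancel_left _ (by norm_num : (0 : ℕ) < 2),
    Nat.mul_div_cancel_left _ (by norm_num : (0 : ℕ) < 4)]
  ring

include S in
theorem odd_sextic : Odd (Fintype.card K ^ 2 - Fintype.card K + 1) := by
  obtain ⟨k, hk⟩ := odd_card S
  refine ⟨2 * k * k + k, ?_⟩
  have hle : Fintype.card K ≤ Fintype.card K ^ 2 := Nat.le_self_pow two_ne_zero _
  zify [hle]
  rw [hk]; push_cast; ring

include S in
/-- The three factors of the order are prime to each other and to six. -/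
theorem factor_prime {p : ℕ} (hp : p.Prime) :
    (p ∣ (Fintype.card K - 1) / 2 → p ≠ 2 ∧ p ≠ 3 ∧ ¬ p ∣ (Fintype.card K + 1) / 4 ∧
      ¬ p ∣ Fintype.card K ^ 2 - Fintype.card K + 1) ∧
    (p ∣ (Fintype.card K + 1) / 4 → p ≠ 2 ∧ p ≠ 3 ∧ ¬ p ∣ (Fintype.card K - 1) / 2 ∧
      ¬ p ∣ Fintype.card K ^ 2 - Fintype.card K + 1) ∧
    (p ∣ Fintype.card K ^ 2 - Fintype.card K + 1 → p ≠ 2 ∧ p ≠ 3 ∧ ¬ p ∣ (Fintype.card K - 1) / 2 ∧
      ¬ p ∣ (Fintype.card K + 1) / 4) := by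
  have h8 := card_mod_eight S
  obtain ⟨h4b, hbodd, -⟩ := quarter_facts S
  obtain ⟨k, hk⟩ : ∃ k, Fintype.card K = 3 * k := ⟨Fintype.card K / 3, by
    have : Fintype.card K % 3 = 0 := by rw [card_K S, pow_succ]; simp
    omega⟩
  have hle : Fintype.card K ≤ Fintype.card K ^ 2 := Nat.le_self_pow two_ne_zero _
  have hK3 : ¬ 3 ∣ Fintype.card K ^ 2 - Fintype.card K + 1 := by
    have : 3 ∣ Fintype.card K ^ 2 := Dvd.dvd.pow ⟨k, hk⟩ two_ne_zero
    omega
  have hKodd : ¬ 2 ∣ Fintype.card K ^ 2 - Fintype.card K + 1 := fun h =>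
    (Nat.not_even_iff_odd.2 (odd_sextic S)) (even_iff_two_dvd.2 h)
  have hA : ∀ {d : ℕ}, d ∣ (Fintype.card K - 1) / 2 → d ∣ Fintype.card K - 1 := fun h =>
    h.trans (Nat.div_dvd_of_dvd (by omega))
  have hB : ∀ {d : ℕ}, d ∣ (Fintype.card K + 1) / 4 → d ∣ Fintype.card K + 1 := fun h =>
    h.trans (Nat.div_dvd_of_dvd ⟨_, h4b⟩)
  have hAK : p ∣ (Fintype.card K - 1) / 2 → ¬ p ∣ Fintype.card K ^ 2 - Fintype.card K + 1 := fun h1 h2 => by
    have h3 : p ∣ (Fintype.card K - 1) * Fintype.card K := (hA h1).mul_right _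
    have e : (Fintype.card K - 1) * Fintype.card K = Fintype.card K ^ 2 - Fintype.card K := by
      rw [Nat.sub_mul, one_mul, pow_two]
    rw [e] at h3
    exact hp.ne_one (Nat.dvd_one.1 ((Nat.dvd_add_right h3).1 h2))
  have hBK : p ∣ (Fintype.card K + 1) / 4 → ¬ p ∣ Fintype.card K ^ 2 - Fintype.card K + 1 := fun h1 h2 => by
    have h3 : p ∣ (Fintype.card K + 1) * (Fintype.card K - 2) := (hB h1).mul_right _
    have e : (Fintype.card K + 1) * (Fintype.card K - 2) + 3 = Fintype.card K ^ 2 - Fintype.card K + 1 := by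
      zify [hle, (by omega : 2 ≤ Fintype.card K)]; ring
    rw [← e] at h2
    obtain rfl := (Nat.prime_dvd_prime_iff_eq hp Nat.prime_three).1 ((Nat.dvd_add_right h3).1 h2)
    have := hB h1
    omega
  have hAB : p ∣ (Fintype.card K - 1) / 2 → ¬ p ∣ (Fintype.card K + 1) / 4 := fun h1 h2 => by
    have h := Nat.dvd_sub (hB h2) (hA h1)
    rw [show Fintype.card K + 1 - (Fintype.card K - 1) = 2 by omega] at h
    obtain rfl := (Nat.prime_dvd_prime_iff_eq hp Nat.prime_two).1 h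
    exact (Nat.not_even_iff_odd.2 hbodd) (even_iff_two_dvd.2 h2)
  refine ⟨fun h => ⟨?_, ?_, hAB h, hAK h⟩, fun h => ⟨?_, ?_, fun h' => hAB h' h, hBK h⟩,
    fun h => ⟨?_, ?_, fun h' => hAK h' h, fun h' => hBK h' h⟩⟩
  · rintro rfl; omega
  · rintro rfl
    have := hA h
    omega
  · rintro rfl; exact (Nat.not_even_iff_odd.2 hbodd) (even_iff_two_dvd.2 h)
  · rintro rfl
    have := hB h
    omega
  · rintro rfl; exact hKodd h
  · rintro rfl; exact hK3 h

theorem factorization_split {p : ℕ} (hp : p.Prime) (h2 : p ≠ 2) (h3 : p ≠ 3) :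
    (Nat.card (RG S)).factorization p = ((Fintype.card K - 1) / 2).factorization p +
      ((Fintype.card K + 1) / 4).factorization p +
      (Fintype.card K ^ 2 - Fintype.card K + 1).factorization p := by
  have h8 := card_mod_eight S
  have hq : Fintype.card K = 3 ^ (2 * m + 1) := card_K S
  have hz : (8 * Fintype.card K ^ 3).factorization p = 0 := by
    refine Nat.factorization_eq_zero_of_not_dvd fun h => ?_
    rcases hp.dvd_mul.1 h with h' | h'
    · rw [show (8 : ℕ) = 2 ^ 3 from rfl] at h'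
      exact h2 ((Nat.prime_dvd_prime_iff_eq hp Nat.prime_two).1 (hp.dvd_of_dvd_pow h'))
    · rw [hq] at h'
      exact h3 ((Nat.prime_dvd_prime_iff_eq hp Nat.prime_three).1 (hp.dvd_of_dvd_pow (hp.dvd_of_dvd_pow h')))
  have n1 : 8 * Fintype.card K ^ 3 ≠ 0 := mul_ne_zero (by norm_num) (pow_ne_zero _ (by omega))
  have n2 : (Fintype.card K - 1) / 2 ≠ 0 := by omega
  have n3 : (Fintype.card K + 1) / 4 ≠ 0 := by omega
  rw [card_split, Nat.factorization_mul (mul_ne_zero (mul_ne_zero n1 n2) n3) (Nat.succ_ne_zero _),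
    Nat.factorization_mul (mul_ne_zero n1 n2) n3, Nat.factorization_mul n1 n2]
  simp only [Finsupp.add_apply, hz, zero_add]

theorem fac_A1 {p : ℕ} (hp : p.Prime) (h : p ∣ (Fintype.card K - 1) / 2) :
    (Nat.card (RG S)).factorization p = (Nat.card ↥(A1 S)).factorization p := by
  obtain ⟨h2, h3, hb, hk⟩ := (factor_prime S hp).1 h
  rw [factorization_split S hp h2 h3, Nat.factorization_eq_zero_of_not_dvd hb,
    Nat.factorization_eq_zero_of_not_dvd hk, add_zero, add_zero]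
  congr 2
  have := card_A1 S
  omega

theorem fac_A2 {p : ℕ} (hp : p.Prime) (h : p ∣ (Fintype.card K + 1) / 4) :
    (Nat.card (RG S)).factorization p = (Nat.card ↥(A2 S)).factorization p := by
  obtain ⟨h2, h3, ha, hk⟩ := (factor_prime S hp).2.1 h
  rw [factorization_split S hp h2 h3, Nat.factorization_eq_zero_of_not_dvd ha,
    Nat.factorization_eq_zero_of_not_dvd hk, zero_add, add_zero, card_A2]

theorem mem_A1_iff {g : RG S} (hg : g ∈ HH S) : g ∈ A1 S ↔ g ^ Nat.card ↥(A1 S) = 1 := by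
  refine ⟨fun h => congrArg Subtype.val (pow_card_eq_one' (x := (⟨g, h⟩ : A1 S))), fun h => ?_⟩
  obtain ⟨z, rfl⟩ := hg
  rw [← map_pow, ← map_one (tz S), (tz_inj S).eq_iff] at h
  obtain ⟨a, -, ⟨k, rfl⟩, -, h1, -⟩ := exists_halves S
  have hc := card_A1 S
  rw [show Nat.card ↥(A1 S) = 2 * k + 1 by omega] at h
  refine ⟨z ^ (k + 1), ?_⟩
  rw [MonoidHom.comp_apply, powMonoidHom_apply, ← pow_mul,
    show (k + 1) * 2 = 2 * k + 1 + 1 by ring, pow_succ, h, one_mul]

/-- A subgroup commuting with an element of prime order `p ∣ (q - 1) / 2` is conjugate into the torus. -/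
theorem conj_into_HH {H : Subgroup (RG S)} {x : RG S} {p : ℕ} (hp : p.Prime)
    (hpd : p ∣ (Fintype.card K - 1) / 2) (hx : orderOf x = p) (hH : ∀ h ∈ H, h * x = x * h) :
    ∃ g : RG S, (∀ h ∈ H, g⁻¹ * h * g ∈ HH S) ∧ g⁻¹ * x * g ∈ A1 S ∧ g⁻¹ * x * g ≠ 1 := by
  haveI : Fact p.Prime := ⟨hp⟩
  obtain ⟨g, hg⟩ := pgroup_conj_into (fac_A1 S hp hpd)
    (zpowers_isPGroup (x := x) (p := p) (j := 1) (by rw [pow_one, ← hx, pow_orderOf_eq_one]))
  have hxg := hg x (Subgroup.mem_zpowers x)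
  have hne : g⁻¹ * x * g ≠ 1 := fun e => hp.ne_one (by
    rw [← hx, orderOf_eq_one_iff]
    rw [mul_assoc, inv_mul_eq_one, eq_comm, mul_eq_right] at e
    exact e)
  refine ⟨g, fun h hh => ?_, hxg, hne⟩
  rw [← centralizer_A1 S (A := Subgroup.zpowers (g⁻¹ * x * g)) (Subgroup.zpowers_le.2 hxg)
    (fun e => hne (Subgroup.zpowers_eq_bot.1 e))]
  refine Subgroup.mem_centralizer_iff.2 fun y hy => ?_
  obtain ⟨i, rfl⟩ := Subgroup.mem_zpowers_iff.1 hy
  exact Commute.zpow_left (show g⁻¹ * x * g * (g⁻¹ * h * g) = g⁻¹ * h * g * (g⁻¹ * x * g) by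
    calc g⁻¹ * x * g * (g⁻¹ * h * g) = g⁻¹ * (x * h) * g := by group
      _ = g⁻¹ * (h * x) * g := by rw [hH h hh]
      _ = _ := by group) i

/-- A subgroup commuting with an element of prime order `p ∣ (q + 1) / 4` is conjugate into the centraliser of
the second torus. -/
theorem conj_into_Z2 (h27 : 27 ≤ Fintype.card K) {H : Subgroup (RG S)} {x : RG S} {p : ℕ} (hp : p.Prime)
    (hpd : p ∣ (Fintype.card K + 1) / 4) (hx : orderOf x = p) (hH : ∀ h ∈ H, h * x = x * h) :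
    ∃ g : RG S, (∀ h ∈ H, g⁻¹ * h * g ∈ Z2 S) ∧ g⁻¹ * x * g ∈ A2 S ∧ g⁻¹ * x * g ≠ 1 := by
  haveI : Fact p.Prime := ⟨hp⟩
  obtain ⟨g, hg⟩ := pgroup_conj_into (fac_A2 S hp hpd)
    (zpowers_isPGroup (x := x) (p := p) (j := 1) (by rw [pow_one, ← hx, pow_orderOf_eq_one]))
  have hxg := hg x (Subgroup.mem_zpowers x)
  have hne : g⁻¹ * x * g ≠ 1 := fun e => hp.ne_one (by
    rw [← hx, orderOf_eq_one_iff]
    rw [mul_assoc, inv_mul_eq_one, eq_comm, mul_eq_right] at e
    exact e)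
  refine ⟨g, fun h hh => ?_, hxg, hne⟩
  rw [← centralizer_A2 S h27 (A := Subgroup.zpowers (g⁻¹ * x * g)) (Subgroup.zpowers_le.2 hxg)
    (fun e => hne (Subgroup.zpowers_eq_bot.1 e))]
  refine Subgroup.mem_centralizer_iff.2 fun y hy => ?_
  obtain ⟨i, rfl⟩ := Subgroup.mem_zpowers_iff.1 hy
  exact Commute.zpow_left (show g⁻¹ * x * g * (g⁻¹ * h * g) = g⁻¹ * h * g * (g⁻¹ * x * g) by
    calc g⁻¹ * x * g * (g⁻¹ * h * g) = g⁻¹ * (x * h) * g := by group
      _ = g⁻¹ * (h * x) * g := by rw [hH h hh]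
      _ = _ := by group) i

/-- Cyclic subgroups of order `d ∣ (q - 1) / 2` lie in the torus up to conjugacy. -/
theorem cyclic_conj_A1 {H : Subgroup (RG S)} (hH : IsCyclic H) (h1 : 1 < Nat.card H)
    (hd : Nat.card H ∣ Nat.card ↥(A1 S)) : ∃ g : RG S, H.map (MulAut.conj g⁻¹).toMonoidHom ≤ A1 S := by
  obtain ⟨x, hxH, p, hp, hx⟩ := exists_prime_mem H h1
  have hpd : p ∣ (Fintype.card K - 1) / 2 := by
    have h : p ∣ Nat.card H := hx ▸ Subgroup.orderOf_dvd_natCard H hxH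
    have h' := h.trans hd
    rwa [show Nat.card ↥(A1 S) = (Fintype.card K - 1) / 2 by have := card_A1 S; omega] at h'
  letI := IsCyclic.commGroup (α := H)
  obtain ⟨g, hg, -, -⟩ := conj_into_HH S hp hpd hx fun h hh =>
    congrArg Subtype.val (mul_comm (⟨h, hh⟩ : H) ⟨x, hxH⟩)
  refine ⟨g, ?_⟩
  rintro _ ⟨h, hh, rfl⟩
  show g⁻¹ * h * g⁻¹⁻¹ ∈ A1 S
  rw [inv_inv, mem_A1_iff S (hg h hh)]
  obtain ⟨c, hc⟩ := hd
  have hpow : h ^ Nat.card H = 1 := congrArg Subtype.val (pow_card_eq_one' (x := (⟨h, hh⟩ : H)))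
  have e := conj_pow (i := Nat.card ↥(A1 S)) (a := g⁻¹) (b := h)
  rw [inv_inv] at e
  rw [e, hc, pow_mul, hpow, one_pow, mul_one, inv_mul_cancel]

/-- Cyclic subgroups of order `d ∣ (q + 1) / 4` lie in the second torus up to conjugacy. -/
theorem cyclic_conj_A2 (h27 : 27 ≤ Fintype.card K) {H : Subgroup (RG S)} (hH : IsCyclic H)
    (h1 : 1 < Nat.card H) (hd : Nat.card H ∣ Nat.card ↥(A2 S)) :
    ∃ g : RG S, H.map (MulAut.conj g⁻¹).toMonoidHom ≤ A2 S := by
  obtain ⟨x, hxH, p, hp, hx⟩ := exists_prime_mem H h1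
  have hpd : p ∣ (Fintype.card K + 1) / 4 := by
    have h : p ∣ Nat.card H := hx ▸ Subgroup.orderOf_dvd_natCard H hxH
    have h' := h.trans hd
    rwa [card_A2] at h'
  letI := IsCyclic.commGroup (α := H)
  obtain ⟨g, hg, -, -⟩ := conj_into_Z2 S h27 hp hpd hx fun h hh =>
    congrArg Subtype.val (mul_comm (⟨h, hh⟩ : H) ⟨x, hxH⟩)
  refine ⟨g, ?_⟩
  rintro _ ⟨h, hh, rfl⟩
  show g⁻¹ * h * g⁻¹⁻¹ ∈ A2 S
  rw [inv_inv, mem_A2_iff S h27 (hg h hh)]
  rw [card_A2] at hd
  obtain ⟨c, hc⟩ := hd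
  have hpow : h ^ Nat.card H = 1 := congrArg Subtype.val (pow_card_eq_one' (x := (⟨h, hh⟩ : H)))
  have e := conj_pow (i := (Fintype.card K + 1) / 4) (a := g⁻¹) (b := h)
  rw [inv_inv] at e
  rw [e, hc, pow_mul, hpow, one_pow, mul_one, inv_mul_cancel]

include S in
theorem large_card (hm : 1 ≤ m) : 27 ≤ Fintype.card K := by
  rw [card_K S]
  calc 27 = 3 ^ 3 := by norm_num
    _ ≤ _ := Nat.pow_le_pow_right (by norm_num) (by omega)

/-- The centralisers of cyclic subgroups of the orders of the two small tori. -/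
theorem centralizers_small_tori (h27 : 27 ≤ Fintype.card K) (H : Subgroup (RG S)) (hH : IsCyclic H) :
    (Nat.card H = (Fintype.card K - 1) / 2 →
      IsCyclic ↥(Subgroup.centralizer (H : Set (RG S))) ∧
        Nat.card ↥(Subgroup.centralizer (H : Set (RG S))) = Fintype.card K - 1 ∧
        ∀ A : Subgroup (RG S), A ≤ H → A ≠ ⊥ →
          Subgroup.centralizer (A : Set (RG S)) = Subgroup.centralizer (H : Set (RG S))) ∧
    (Nat.card H = (Fintype.card K + 1) / 4 →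
      IsMulCommutative ↥(Subgroup.centralizer (H : Set (RG S))) ∧
        Nat.card ↥(Subgroup.centralizer (H : Set (RG S))) = Fintype.card K + 1 ∧
        (∀ x ∈ Subgroup.centralizer (H : Set (RG S)), orderOf x ≠ 4) ∧
        ∀ A : Subgroup (RG S), A ≤ H → A ≠ ⊥ →
          Subgroup.centralizer (A : Set (RG S)) = Subgroup.centralizer (H : Set (RG S))) := by
  have hmem : ∀ (g : RG S) (L : Subgroup (RG S)) (z : RG S),
      z ∈ L.map (MulAut.conj g).toMonoidHom ↔ g⁻¹ * z * g ∈ L := fun g L z => mem_map_conj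
  have hconj : ∀ (g : RG S) (A : Subgroup (RG S)),
      Subgroup.centralizer (A : Set (RG S)) =
        (Subgroup.centralizer ((A.map (MulAut.conj g⁻¹).toMonoidHom : Subgroup (RG S)) : Set (RG S))).map
          (MulAut.conj g).toMonoidHom := by
    intro g A
    ext z
    rw [hmem, Subgroup.mem_centralizer_iff, Subgroup.mem_centralizer_iff]
    constructor
    · rintro h _ ⟨a, ha, rfl⟩
      show g⁻¹ * a * g⁻¹⁻¹ * (g⁻¹ * z * g) = g⁻¹ * z * g * (g⁻¹ * a * g⁻¹⁻¹)
      calc g⁻¹ * a * g⁻¹⁻¹ * (g⁻¹ * z * g) = g⁻¹ * (a * z) * g := by group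
        _ = g⁻¹ * (z * a) * g := by rw [h a ha]
        _ = _ := by group
    · intro h a ha
      have h1 := h (g⁻¹ * a * g⁻¹⁻¹) ⟨a, ha, rfl⟩
      calc a * z = g * (g⁻¹ * a * g⁻¹⁻¹ * (g⁻¹ * z * g)) * g⁻¹ := by group
        _ = g * (g⁻¹ * z * g * (g⁻¹ * a * g⁻¹⁻¹)) * g⁻¹ := by rw [h1]
        _ = _ := by group
  have hne : ∀ (g : RG S) (A : Subgroup (RG S)), A ≠ ⊥ → A.map (MulAut.conj g).toMonoidHom ≠ ⊥ := fun g A hA h =>
    hA ((Subgroup.map_eq_bot_iff_of_injective A (MulAut.conj g).injective).1 h)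
  have hbot : ∀ L : Subgroup (RG S), 1 < Nat.card L → L ≠ ⊥ := fun L h e => by
    rw [e, Subgroup.card_bot] at h; exact lt_irrefl _ h
  constructor
  · intro hc
    have hc' : Nat.card H = Nat.card ↥(A1 S) := by have := card_A1 S; omega
    obtain ⟨g, hg⟩ := cyclic_conj_A1 S hH (by omega) (dvd_of_eq hc')
    have key : ∀ A : Subgroup (RG S), A ≤ H → A ≠ ⊥ →
        Subgroup.centralizer (A : Set (RG S)) = (HH S).map (MulAut.conj g).toMonoidHom := fun A hA hA1 => by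
      rw [hconj g A, centralizer_A1 S ((Subgroup.map_mono hA).trans hg) (hne _ _ hA1)]
    have hk := key H le_rfl (hbot H (by omega))
    refine ⟨?_, ?_, fun A hA hA1 => by rw [key A hA hA1, hk]⟩
    · rw [hk]
      haveI := cyclic_HH S
      exact isCyclic_of_surjective _ ((HH S).equivMapOfInjective _ (MulAut.conj g).injective).surjective
    · rw [hk, ← Nat.card_congr (Subgroup.equivMapOfInjective _ _ (MulAut.conj g).injective).toEquiv, card_HH]
  · intro hc
    obtain ⟨g, hg⟩ := cyclic_conj_A2 S h27 hH (by omega) (dvd_of_eq (hc.trans (card_A2 S).symm))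
    obtain ⟨hZC, hZc, hZab⟩ := Z2_props S h27
    have key : ∀ A : Subgroup (RG S), A ≤ H → A ≠ ⊥ →
        Subgroup.centralizer (A : Set (RG S)) = (Z2 S).map (MulAut.conj g).toMonoidHom := fun A hA hA1 => by
      rw [hconj g A, centralizer_A2 S h27 ((Subgroup.map_mono hA).trans hg) (hne _ _ hA1)]
    have hk := key H le_rfl (hbot H (by omega))
    have h4 : ∀ x ∈ Subgroup.centralizer (H : Set (RG S)), orderOf x ≠ 4 := fun x hx ho => by
      rw [hk, hmem] at hx
      have h1 : (⟨g⁻¹ * x * g, hZC hx⟩ : ↥(Cent S)) ^ 2 ^ 2 = 1 := Subtype.ext (by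
        show (g⁻¹ * x * g) ^ 2 ^ 2 = 1
        have e := conj_pow (i := 2 ^ 2) (a := g⁻¹) (b := x)
        rw [inv_inv] at e
        rw [e, show (2 : ℕ) ^ 2 = 4 from rfl, ← ho, pow_orderOf_eq_one, mul_one, inv_mul_cancel])
      have h2 : g⁻¹ * x * g * (g⁻¹ * x * g) = 1 := congrArg Subtype.val (two_elt S h1)
      have h3 : x * x = 1 := by
        calc x * x = g * (g⁻¹ * x * g * (g⁻¹ * x * g)) * g⁻¹ := by group
          _ = 1 := by rw [h2]; group
      have h5 := Nat.le_of_dvd two_pos (orderOf_dvd_of_pow_eq_one (x := x) (n := 2) (by rw [pow_two, h3]))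
      omega
    refine ⟨?_, ?_, h4, fun A hA hA1 => by rw [key A hA hA1, hk]⟩
    · rw [hk]
      refine ⟨⟨?_⟩⟩
      rintro ⟨_, a, ha, rfl⟩ ⟨_, b, hb, rfl⟩
      exact Subtype.ext (by rw [Subgroup.coe_mul, Subgroup.coe_mul, ← map_mul, ← map_mul, hZab a ha b hb])
    · rw [hk, ← Nat.card_congr (Subgroup.equivMapOfInjective _ _ (MulAut.conj g).injective).toEquiv, hZc]

end Cfsg.Agent.Small.Ree
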