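import Cfsg.Agent.Lib.Small.Ree.Singer

/-!
The small Ree groups: element orders in the Borel subgroup and the numbers of elements of each kind.
-/

set_option autoImplicit false
set_option synthInstance.maxHeartbeats 400000
set_option maxHeartbeats 1600000
set_option maxRecDepth 4000
set_option linter.style.haveILetI false

namespace Cfsg.Agent.Small.Ree

open Cfsg Cfsg.Lie Cfsg.Agent.Lie Cfsg.Agent.Lie.Twist Matrix
open scoped MatrixGroups
open Cfsg.Agent.Lie.G2 (Os Setup)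
open Cfsg.Agent.Small.TwistAut Cfsg.Agent.Small.TwistAut.G2

section Generic

/-- Counting the elements of a conjugation invariant kind which lie in one conjugate of a subgroup. -/
theorem count_conj {G : Type*} [Group G] [Finite G] (H N : Subgroup G) (p : G → Prop)
    (hinv : ∀ a g, p g → p (a⁻¹ * g * a))
    (hN : ∀ n ∈ N, ∀ h ∈ H, n⁻¹ * h * n ∈ H)
    (hcover : ∀ g, p g → ∃ a, a⁻¹ * g * a ∈ H)
    (huniq : ∀ h ∈ H, p h → ∀ a : G, a⁻¹ * h * a ∈ H → a ∈ N) :
    Nat.card {g : G // p g} * Nat.card N = Nat.card G * Nat.card {h : H // p h} := by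
  classical
  haveI := Fintype.ofFinite G
  have hinv' : ∀ a g, p g → p (a * g * a⁻¹) := fun a g hg => by
    have := hinv a⁻¹ g hg
    rwa [inv_inv] at this
  let Φ : G × {h : H // p h} → {g : G // p g} := fun x => ⟨x.1 * (x.2.1 : G) * x.1⁻¹, hinv' _ _ x.2.2⟩
  have hfib : ∀ g : {g : G // p g}, Nat.card {x : G × {h : H // p h} // Φ x = g} = Nat.card N := by
    intro g
    obtain ⟨a, ha⟩ := hcover g.1 g.2
    let Ψ : N → {x : G × {h : H // p h} // Φ x = g} := fun n =>
      ⟨(a * n, ⟨⟨(n : G)⁻¹ * (a⁻¹ * g.1 * a) * n, hN n n.2 _ ha⟩, hinv _ _ (hinv _ _ g.2)⟩), Subtype.ext (by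
        show a * (n : G) * ((n : G)⁻¹ * (a⁻¹ * g.1 * a) * n) * (a * (n : G))⁻¹ = g.1
        group)⟩
    have hΨ : Function.Bijective Ψ := by
      refine ⟨fun n n' h => ?_, ?_⟩
      · exact Subtype.ext (mul_left_cancel (congrArg (fun x => x.1.1) h))
      · rintro ⟨⟨b, h⟩, hb⟩
        have hb' : b * (h.1 : G) * b⁻¹ = g.1 := congrArg Subtype.val hb
        have hmem : a⁻¹ * b ∈ N := by
          have h1 : (a⁻¹ * b)⁻¹ * (a⁻¹ * g.1 * a) * (a⁻¹ * b) = (h.1 : G) := by rw [← hb']; group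
          exact huniq _ ha (hinv _ _ g.2) _ (h1 ▸ h.1.2)
        refine ⟨⟨a⁻¹ * b, hmem⟩, Subtype.ext (Prod.ext ?_ (Subtype.ext (Subtype.ext ?_)))⟩
        · show a * (a⁻¹ * b) = b
          group
        · show (a⁻¹ * b)⁻¹ * (a⁻¹ * g.1 * a) * (a⁻¹ * b) = (h.1 : G)
          rw [← hb']; group
    exact (Nat.card_eq_of_bijective Ψ hΨ).symm
  rw [← Nat.card_prod G, ← Nat.card_congr (Equiv.sigmaFiberEquiv Φ), Nat.card_sigma,
    Finset.sum_congr rfl (fun g _ => hfib g), Finset.sum_const, smul_eq_mul, Finset.card_univ,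
    ← Nat.card_eq_fintype_card]

theorem six_of {k : ℕ} (h6 : k ∣ 6) (h2 : ¬ k ∣ 2) (h3 : ¬ k ∣ 3) : k = 6 := by
  have := Nat.le_of_dvd (by norm_num) h6
  interval_cases k <;> simp_all

theorem conj_orderOf {G : Type*} [Group G] (a g : G) : orderOf (a⁻¹ * g * a) = orderOf g := by
  have := orderOf_injective (MulAut.conj a⁻¹).toMonoidHom (MulAut.conj a⁻¹).injective g
  simpa [mul_assoc] using this

end Generic

variable {K : Type*} [Field K] [Fintype K] {m : ℕ} (S : Setup K m)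

theorem P_eq_one {t u v : K} : P S t u v = 1 ↔ t = 0 ∧ u = 0 ∧ v = 0 := by
  rw [← P_zero S]
  exact ⟨P_inj S, fun ⟨h1, h2, h3⟩ => by rw [h1, h2, h3]⟩

theorem P_cube (t u v : K) : P S t u v ^ 3 = P S 0 0 (-(t ^ (3 * 3 ^ m) * t * t)) := by
  refine Subtype.ext ?_
  rw [Subgroup.coe_pow, pow_succ, pow_two, mul_comm 3 (3 ^ m), pow_mul]
  exact S.N3_cube t u v

open _root_.Classical in
/-- The orders of unipotent elements. -/
theorem order_P (t u v : K) (h : P S t u v ≠ 1) : orderOf (P S t u v) = if t = 0 then 3 else 9 := by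
  haveI : Fact (Nat.Prime 3) := ⟨Nat.prime_three⟩
  have hc := P_cube S t u v
  split_ifs with ht
  · refine orderOf_eq_prime ?_ h
    rw [hc, ht, mul_zero, neg_zero, P_zero]
  · have h9 : P S t u v ^ 3 ^ 2 = 1 := by
      rw [show (3 : ℕ) ^ 2 = 3 * 3 from rfl, pow_mul, hc, P_cube, zero_pow_s]
      simp [P_zero]
    refine orderOf_eq_prime_pow (p := 3) (n := 1) (fun e => ?_) h9
    rw [pow_one, hc, P_eq_one, neg_eq_zero] at e
    exact mul_ne_zero (mul_ne_zero (pow_ne_zero _ ht) ht) ht e.2.2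

theorem tau_sq_P (t u v : K) : (P S t u v * tau S) * (P S t u v * tau S) =
    P S 0 (2 * u + t ^ (3 * 3 ^ m) * -t * -1) (t * u + 2 * (t ^ (3 * 3 ^ m) * t * t)) := by
  rw [show P S t u v * tau S * (P S t u v * tau S) = P S t u v * (tau S * P S t u v * (tau S)⁻¹) by
    rw [tau_inv]; group, tau_conj, P_mul, (odd_s S).neg_pow]
  congr 1 <;> ring

theorem tau_coset_one {t u v : K} :
    (P S t u v * tau S) * (P S t u v * tau S) = 1 ↔ u = t ^ (3 * 3 ^ m) * t := by
  rw [tau_sq_P, P_eq_one]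
  constructor
  · rintro ⟨-, h, -⟩
    linear_combination -h + u * S.h3
  · intro h
    exact ⟨rfl, by rw [h]; linear_combination t ^ (3 * 3 ^ m) * t * S.h3,
      by rw [h]; linear_combination t ^ (3 * 3 ^ m) * t * t * S.h3⟩

open _root_.Classical in
/-- The orders in the coset of the involution. -/
theorem order_tau_coset (t u v : K) :
    orderOf (P S t u v * tau S) = if u = t ^ (3 * 3 ^ m) * t then 2 else 6 := by
  haveI : Fact (Nat.Prime 2) := ⟨Nat.prime_two⟩
  have hne : ∀ a b c : K, P S a b c * tau S ≠ 1 := fun a b c e => by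
    have h := (BB_unique S (t := a) (u := b) (v := c) (z := -1) (t' := 0) (u' := 0) (v' := 0) (z' := 1) (by
      rw [map_one, mul_one, P_zero]; exact e)).2.2.2
    exact neg_one_ne S h
  split_ifs with h
  · exact orderOf_eq_prime (by rw [pow_two]; exact (tau_coset_one S).2 h) (hne _ _ _)
  obtain ⟨g, hg⟩ : ∃ g, g = P S t u v * tau S := ⟨_, rfl⟩
  rw [← hg]
  obtain ⟨b, c, hgg⟩ : ∃ b c, g * g = P S 0 b c := ⟨_, _, by rw [hg]; exact tau_sq_P S t u v⟩
  have hgg1 : g * g ≠ 1 := fun e => h ((tau_coset_one S).1 (by rw [← hg]; exact e))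
  have h6 : g ^ 6 = 1 := by
    rw [show (6 : ℕ) = 2 * 3 from rfl, pow_mul, pow_two, hgg, P_cube, zero_pow_s, zero_mul, zero_mul,
      neg_zero, P_zero]
  have h3 : g ^ 3 ≠ 1 := by
    rw [pow_succ, pow_two, hgg, hg, ← mul_assoc, P_mul]
    exact hne _ _ _
  exact six_of (orderOf_dvd_of_pow_eq_one h6)
    (fun e => hgg1 (by rw [← pow_two]; exact orderOf_dvd_iff_pow_eq_one.1 e))
    (fun e => h3 (orderOf_dvd_iff_pow_eq_one.1 e))

/-- The other cosets consist of conjugates of torus elements. -/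
theorem other_coset (t u v : K) {z : Kˣ} (hz : z ^ 2 ≠ 1) :
    ∃ a : RG S, a⁻¹ * (P S t u v * tz S z) * a = tz S z := by
  let f : K × K × K → {g : RG S // g ∈ U1 S.data} := fun x =>
    ⟨P S x.1 x.2.1 x.2.2 * (tz S z * (P S x.1 x.2.1 x.2.2)⁻¹ * (tz S z)⁻¹), by
      obtain ⟨a, b, c, h⟩ := inv_U S x.1 x.2.1 x.2.2
      rw [h, tz_conj]
      exact mul_mem ((mem_U1_iff S).2 ⟨_, _, _, rfl⟩) ((mem_U1_iff S).2 ⟨_, _, _, rfl⟩)⟩
  have hinj : Function.Injective f := by
    intro x y h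
    have e : P S x.1 x.2.1 x.2.2 * (tz S z * (P S x.1 x.2.1 x.2.2)⁻¹ * (tz S z)⁻¹) =
        P S y.1 y.2.1 y.2.2 * (tz S z * (P S y.1 y.2.1 y.2.2)⁻¹ * (tz S z)⁻¹) := congrArg Subtype.val h
    rw [← mul_assoc (P S x.1 _ _), ← mul_assoc (P S y.1 _ _), mul_left_inj, ← mul_assoc, ← mul_assoc] at e
    have e2 := congrArg (fun g : RG S => g • P S x.1 x.2.1 x.2.2 • zero S) e
    simp only [mul_smul, inv_smul_smul, tz_smul_zero] at e2
    have hfix : tz S z • ((P S y.1 y.2.1 y.2.2)⁻¹ • P S x.1 x.2.1 x.2.2 • zero S) =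
        (P S y.1 y.2.1 y.2.2)⁻¹ • P S x.1 x.2.1 x.2.2 • zero S := by
      rw [eq_inv_smul_iff]; exact e2.symm
    rcases tz_fix_only S hz hfix with h1 | h1
    · exfalso
      rw [inv_smul_eq_iff, P_smul_infty] at h1
      exact P_smul_ne S _ _ _ h1
    · rw [inv_smul_eq_iff] at h1
      obtain ⟨h2, h3, h4⟩ := P_smul_inj S h1
      exact Prod.ext h2 (Prod.ext h3 h4)
  have hcard : Nat.card (K × K × K) = Nat.card {g : RG S // g ∈ U1 S.data} := by
    rw [show Nat.card {g : RG S // g ∈ U1 S.data} = Nat.card ↥(U1 S.data) from rfl, card_U1]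
    simp only [Nat.card_eq_fintype_card, Fintype.card_prod]
    ring
  obtain ⟨x, hx⟩ := ((Nat.bijective_iff_injective_and_card f).2 ⟨hinj, hcard⟩).2
    ⟨P S t u v, (mem_U1_iff S).2 ⟨t, u, v, rfl⟩⟩
  refine ⟨P S x.1 x.2.1 x.2.2, ?_⟩
  have e : P S x.1 x.2.1 x.2.2 * (tz S z * (P S x.1 x.2.1 x.2.2)⁻¹ * (tz S z)⁻¹) = P S t u v :=
    congrArg Subtype.val hx
  rw [← e]
  group

theorem tz_order_dvd (z : Kˣ) : orderOf (tz S z) ∣ Fintype.card K - 1 := by
  refine orderOf_dvd_of_pow_eq_one ?_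
  rw [← map_pow, ← Nat.card_eq_fintype_card, ← Nat.card_units, pow_card_eq_one', map_one]

include S in
theorem not_three_dvd_pred : ¬ 3 ∣ Fintype.card K - 1 := by
  have : Fintype.card K % 3 = 0 := by rw [card_K S, pow_succ]; simp
  have := Fintype.card_pos (α := K)
  omega

open _root_.Classical in
/-- The orders three, six and nine in the Borel subgroup. -/
theorem order_BB (t u v : K) (z : Kˣ) :
    (orderOf (P S t u v * tz S z) = 3 ↔ z = 1 ∧ t = 0 ∧ (u ≠ 0 ∨ v ≠ 0)) ∧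
    (orderOf (P S t u v * tz S z) = 6 ↔ z = -1 ∧ u ≠ t ^ (3 * 3 ^ m) * t) ∧
    (orderOf (P S t u v * tz S z) = 9 ↔ z = 1 ∧ t ≠ 0) ∧
    (3 ∣ orderOf (P S t u v * tz S z) → orderOf (P S t u v * tz S z) = 3 ∨
      orderOf (P S t u v * tz S z) = 6 ∨ orderOf (P S t u v * tz S z) = 9) := by
  have hne := (neg_one_ne S).symm
  by_cases hz : z ^ 2 = 1
  · rcases unit_sq hz with rfl | rfl
    · rw [map_one, mul_one]
      by_cases h1 : P S t u v = 1
      · obtain ⟨rfl, rfl, rfl⟩ := (P_eq_one S).1 h1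
        rw [h1, orderOf_one]
        simp [hne]
      rw [order_P S t u v h1]
      have h1' : ¬ (t = 0 ∧ u = 0 ∧ v = 0) := fun h => h1 ((P_eq_one S).2 h)
      by_cases ht : t = 0
      · subst ht
        rw [if_pos rfl]
        have huv : u ≠ 0 ∨ v ≠ 0 := by
          by_cases hu : u = 0
          · exact Or.inr fun hv => h1' ⟨rfl, hu, hv⟩
          · exact Or.inl hu
        exact ⟨⟨fun _ => ⟨rfl, rfl, huv⟩, fun _ => rfl⟩,
          ⟨fun h => absurd h (by norm_num), fun h => absurd h.1 hne⟩,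
          ⟨fun h => absurd h (by norm_num), fun h => absurd rfl h.2⟩, fun _ => Or.inl rfl⟩
      · simp [ht, hne]
    · rw [show tz S (-1 : Kˣ) = tau S from rfl, order_tau_coset]
      split_ifs with h <;> simp [h, neg_one_ne S]
  · obtain ⟨a, ha⟩ := other_coset S t u v hz
    have ho : orderOf (P S t u v * tz S z) = orderOf (tz S z) :=
      (conj_orderOf a _).symm.trans (congrArg orderOf ha)
    have hd := tz_order_dvd S z
    have h3 : ¬ 3 ∣ orderOf (P S t u v * tz S z) := fun h => not_three_dvd_pred S (h.trans (ho ▸ hd))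
    refine ⟨⟨fun e => absurd (by rw [e]) h3, fun h => absurd (by rw [h.1]; exact one_pow 2) hz⟩,
      ⟨fun e => absurd (by rw [e]; norm_num) h3, fun h => absurd (by rw [h.1]; exact neg_one_sq) hz⟩,
      ⟨fun e => absurd (by rw [e]; norm_num) h3, fun h => absurd (by rw [h.1]; exact one_pow 2) hz⟩, fun e => absurd e h3⟩

theorem card_BB_sub (p : RG S → Prop) :
    Nat.card {h : BB S // p h} = Nat.card {x : (K × K × K) × Kˣ // p (P S x.1.1 x.1.2.1 x.1.2.2 * tz S x.2)} := by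
  let f : (K × K × K) × Kˣ → BB S := fun x =>
    ⟨P S x.1.1 x.1.2.1 x.1.2.2 * tz S x.2, mul_mem (P_mem_BB S _ _ _) (tz_mem_BB S _)⟩
  have hf : Function.Bijective f := by
    refine ⟨fun x y h => ?_, fun g => ?_⟩
    · obtain ⟨h1, h2, h3, h4⟩ := BB_unique S (congrArg Subtype.val h)
      exact Prod.ext (Prod.ext h1 (Prod.ext h2 h3)) h4
    · obtain ⟨t, u, v, z, h⟩ := (exists_BB S).1 g.2
      exact ⟨((t, u, v), z), Subtype.ext h.symm⟩
  exact (Nat.card_congr ((Equiv.ofBijective f hf).subtypeEquiv fun _ => Iff.rfl)).symm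

include S in
theorem card_triples :
    Nat.card {x : K × K × K // x.1 = 0 ∧ (x.2.1 ≠ 0 ∨ x.2.2 ≠ 0)} + 1 = Fintype.card K ^ 2 ∧
    Nat.card {x : K × K × K // x.2.1 ≠ x.1 ^ (3 * 3 ^ m) * x.1} + Fintype.card K ^ 2 = Fintype.card K ^ 3 ∧
    Nat.card {x : K × K × K // x.1 ≠ 0} + Fintype.card K ^ 2 = Fintype.card K ^ 3 := by
  classical
  have hall : Nat.card (K × K × K) = Fintype.card K ^ 3 := by
    rw [Nat.card_prod, Nat.card_prod, Nat.card_eq_fintype_card]; ring
  have hc : ∀ p : K × K × K → Prop, Nat.card {x // p x} + Nat.card {x // ¬ p x} = Fintype.card K ^ 3 := fun p => by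
    rw [← Nat.card_sum, Nat.card_congr (Equiv.sumCompl p), hall]
  have h0 : Nat.card {x : K × K × K // x.1 = 0} = Fintype.card K ^ 2 := by
    rw [Nat.card_congr (β := K × K) ⟨fun x => x.1.2, fun y => ⟨(0, y), rfl⟩,
      fun x => Subtype.ext (Prod.ext x.2.symm rfl), fun _ => rfl⟩, Nat.card_prod, Nat.card_eq_fintype_card]
    ring
  have hu : Nat.card {x : K × K × K // x.2.1 = x.1 ^ (3 * 3 ^ m) * x.1} = Fintype.card K ^ 2 := by
    rw [Nat.card_congr (β := K × K) ⟨fun x => (x.1.1, x.1.2.2),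
      fun y => ⟨(y.1, y.1 ^ (3 * 3 ^ m) * y.1, y.2), rfl⟩,
      fun x => Subtype.ext (Prod.ext rfl (Prod.ext x.2.symm rfl)), fun _ => rfl⟩, Nat.card_prod,
      Nat.card_eq_fintype_card]
    ring
  refine ⟨?_, ?_, ?_⟩
  · have h1 : Nat.card {x : K × K × K // x.1 = 0 ∧ (x.2.1 ≠ 0 ∨ x.2.2 ≠ 0)} =
        Nat.card {x : {x : K × K × K // x.1 = 0} // x ≠ ⟨(0, 0, 0), rfl⟩} := by
      refine Nat.card_congr ((Equiv.subtypeEquivRight fun x => and_congr_right fun hx => ?_).trans
        (Equiv.subtypeSubtypeEquivSubtypeInter (fun x : K × K × K => x.1 = 0) (fun x => x ≠ (0, 0, 0))).symm |>.trans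
        (Equiv.subtypeEquivRight fun x => by rw [Ne, Ne, Subtype.ext_iff]))
      simp only [ne_eq, Prod.ext_iff, hx, true_and]
      tauto
    haveI := Fintype.ofFinite {x : K × K × K // x.1 = 0}
    rw [h1, ← h0, Nat.card_eq_fintype_card, Nat.card_eq_fintype_card, Fintype.card_subtype_compl,
      Fintype.card_subtype_eq, Nat.sub_add_cancel]
    exact Fintype.card_pos_iff.2 ⟨⟨(0, 0, 0), rfl⟩⟩
  · rw [← hc fun x => x.2.1 = x.1 ^ (3 * 3 ^ m) * x.1, hu, add_comm]
  · rw [← hc fun x => x.1 = 0, h0, add_comm]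

theorem mem_BB_order {g : RG S} (hg : g ∈ BB S) (h : 3 ∣ orderOf g) :
    orderOf g = 3 ∨ orderOf g = 6 ∨ orderOf g = 9 := by
  obtain ⟨t, u, v, z, rfl⟩ := (exists_BB S).1 hg
  exact (order_BB S t u v z).2.2.2 h

/-- An element of order divisible by three fixes exactly one point. -/
theorem three_fix {g : RG S} (h : 3 ∣ orderOf g) : ∃ x : Pt S, g • x = x ∧ ∀ y : Pt S, g • y = y → y = x := by
  obtain ⟨i, hi⟩ := h
  have hd : g ^ i ≠ 1 := fun e => by
    have := Nat.le_of_dvd (Nat.pos_of_ne_zero (fun h0 => (orderOf_pos g).ne' (by rw [hi, h0, mul_zero])))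
      (orderOf_dvd_of_pow_eq_one e)
    have := orderOf_pos g
    omega
  obtain ⟨x, hx, hu⟩ := three_unique S hd (j := 1) (by
    rw [pow_one, ← pow_mul, mul_comm, ← hi, pow_orderOf_eq_one])
  refine ⟨x, hu _ ?_, fun y hy => hu y ?_⟩
  · rw [smul_smul, ← pow_succ, pow_succ', mul_smul, hx]
  · have hfix : ∀ k : ℕ, g ^ k • y = y := fun k => by
      induction k with
      | zero => rw [pow_zero, one_smul]
      | succ k ih => rw [pow_succ, mul_smul, hy, ih]
    exact hfix i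

theorem three_orders {g : RG S} (h : 3 ∣ orderOf g) : orderOf g = 3 ∨ orderOf g = 6 ∨ orderOf g = 9 := by
  obtain ⟨x, hx, -⟩ := three_fix S h
  obtain ⟨a, ha⟩ := fix_conj_BB S hx
  rw [← conj_orderOf a g] at h ⊢
  exact mem_BB_order S ha h

theorem count_three_aux {n : ℕ} (hn : 3 ∣ n) :
    Nat.card {g : RG S // orderOf g = n} =
      (Fintype.card K ^ 3 + 1) * Nat.card {h : BB S // orderOf (h : RG S) = n} := by
  have key := count_conj (BB S) (BB S) (fun g : RG S => orderOf g = n)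
    (fun a g h => by rw [conj_orderOf]; exact h)
    (fun b hb h hh => mul_mem (mul_mem (inv_mem hb) hh) hb)
    (fun g hg => by
      obtain ⟨x, hx, -⟩ := three_fix S (g := g) (hg ▸ hn)
      exact fix_conj_BB S hx)
    (fun h hh hp a ha => by
      obtain ⟨x, hx, hu⟩ := three_fix S (g := h) (hp ▸ hn)
      have h1 := hu _ ((fix_infty S).2 hh)
      have h2 := hu (a • infty S) (by
        have := (fix_infty S).2 ha
        rwa [mul_smul, mul_smul, inv_smul_eq_iff] at this)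
      exact (fix_infty S).1 (h2.trans h1.symm))
  have hG : Nat.card (RG S) = (Fintype.card K ^ 3 + 1) * Nat.card ↥(BB S) := by
    rw [← Subgroup.index_mul_card (BB S)]
    congr 1
    exact card_Pt S
  rw [hG] at key
  refine Nat.eq_of_mul_eq_mul_right (Nat.card_pos (α := BB S)) (key.trans ?_)
  ring

/-- Counting through the parameters of the Borel subgroup. -/
theorem count_three_param {n : ℕ} (hn : 3 ∣ n) (z : Kˣ) (p : K × K × K → Prop)
    (h : ∀ t u v w, orderOf (P S t u v * tz S w) = n ↔ w = z ∧ p (t, u, v)) :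
    Nat.card {g : RG S // orderOf g = n} = (Fintype.card K ^ 3 + 1) * Nat.card {y // p y} := by
  have h1 := card_BB_sub S (fun g => orderOf g = n)
  have h2 : Nat.card {x : (K × K × K) × Kˣ // orderOf (P S x.1.1 x.1.2.1 x.1.2.2 * tz S x.2) = n} =
      Nat.card {y // p y} :=
    Nat.card_congr ⟨fun x => ⟨x.1.1, ((h _ _ _ _).1 x.2).2⟩, fun y => ⟨(y.1, z), (h _ _ _ _).2 ⟨rfl, y.2⟩⟩,
      fun x => Subtype.ext (Prod.ext rfl ((h _ _ _ _).1 x.2).1.symm), fun _ => rfl⟩
  exact (count_three_aux S hn).trans (congrArg (_ * ·) (h1.trans h2))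

/-- The numbers of elements of orders three, six and nine. -/
theorem count_three_six_nine :
    Nat.card {g : RG S // orderOf g = 3} = (Fintype.card K ^ 2 - 1) * (Fintype.card K ^ 3 + 1) ∧
    Nat.card {g : RG S // orderOf g = 6} =
      Fintype.card K ^ 2 * (Fintype.card K - 1) * (Fintype.card K ^ 3 + 1) ∧
    Nat.card {g : RG S // orderOf g = 9} =
      Fintype.card K ^ 2 * (Fintype.card K - 1) * (Fintype.card K ^ 3 + 1) := by
  obtain ⟨h3, h6, h9⟩ := card_triples S
  have hq : Fintype.card K ^ 2 * (Fintype.card K - 1) = Fintype.card K ^ 3 - Fintype.card K ^ 2 := by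
    rw [Nat.mul_sub, mul_one, ← pow_succ]
  refine ⟨?_, ?_, ?_⟩
  · rw [count_three_param S (dvd_refl 3) 1 (fun x => x.1 = 0 ∧ (x.2.1 ≠ 0 ∨ x.2.2 ≠ 0))
      (fun t u v w => (order_BB S t u v w).1), mul_comm, ← h3, Nat.add_sub_cancel]
  · rw [count_three_param S (by norm_num : (3 : ℕ) ∣ 6) (-1) (fun x => x.2.1 ≠ x.1 ^ (3 * 3 ^ m) * x.1)
      (fun t u v w => (order_BB S t u v w).2.1), mul_comm (Fintype.card K ^ 3 + 1), hq, Nat.eq_sub_of_add_eq h6]
  · rw [count_three_param S (by norm_num : (3 : ℕ) ∣ 9) 1 (fun x => x.1 ≠ 0)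
      (fun t u v w => (order_BB S t u v w).2.2.1), mul_comm (Fintype.card K ^ 3 + 1), hq, Nat.eq_sub_of_add_eq h9]

theorem centralizer_tau_conj {a : RG S} :
    a ∈ Cent S ↔ a⁻¹ * tau S * a = tau S := by
  rw [mem_Cent, mul_assoc, inv_mul_eq_iff_eq_mul]
  exact ⟨Eq.symm, Eq.symm⟩

/-- The number of involutions. -/
theorem count_two :
    Nat.card {g : RG S // orderOf g = 2} = Fintype.card K ^ 2 * Kp K := by
  classical
  haveI : Fact (Nat.Prime 2) := ⟨Nat.prime_two⟩
  have key := count_conj (Subgroup.zpowers (tau S)) (Cent S) (fun g : RG S => orderOf g = 2)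
    (fun a g h => by rw [conj_orderOf]; exact h)
    (fun c hc h hh => by
      obtain ⟨i, rfl⟩ := Subgroup.mem_zpowers_iff.1 hh
      refine ⟨i, ?_⟩
      have h1 : Commute c (tau S) := (mem_Cent S).1 hc
      rw [mul_assoc, ← (h1.zpow_right i).eq, inv_mul_cancel_left])
    (fun g hg => by
      have h1 : g * g = 1 := by rw [← pow_two, ← hg]; exact pow_orderOf_eq_one g
      obtain ⟨a, ha⟩ := isConj_iff.1 (involutions_conj S h1 (fun e => by rw [e, orderOf_one] at hg; omega))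
      exact ⟨a, 1, (_root_.zpow_one _).trans (by rw [← ha]; group)⟩)
    (fun h hh hp a ha => by
      have hto : orderOf (tau S) = 2 := orderOf_eq_prime (by rw [pow_two]; exact tau_sq S) (tau_ne S)
      have huniq : ∀ w ∈ Subgroup.zpowers (tau S), orderOf w = 2 → w = tau S := fun w hw h2 => by
        have hn := (mem_zpowers_iff_mem_range_orderOf).1 hw
        rw [hto] at hn
        obtain ⟨i, hi, rfl⟩ := Finset.mem_image.1 hn
        rw [Finset.mem_range] at hi
        interval_cases i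
        · rw [pow_zero, orderOf_one] at h2; omega
        · exact pow_one _
      obtain rfl := huniq h hh hp
      exact (centralizer_tau_conj S).2 (huniq _ ha (by rw [conj_orderOf]; exact hto)))
  have h2 : Nat.card {h : Subgroup.zpowers (tau S) // orderOf (h : RG S) = 2} = 1 := by
    have hto : orderOf (tau S) = 2 := orderOf_eq_prime (by rw [pow_two]; exact tau_sq S) (tau_ne S)
    rw [Nat.card_eq_one_iff_unique]
    refine ⟨⟨?_⟩, ⟨⟨⟨tau S, Subgroup.mem_zpowers _⟩, hto⟩⟩⟩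
    rintro ⟨⟨a, ha⟩, ha2⟩ ⟨⟨b, hb⟩, hb2⟩
    have huniq : ∀ w ∈ Subgroup.zpowers (tau S), orderOf w = 2 → w = tau S := fun w hw h2 => by
      have hn := (mem_zpowers_iff_mem_range_orderOf).1 hw
      rw [hto] at hn
      obtain ⟨i, hi, rfl⟩ := Finset.mem_image.1 hn
      rw [Finset.mem_range] at hi
      interval_cases i
      · rw [pow_zero, orderOf_one] at h2; omega
      · exact pow_one _
    exact Subtype.ext (Subtype.ext ((huniq a ha ha2).trans (huniq b hb hb2).symm))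
  rw [h2, mul_one, card_Cent, card_split] at key
  have h8 := card_mod_eight S
  refine Nat.eq_of_mul_eq_mul_right (Nat.mul_pos (by omega : 0 < Fintype.card K + 1)
    (Nat.mul_pos (by omega : 0 < Fintype.card K) (by omega : 0 < Fintype.card K - 1))) (key.trans ?_)
  obtain ⟨a, ha⟩ : ∃ a, Fintype.card K - 1 = 2 * a := ⟨(Fintype.card K - 1) / 2, by omega⟩
  obtain ⟨b, hb⟩ : ∃ b, Fintype.card K + 1 = 4 * b := ⟨(Fintype.card K + 1) / 4, by omega⟩
  rw [ha, hb, Nat.mul_div_cancel_left _ (by norm_num : (0 : ℕ) < 2),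
    Nat.mul_div_cancel_left _ (by norm_num : (0 : ℕ) < 4), Kp]
  ring

end Cfsg.Agent.Small.Ree
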