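import Cfsg.Agent.Lib.Small.Ree.Count

/-!
The small Ree groups: the numbers of elements in the conjugates of the two small tori, and the number of
elements left for the others.
-/

set_option autoImplicit false
set_option synthInstance.maxHeartbeats 400000
set_option maxHeartbeats 1600000
set_option maxRecDepth 4000
set_option linter.style.haveILetI false

namespace Cfsg.Agent.Small.Ree

open Cfsg Cfsg.Lie Cfsg.Agent.Lie Cfsg.Agent.Lie.Twist Matrix
open scoped MatrixGroups
open Cfsg.Agent.Lie.G2 (Os Setup)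
open Cfsg.Agent.Small.TwistAut Cfsg.Agent.Small.TwistAut.G2

variable {K : Type*} [Field K] [Fintype K] {m : ℕ} (S : Setup K m)

/-- Elements conjugate to a torus element of order above two. -/
def InA1 (g : RG S) : Prop := g ^ 2 ≠ 1 ∧ ∃ a : RG S, a⁻¹ * g * a ∈ HH S

/-- Elements conjugate to an element of order above two of the centraliser of the second torus. -/
def InA2 (g : RG S) : Prop := g ^ 2 ≠ 1 ∧ ∃ a : RG S, a⁻¹ * g * a ∈ Z2 S

/-- Elements of the other tori. -/
def InK (g : RG S) : Prop := g ≠ 1 ∧ ∃ x : RG S, IsSinger S x ∧ g ∈ Tor S x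

theorem HH_order {g : RG S} (hg : g ∈ HH S) : orderOf g ∣ Fintype.card K - 1 := by
  rw [← card_HH S, ← Subgroup.orderOf_mk g hg]
  exact orderOf_dvd_natCard _

theorem inA1_order {g : RG S} (hg : InA1 S g) : orderOf g ∣ Fintype.card K - 1 ∧ ¬ orderOf g ∣ 2 := by
  obtain ⟨h2, a, ha⟩ := hg
  refine ⟨?_, fun h => h2 (orderOf_dvd_iff_pow_eq_one.1 h)⟩
  rw [← conj_orderOf a g]
  exact HH_order S ha

theorem pow_conj_sq {a g : RG S} (h : g ^ 2 ≠ 1) : (a⁻¹ * g * a) ^ 2 ≠ 1 := fun e => h (by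
  calc g ^ 2 = a * (a⁻¹ * g * a) ^ 2 * a⁻¹ := by rw [pow_two, pow_two]; group
    _ = 1 := by rw [e]; group)

theorem card_subtype_compl' {α : Type*} [Finite α] (p : α → Prop) :
    Nat.card {x // p x} + Nat.card {x // ¬ p x} = Nat.card α := by
  classical
  rw [← Nat.card_sum, Nat.card_congr (Equiv.sumCompl p)]

variable (h27 : 27 ≤ Fintype.card K)

include h27

theorem A1_ne' : A1 S ≠ ⊥ := fun h => by
  have h1 := card_A1 S
  rw [h, Subgroup.card_bot] at h1
  omega

theorem inA2_order {g : RG S} (hg : InA2 S g) : orderOf g ∣ Fintype.card K + 1 ∧ ¬ orderOf g ∣ 2 := by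
  obtain ⟨h2, a, ha⟩ := hg
  refine ⟨?_, fun h => h2 (orderOf_dvd_iff_pow_eq_one.1 h)⟩
  rw [← conj_orderOf a g, ← (Z2_props S h27).2.1, ← Subgroup.orderOf_mk _ ha]
  exact orderOf_dvd_natCard _

theorem inK_primes {g : RG S} (hg : InK S g) {p : ℕ} (hp : p.Prime) (h : p ∣ orderOf g) : p ∣ Kp K := by
  obtain ⟨-, x, hx, hgx⟩ := hg
  exact tor_primes S h27 hx hp (h.trans (Subgroup.orderOf_dvd_natCard _ hgx))

/-- The normaliser of the torus normalises the whole centraliser. -/
theorem HH_normal : ∀ n ∈ Subgroup.normalizer (A1 S : Set (RG S)), ∀ h ∈ HH S, n⁻¹ * h * n ∈ HH S := by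
  intro n hn h hh
  rw [← centralizer_A1 S le_rfl (A1_ne' S h27)] at hh ⊢
  refine Subgroup.mem_centralizer_iff.2 fun y hy => ?_
  have hy' : n * y * n⁻¹ ∈ A1 S := (Subgroup.mem_normalizer_iff.1 hn y).1 hy
  calc y * (n⁻¹ * h * n) = n⁻¹ * ((n * y * n⁻¹) * h) * n := by group
    _ = n⁻¹ * (h * (n * y * n⁻¹)) * n := by rw [Subgroup.mem_centralizer_iff.1 hh _ hy']
    _ = _ := by group

/-- Only the normaliser moves an element of order above two of the torus inside it. -/
theorem HH_unique {h a : RG S} (hh : h ∈ HH S) (hp : h ^ 2 ≠ 1) (ha : a⁻¹ * h * a ∈ HH S) :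
    a ∈ Subgroup.normalizer (A1 S : Set (RG S)) := by
  obtain ⟨z, rfl⟩ := hh
  have hz : z ^ 2 ≠ 1 := fun e => hp (by rw [← map_pow, e, map_one])
  obtain ⟨w, hw⟩ := ha
  have hw2 : w ^ 2 ≠ 1 := fun e => pow_conj_sq S hp (a := a) (by rw [← hw, ← map_pow, e, map_one])
  have hfix : ∀ x : Pt S, tz S w • x = x → tz S z • a • x = a • x := fun x hx => by
    have e : tz S z * a = a * tz S w := by rw [hw]; group
    rw [smul_smul, e, mul_smul, hx]
  have h1 := tz_fix_only S hz (hfix _ (tz_smul_infty S w))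
  have h2 := tz_fix_only S hz (hfix _ (tz_smul_zero S w))
  have hne : a • infty S ≠ a • zero S := fun e => zero_ne_infty S (MulAction.injective a e).symm
  refine (mem_normalizer_A1 S le_rfl (A1_ne' S h27)).2 ?_
  rcases h1 with h1 | h1
  · obtain ⟨v, hv⟩ := fix_pair S h1 (h2.resolve_left fun e => hne (h1.trans e.symm))
    exact ⟨v, Or.inl hv⟩
  · obtain ⟨v, hv⟩ := swap_eq S h1 (h2.resolve_right fun e => hne (h1.trans e.symm))
    exact ⟨v, Or.inr hv⟩

/-- The number of elements in conjugates of the split torus. -/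
theorem count_A1 : 2 * Nat.card {g : RG S // InA1 S g} =
    Fintype.card K ^ 3 * (Fintype.card K ^ 3 + 1) * (Fintype.card K - 3) := by
  classical
  set N := Subgroup.normalizer (A1 S : Set (RG S)) with hN
  have key := count_conj (HH S) N (InA1 S)
    (fun a g hg => ⟨pow_conj_sq S hg.1, by
      obtain ⟨b, hb⟩ := hg.2
      exact ⟨a⁻¹ * b, by convert hb using 1; group⟩⟩)
    (HH_normal S h27) (fun g hg => hg.2) (fun h hh hp a ha => HH_unique S h27 hh hp.1 ha)
  have hsub : Nat.card {h : HH S // InA1 S (h : RG S)} + 2 = Fintype.card K - 1 := by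
    have h2 : Nat.card {h : HH S // ¬ InA1 S (h : RG S)} = 2 := by
      rw [Nat.card_eq_two_iff]
      have hm : ∀ z : Kˣ, ¬ InA1 S (tz S z) ↔ z = 1 ∨ z = -1 := fun z => by
        constructor
        · intro h
          refine unit_sq (by_contra fun h2 => h ⟨fun e => h2 ?_, 1, by rw [inv_one, one_mul, mul_one]; exact ⟨z, rfl⟩⟩)
          exact tz_inj S (by rw [map_pow, e, map_one])
        · intro h hh
          refine hh.1 ?_
          rw [← map_pow]
          rcases h with rfl | rfl <;> simp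
      refine ⟨⟨⟨tz S 1, 1, rfl⟩, (hm 1).2 (Or.inl rfl)⟩, ⟨⟨tz S (-1), -1, rfl⟩, (hm _).2 (Or.inr rfl)⟩,
        fun e => neg_one_ne S (tz_inj S (congrArg (fun x => ((x.1 : HH S) : RG S)) e)).symm, ?_⟩
      refine Set.eq_univ_of_forall fun c => ?_
      obtain ⟨⟨_, z, rfl⟩, hc⟩ := c
      rcases (hm z).1 hc with rfl | rfl
      · exact Or.inl rfl
      · exact Or.inr rfl
    rw [← card_HH S, ← h2, card_subtype_compl']
  rw [hN, card_normalizer_A1 S (by omega), show Nat.card (RG S) = Fintype.card K ^ 3 * (Fintype.card K - 1) *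
    (Fintype.card K ^ 3 + 1) by rw [card_K S]; exact S.card_group] at key
  refine Nat.eq_of_mul_eq_mul_right (show 0 < Fintype.card K - 1 by omega) ?_
  rw [show Fintype.card K - 3 = Nat.card {h : HH S // InA1 S (h : RG S)} by omega]
  linear_combination key

theorem Z2_pow_mem {h : RG S} (hh : h ∈ Z2 S) : h ^ 4 ∈ A2 S := by
  refine (mem_A2_iff S h27 (pow_mem hh 4)).2 ?_
  rw [← pow_mul, ← (quarter_facts S).1, ← (Z2_props S h27).2.1]
  exact congrArg Subtype.val (pow_card_eq_one' (x := (⟨h, hh⟩ : Z2 S)))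

theorem Z2_four {h : RG S} (hh : h ∈ Z2 S) (h4 : h ^ 4 = 1) : h ^ 2 = 1 := by
  rw [pow_two]
  exact congrArg Subtype.val (two_elt S (c := ⟨h, (Z2_props S h27).1 hh⟩) (j := 2) (Subtype.ext h4))

/-- The normaliser of the second torus normalises its centraliser. -/
theorem Z2_normal : ∀ n ∈ Subgroup.normalizer (A2 S : Set (RG S)), ∀ h ∈ Z2 S, n⁻¹ * h * n ∈ Z2 S := by
  intro n hn h hh
  rw [← centralizer_A2 S h27 le_rfl (A2_ne S h27)] at hh ⊢
  refine Subgroup.mem_centralizer_iff.2 fun y hy => ?_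
  have hy' : n * y * n⁻¹ ∈ A2 S := (Subgroup.mem_normalizer_iff.1 hn y).1 hy
  calc y * (n⁻¹ * h * n) = n⁻¹ * ((n * y * n⁻¹) * h) * n := by group
    _ = n⁻¹ * (h * (n * y * n⁻¹)) * n := by rw [Subgroup.mem_centralizer_iff.1 hh _ hy']
    _ = _ := by group

/-- Only the normaliser moves an element of order above two of the second centraliser inside it. -/
theorem Z2_unique {h a : RG S} (hh : h ∈ Z2 S) (hp : h ^ 2 ≠ 1) (ha : a⁻¹ * h * a ∈ Z2 S) :
    a ∈ Subgroup.normalizer (A2 S : Set (RG S)) := by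
  have h4 : h ^ 4 ≠ 1 := fun e => hp (Z2_four S h27 hh e)
  have hconj : (a⁻¹ * h * a) ^ 4 = a⁻¹ * h ^ 4 * a := by
    have e := conj_pow (i := 4) (a := a⁻¹) (b := h)
    rwa [inv_inv] at e
  have hA : a⁻¹ * h ^ 4 * a ∈ A2 S := hconj ▸ Z2_pow_mem S h27 ha
  haveI := cyclic_A2 S
  have hle : (Subgroup.zpowers (h ^ 4)).map (MulAut.conj a⁻¹).toMonoidHom ≤ A2 S := by
    rw [MonoidHom.map_zpowers, Subgroup.zpowers_le]
    show a⁻¹ * h ^ 4 * a⁻¹⁻¹ ∈ A2 S
    rwa [inv_inv]
  have hle0 : Subgroup.zpowers (h ^ 4) ≤ A2 S := Subgroup.zpowers_le.2 (Z2_pow_mem S h27 hh)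
  have e : ((Subgroup.zpowers (h ^ 4)).map (MulAut.conj a⁻¹).toMonoidHom).subgroupOf (A2 S) =
      (Subgroup.zpowers (h ^ 4)).subgroupOf (A2 S) :=
    cyclic_sub_eq (by rw [Nat.card_congr (Subgroup.subgroupOfEquivOfLe hle).toEquiv,
      Nat.card_congr (Subgroup.subgroupOfEquivOfLe hle0).toEquiv,
      ← Nat.card_congr (Subgroup.equivMapOfInjective _ _ (MulAut.conj a⁻¹).injective).toEquiv])
  rw [Subgroup.subgroupOf_inj, inf_eq_left.2 hle, inf_eq_left.2 hle0] at e
  have hmem : a⁻¹ ∈ Subgroup.normalizer (Subgroup.zpowers (h ^ 4) : Set (RG S)) :=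
    Subgroup.mem_normalizer_iff_map_conj_eq.2 e
  rw [normalizer_A2 S h27 hle0 (fun e0 => h4 (Subgroup.zpowers_eq_bot.1 e0))] at hmem
  exact inv_mem_iff.1 hmem

/-- The number of elements in conjugates of the centraliser of the second torus. -/
theorem count_A2 : 6 * Nat.card {g : RG S // InA2 S g} =
    Fintype.card K ^ 3 * (Fintype.card K - 1) * Kp K * (Fintype.card K - 3) := by
  classical
  obtain ⟨hZC, hZc, hZab⟩ := Z2_props S h27
  set N := Subgroup.normalizer (A2 S : Set (RG S)) with hN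
  have key := count_conj (Z2 S) N (InA2 S)
    (fun a g hg => ⟨pow_conj_sq S hg.1, by
      obtain ⟨b, hb⟩ := hg.2
      exact ⟨a⁻¹ * b, by convert hb using 1; group⟩⟩)
    (Z2_normal S h27)
    (fun g hg => hg.2)
    (fun h hh hp a ha => Z2_unique S h27 hh hp.1 ha)
  have hsub : Nat.card {h : Z2 S // InA2 S (h : RG S)} + 4 = Fintype.card K + 1 := by
    have h2 : Nat.card {h : Z2 S // ¬ InA2 S (h : RG S)} = 4 := by
      obtain ⟨u, hu, hu1, hut, hcases⟩ := V2_cases S h27
      have hV4 : Nat.card (V2 S h27) = 4 := by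
        rw [Nat.card_eq_fintype_card, Fintype.card_subtype,
          show (Finset.univ.filter fun z => z ∈ V2 S h27) = {1, tau S, u, tau S * u} by
            ext z
            simp only [Finset.mem_filter, Finset.mem_univ, true_and, Finset.mem_insert, Finset.mem_singleton]
            refine ⟨hcases z, ?_⟩
            rintro (rfl | rfl | rfl | rfl)
            exacts [one_mem _, ⟨tau_mem_Z2 S h27, tau_sq S⟩, hu, mul_mem ⟨tau_mem_Z2 S h27, tau_sq S⟩ hu],
          Finset.card_insert_of_notMem, Finset.card_insert_of_notMem, Finset.card_pair]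
        · exact fun e => tau_ne S (by simpa using e)
        · simp only [Finset.mem_insert, Finset.mem_singleton, not_or]
          exact ⟨Ne.symm hut, fun e => hu1 (by simpa using e)⟩
        · simp only [Finset.mem_insert, Finset.mem_singleton, not_or]
          exact ⟨(tau_ne S).symm, Ne.symm hu1, fun e => hut (by
            rw [← inv_eq_of_mul_eq_one_right e.symm, tau_inv])⟩
      rw [← hV4]
      refine Nat.card_congr ⟨fun h => ⟨h.1.1, h.1.2, ?_⟩, fun v => ⟨⟨v.1, v.2.1⟩, fun h => h.1 ?_⟩,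
        fun _ => rfl, fun _ => rfl⟩
      · by_contra hne
        exact h.2 ⟨fun e => hne (by rw [← pow_two]; exact e), 1, by rw [inv_one, one_mul, mul_one]; exact h.1.2⟩
      · rw [pow_two]; exact v.2.2
    rw [← hZc, ← h2, card_subtype_compl']
  rw [hN, normalizer_A2_eq_V2 S h27, card_normalizer_V2 S h27,
    show Nat.card (RG S) = Fintype.card K ^ 3 * (Fintype.card K - 1) *
      (Fintype.card K ^ 3 + 1) by rw [card_K S]; exact S.card_group] at key
  refine Nat.eq_of_mul_eq_mul_right (show 0 < Fintype.card K + 1 by omega) ?_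
  rw [show Fintype.card K - 3 = Nat.card {h : Z2 S // InA2 S (h : RG S)} by omega]
  have e : Fintype.card K ^ 3 + 1 = (Fintype.card K + 1) * Kp K := by
    have hle : Fintype.card K ≤ Fintype.card K ^ 2 := Nat.le_self_pow two_ne_zero _
    rw [Kp]; zify [hle]; ring
  rw [e] at key
  linear_combination key

/-- Every element is of exactly one kind. -/
theorem kinds (g : RG S) :
    (g = 1 ∨ orderOf g = 2 ∨ 3 ∣ orderOf g ∨ InA1 S g ∨ InA2 S g ∨ InK S g) ∧
    (InA1 S g → g ≠ 1 ∧ orderOf g ≠ 2 ∧ ¬ 3 ∣ orderOf g ∧ ¬ InA2 S g ∧ ¬ InK S g) ∧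
    (InA2 S g → g ≠ 1 ∧ orderOf g ≠ 2 ∧ ¬ 3 ∣ orderOf g ∧ ¬ InK S g) ∧
    (InK S g → g ≠ 1 ∧ orderOf g ≠ 2 ∧ ¬ 3 ∣ orderOf g) := by
  have h8 := card_mod_eight S
  obtain ⟨h4b, hbodd, -⟩ := quarter_facts S
  have hq3 : Fintype.card K % 3 = 0 := by rw [card_K S, pow_succ]; simp
  have hKprime : InK S g → ∀ p, p.Prime → p ∣ orderOf g → p ≠ 2 ∧ p ≠ 3 ∧
      ¬ p ∣ Fintype.card K - 1 ∧ ¬ p ∣ Fintype.card K + 1 := fun hg p hp hd => by
    obtain ⟨h2, h3, ha, hb⟩ := (factor_prime S hp).2.2 (inK_primes S h27 hg hp hd)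
    refine ⟨h2, h3, fun h => ?_, fun h => ?_⟩
    · rw [show Fintype.card K - 1 = 2 * ((Fintype.card K - 1) / 2) by omega] at h
      exact (hp.dvd_mul.1 h).elim (fun h' => h2 ((Nat.prime_dvd_prime_iff_eq hp Nat.prime_two).1 h')) ha
    · rw [show Fintype.card K + 1 = 2 ^ 2 * ((Fintype.card K + 1) / 4) by omega] at h
      exact (hp.dvd_mul.1 h).elim
        (fun h' => h2 ((Nat.prime_dvd_prime_iff_eq hp Nat.prime_two).1 (hp.dvd_of_dvd_pow h'))) hb
  refine ⟨?_, fun hg => ?_, fun hg => ?_, fun hg => ?_⟩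
  · by_cases hg1 : g = 1
    · exact Or.inl hg1
    by_cases hg3 : 3 ∣ orderOf g
    · exact Or.inr (Or.inr (Or.inl hg3))
    by_cases hg2 : g ^ 2 = 1
    · exact Or.inr (Or.inl (orderOf_eq_prime hg2 hg1))
    obtain ⟨p, hp, hpd, hp2⟩ : ∃ p, p.Prime ∧ p ∣ orderOf g ∧ p ≠ 2 := by
      by_contra h
      push Not at h
      haveI : Fact (Nat.Prime 2) := ⟨Nat.prime_two⟩
      have hpow := Nat.eq_prime_pow_of_unique_prime_dvd (orderOf_pos g).ne' (p := 2) fun {d} hd1 hd2 => h d hd1 hd2
      obtain ⟨P, hP⟩ := (zpowers_isPGroup (x := g) (p := 2) (j := (orderOf g).primeFactorsList.length)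
        (by rw [← hpow, pow_orderOf_eq_one])).exists_le_sylow
      exact hg2 (by rw [pow_two]; exact (sylow_two S P).2 g (hP (Subgroup.mem_zpowers g)))
    obtain ⟨i, hi⟩ := hpd
    have hi0 : i ≠ 0 := fun h0 => (orderOf_pos g).ne' (by rw [hi, h0, mul_zero])
    have hxo : orderOf (g ^ i) = p := by
      rw [orderOf_pow' g hi0, hi, Nat.gcd_mul_left_left, Nat.mul_div_cancel _ (Nat.pos_of_ne_zero hi0)]
    have hH : ∀ h ∈ Subgroup.zpowers g, h * g ^ i = g ^ i * h := fun h hh => by
      obtain ⟨j, rfl⟩ := Subgroup.mem_zpowers_iff.1 hh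
      exact ((Commute.refl g).zpow_left j).pow_right i
    have hp3 : p ≠ 3 := fun e => hg3 ⟨i, e ▸ hi⟩
    have hpG : p ∣ Nat.card (RG S) := (Dvd.intro i hi.symm).trans (orderOf_dvd_natCard g)
    rw [card_split] at hpG
    right; right; right
    rcases hp.dvd_mul.1 hpG with h | h
    · rcases hp.dvd_mul.1 h with h | h
      · rcases hp.dvd_mul.1 h with h | h
        · exfalso
          rcases hp.dvd_mul.1 h with h | h
          · exact hp2 ((Nat.prime_dvd_prime_iff_eq hp Nat.prime_two).1 (hp.dvd_of_dvd_pow (show p ∣ 2 ^ 3 from h)))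
          · rw [card_K S, ← pow_mul] at h
            exact hp3 ((Nat.prime_dvd_prime_iff_eq hp Nat.prime_three).1 (hp.dvd_of_dvd_pow h))
        · obtain ⟨a, ha, -, -⟩ := conj_into_HH S hp h hxo hH
          exact Or.inl ⟨hg2, a, ha g (Subgroup.mem_zpowers g)⟩
      · obtain ⟨a, ha, -, -⟩ := conj_into_Z2 S h27 hp h hxo hH
        exact Or.inr (Or.inl ⟨hg2, a, ha g (Subgroup.mem_zpowers g)⟩)
    · exact Or.inr (Or.inr ⟨hg1, g ^ i, ⟨by rw [hxo]; exact hp, by rw [hxo]; exact h⟩,
        Subgroup.mem_centralizer_singleton_iff.2 (((Commute.refl g).pow_right i))⟩)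
  · obtain ⟨hd, hn2⟩ := inA1_order S hg
    refine ⟨fun e => hn2 (by rw [e, orderOf_one]; exact one_dvd 2), fun e => hn2 (by rw [e]),
      fun h => not_three_dvd_pred S (h.trans hd), fun h => ?_, fun h => ?_⟩
    · obtain ⟨hd2, -⟩ := inA2_order S h27 h
      have := Nat.dvd_sub hd2 hd
      rw [show Fintype.card K + 1 - (Fintype.card K - 1) = 2 by omega] at this
      exact hn2 this
    · obtain ⟨p, hp, hpd⟩ := Nat.exists_prime_and_dvd (n := orderOf g) (fun e => hn2 (by rw [e]; exact one_dvd 2))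
      exact (hKprime h p hp hpd).2.2.1 (hpd.trans hd)
  · obtain ⟨hd, hn2⟩ := inA2_order S h27 hg
    refine ⟨fun e => hn2 (by rw [e, orderOf_one]; exact one_dvd 2), fun e => hn2 (by rw [e]),
      fun h => by have := h.trans hd; omega, fun h => ?_⟩
    obtain ⟨p, hp, hpd⟩ := Nat.exists_prime_and_dvd (n := orderOf g) (fun e => hn2 (by rw [e]; exact one_dvd 2))
    exact (hKprime h p hp hpd).2.2.2 (hpd.trans hd)
  · exact ⟨hg.1, fun e => (hKprime hg 2 Nat.prime_two (by rw [e])).1 rfl,
      fun h => (hKprime hg 3 Nat.prime_three h).2.1 rfl⟩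

/-- The number of elements in the remaining tori. -/
theorem count_K : 3 * Nat.card {g : RG S // InK S g} = Fintype.card K ^ 3 * (Fintype.card K - 1) *
    (Fintype.card K + 1) * (Fintype.card K ^ 2 - 2 * Fintype.card K) := by
  classical
  haveI : Fintype (RG S) := Fintype.ofFinite _
  obtain ⟨h3, h6, h9⟩ := count_three_six_nine S
  have h2 := count_two S
  have hA1 := count_A1 S h27
  have hA2 := count_A2 S h27
  simp only [Nat.card_eq_fintype_card, Fintype.card_subtype] at h3 h6 h9 h2 hA1 hA2 ⊢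
  have hG : (Finset.univ : Finset (RG S)).card = Fintype.card K ^ 3 * (Fintype.card K - 1) *
      (Fintype.card K ^ 3 + 1) := by
    rw [Finset.card_univ, ← Nat.card_eq_fintype_card, card_K S]
    exact S.card_group
  have hpart : (Finset.univ : Finset (RG S)).card =
      1 + (Finset.univ.filter fun g : RG S => orderOf g = 2).card +
      (Finset.univ.filter fun g : RG S => orderOf g = 3).card +
      (Finset.univ.filter fun g : RG S => orderOf g = 6).card +
      (Finset.univ.filter fun g : RG S => orderOf g = 9).card +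
      (Finset.univ.filter fun g : RG S => InA1 S g).card + (Finset.univ.filter fun g : RG S => InA2 S g).card +
      (Finset.univ.filter fun g : RG S => InK S g).card := by
    have h0 : (Finset.univ.filter fun g : RG S => g = 1).card = 1 := by
      rw [show (Finset.univ.filter fun g : RG S => g = 1) = {1} by ext; simp, Finset.card_singleton]
    rw [← h0, Finset.card_eq_sum_ones Finset.univ, Finset.card_filter, Finset.card_filter, Finset.card_filter,
      Finset.card_filter, Finset.card_filter, Finset.card_filter, Finset.card_filter, Finset.card_filter]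
    simp only [← Finset.sum_add_distrib]
    refine Finset.sum_congr rfl fun g _ => ?_
    obtain ⟨hc, h1, h2', h3'⟩ := kinds S h27 g
    by_cases a : InA1 S g
    · obtain ⟨n1, n2, n3, n4, n5⟩ := h1 a
      simp only [a, n1, n2, n4, n5, if_true, if_false,
        show orderOf g ≠ 3 from fun e => n3 (by rw [e]),
        show orderOf g ≠ 6 from fun e => n3 (by rw [e]; norm_num),
        show orderOf g ≠ 9 from fun e => n3 (by rw [e]; norm_num)]
    by_cases b : InA2 S g
    · obtain ⟨n1, n2, n3, n5⟩ := h2' b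
      simp only [a, b, n1, n2, n5, if_true, if_false,
        show orderOf g ≠ 3 from fun e => n3 (by rw [e]),
        show orderOf g ≠ 6 from fun e => n3 (by rw [e]; norm_num),
        show orderOf g ≠ 9 from fun e => n3 (by rw [e]; norm_num)]
    by_cases c : InK S g
    · obtain ⟨n1, n2, n3⟩ := h3' c
      simp only [a, b, c, n1, n2, if_true, if_false,
        show orderOf g ≠ 3 from fun e => n3 (by rw [e]),
        show orderOf g ≠ 6 from fun e => n3 (by rw [e]; norm_num),
        show orderOf g ≠ 9 from fun e => n3 (by rw [e]; norm_num)]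
    rcases hc with h | h | h | h | h | h
    · subst h
      simp [a, b, c]
    · have hg1 : g ≠ 1 := fun e => by rw [e, orderOf_one] at h; omega
      simp [a, b, c, h, hg1]
    · have hg1 : g ≠ 1 := fun e => by rw [e, orderOf_one] at h; omega
      rcases three_orders S h with e | e | e <;> simp [a, b, c, e, hg1]
    · exact absurd h a
    · exact absurd h b
    · exact absurd h c
  rw [hG, h2, h3, h6, h9] at hpart
  generalize hn1 : (Finset.univ.filter fun g : RG S => InA1 S g).card = n1 at *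
  generalize hn2 : (Finset.univ.filter fun g : RG S => InA2 S g).card = n2 at *
  generalize hnK : (Finset.univ.filter fun g : RG S => InK S g).card = nK at *
  generalize hQ : Fintype.card K = Q at *
  have hle : Q ≤ Q ^ 2 := Nat.le_self_pow two_ne_zero _
  have hle2 : 2 * Q ≤ Q ^ 2 := by rw [pow_two]; exact Nat.mul_le_mul_right Q (by omega)
  have h1Q : 1 ≤ Q ^ 2 := Nat.one_le_pow _ _ (by omega)
  rw [Kp, hQ] at hpart hA2
  zify [hle, hle2, h1Q, (by omega : 1 ≤ Q), (by omega : 3 ≤ Q)] at hpart hA1 hA2 ⊢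
  nlinarith [hpart, hA1, hA2]

end Cfsg.Agent.Small.Ree
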