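import Cfsg.Agent.Lib.Small.Ree.SylowTwo
import Cfsg.Agent.Lib.Classical.Dickson.Polyhedral

/-!
The small Ree groups: the normaliser of a Sylow 2-subgroup and the fusion of involutions.
-/

set_option autoImplicit false
set_option synthInstance.maxHeartbeats 400000
set_option maxHeartbeats 1600000
set_option maxRecDepth 4000
set_option linter.style.haveILetI false

namespace Cfsg.Agent.Small.Ree

open Cfsg Cfsg.Lie Cfsg.Agent.Lie Cfsg.Agent.Lie.Twist Matrix
open scoped MatrixGroups
open Cfsg.Agent.Lie.G2 (Os Setup)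
open Cfsg.Agent.Small.TwistAut Cfsg.Agent.Small.TwistAut.G2

variable {K : Type*} [Field K] [Fintype K] {m : ℕ} (S : Setup K m)

/-- Elements of exponent two commute. -/
theorem comm_of_sq {G : Type*} [Group G] {H : Subgroup G} (h : ∀ x ∈ H, x * x = 1) {x y : G}
    (hx : x ∈ H) (hy : y ∈ H) : x * y = y * x := by
  have hi : ∀ z ∈ H, z⁻¹ = z := fun z hz => inv_eq_of_mul_eq_one_right (h z hz)
  calc x * y = (x * y)⁻¹ := (hi _ (mul_mem hx hy)).symm
    _ = y⁻¹ * x⁻¹ := _root_.mul_inv_rev x y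
    _ = y * x := by rw [hi _ hy, hi _ hx]

/-- Every involution is conjugate to one of two standard ones. -/
theorem invol_two_classes {w : RG S} (hw : w * w = 1) (hw1 : w ≠ 1) :
    IsConj w (nn S) ∨ IsConj w (nn S * tau S) := by
  obtain ⟨g, z, hg⟩ := exists_conj_nn S hw hw1
  obtain ⟨a, b, ⟨k, rfl⟩, -, h1, -⟩ := exists_halves S
  have hz : ∃ y : Kˣ, z = y ^ 2 ∨ z = -1 * y ^ 2 := by
    have hzz : (z ^ (2 * k + 1)) ^ 2 = 1 := by
      rw [← pow_mul, mul_comm, ← h1, ← Nat.card_eq_fintype_card, ← Nat.card_units]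
      exact pow_card_eq_one'
    rcases unit_sq hzz with h | h
    · refine ⟨z ^ (k + 1), Or.inl ?_⟩
      calc z = z * z ^ (2 * k + 1) := by rw [h, mul_one]
        _ = (z ^ (k + 1)) ^ 2 := by rw [← pow_succ', ← pow_mul]; congr 1; omega
    · refine ⟨z ^ (k + 1), Or.inr ?_⟩
      calc z = -1 * (z * z ^ (2 * k + 1)) := by rw [h]; simp
        _ = -1 * (z ^ (k + 1)) ^ 2 := by rw [← pow_succ', ← pow_mul]; congr 2; omega
  have key : ∀ y x : Kˣ, IsConj (nn S * tz S (x * y ^ 2)) (nn S * tz S x) := fun y x => by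
    refine isConj_iff.2 ⟨tz S y, ?_⟩
    rw [← mul_assoc (tz S y), tz_nn, mul_assoc (nn S), mul_assoc (nn S), ← map_inv, ← map_mul, ← map_mul]
    congr 2
    rw [pow_two, inv_mul_eq_iff_eq_mul.2 (show x * (y * y) = y * (x * y) by ac_rfl), mul_inv_cancel_right]
  have hw' : IsConj w (nn S * tz S z) := isConj_iff.2 ⟨g⁻¹, by rw [inv_inv, hg]⟩
  obtain ⟨y, rfl | rfl⟩ := hz
  · left
    have h := key y 1
    rw [one_mul, map_one, mul_one] at h
    exact hw'.trans h
  · exact Or.inr (hw'.trans (key y (-1)))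

theorem E_props {E : Subgroup (RG S)} (hEC : E ≤ Cent S) (ht : tau S ∈ E) (hE : Nat.card E = 8)
    (hE2 : ∀ x ∈ E, x * x = 1) :
    ∃ V : Subgroup (Matrix.ProjectiveSpecialLinearGroup (Fin 2) K),
      ∃ f : ↥(Cent S) →* Matrix.ProjectiveSpecialLinearGroup (Fin 2) K,
        IsKleinFour V ∧ Function.Surjective f ∧ Nat.card f.ker = 2 ∧
        (∀ c, f c = 1 ↔ (c : RG S) = 1 ∨ (c : RG S) = tau S) ∧
        (E.subgroupOf (Cent S)).map f = V ∧ V.comap f = E.subgroupOf (Cent S) := by
  obtain ⟨e⟩ := Cb_equiv S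
  set f := e.toMonoidHom.comp (rhoR S) with hf
  have hker : ∀ c, f c = 1 ↔ (c : RG S) = 1 ∨ (c : RG S) = tau S := fun c => by
    show e (rhoR S c) = 1 ↔ _
    rw [MulEquiv.map_eq_one_iff, Subtype.ext_iff]
    exact rho_eq_one S
  have hkle : f.ker ≤ E.subgroupOf (Cent S) := fun c hc => by
    rcases (hker c).1 hc with h | h
    · rw [Subgroup.mem_subgroupOf, h]; exact one_mem _
    · rw [Subgroup.mem_subgroupOf, h]; exact ht
  have hk2 : Nat.card f.ker = 2 := by
    have : f.ker = (rho S).ker := Subgroup.ext fun c => by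
      rw [MonoidHom.mem_ker, MonoidHom.mem_ker, hker, rho_eq_one]
    rw [this, card_ker_rho]
  set V := (E.subgroupOf (Cent S)).map f with hV
  have hback : V.comap f = E.subgroupOf (Cent S) := Subgroup.comap_map_eq_self hkle
  have h2 : ∀ x ∈ V, x * x = 1 := by
    rintro _ ⟨c, hc, rfl⟩
    rw [← map_mul, show c * c = 1 from Subtype.ext (hE2 _ hc), map_one]
  have hfs : Function.Surjective f := e.surjective.comp (rhoR_surj S)
  have hcard : Nat.card V = 4 := by
    have h8 : Nat.card ↥(E.subgroupOf (Cent S)) = 8 := by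
      rw [Nat.card_congr (Subgroup.subgroupOfEquivOfLe hEC).toEquiv, hE]
    have h1 := Subgroup.card_mul_index (E.subgroupOf (Cent S))
    rw [← hback, Subgroup.index_comap_of_surjective _ hfs, hback, h8] at h1
    have h3 := Subgroup.card_mul_index V
    have h5 := Subgroup.card_mul_index f.ker
    rw [hk2, Subgroup.index_ker, MonoidHom.range_eq_top.2 hfs, Subgroup.card_top] at h5
    have hpos : 0 < V.index := Nat.pos_of_ne_zero Subgroup.index_ne_zero_of_finite
    nlinarith
  refine ⟨V, f, ⟨hcard, ?_⟩, hfs, hk2, hker, rfl, hback⟩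
  have hnt : Nontrivial V := Finite.one_lt_card_iff_nontrivial.1 (by omega)
  refine (Monoid.exponent_eq_prime_iff Nat.prime_two).2 fun x hx => orderOf_eq_prime ?_ hx
  rw [pow_two]
  exact Subtype.ext (h2 x.1 x.2)

/-- A Sylow 2-subgroup is self-centralising. -/
theorem sylow_two_centralizer (P : Sylow 2 (RG S)) :
    Subgroup.centralizer ((P : Subgroup (RG S)) : Set (RG S)) = P := by
  haveI : Fact (Nat.Prime 2) := ⟨Nat.prime_two⟩
  obtain ⟨hP8, hP2⟩ := sylow_two S P
  refine le_antisymm (fun x hx => ?_) fun x hx y hy => comm_of_sq hP2 hy hx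
  obtain ⟨E, hEC, ht, hE, hE2⟩ := exists_E S
  obtain ⟨g, hg⟩ := MulAction.exists_smul_eq (RG S) (Sylow.ofCard E (by rw [hE, factorization_group]; norm_num)) P
  have hmem : ∀ y, y ∈ (P : Subgroup (RG S)) ↔ g⁻¹ * y * g ∈ E := fun y => by
    rw [← hg, Sylow.coe_subgroup_smul, Subgroup.mem_pointwise_smul_iff_inv_smul_mem, ← map_inv,
      MulAut.smul_def, MulAut.conj_apply, inv_inv]
    rfl
  show x ∈ (P : Subgroup (RG S))
  rw [hmem]
  set x' := g⁻¹ * x * g with hx'
  have hcx : ∀ y ∈ E, y * x' = x' * y := fun y hy => by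
    have h := hx (g * y * g⁻¹) ((hmem _).2 (by simpa [mul_assoc] using hy))
    calc y * x' = g⁻¹ * ((g * y * g⁻¹) * x) * g := by rw [hx']; group
      _ = g⁻¹ * (x * (g * y * g⁻¹)) * g := by rw [h]
      _ = _ := by rw [hx']; group
  have hxC : x' ∈ Cent S := (mem_Cent S).2 (hcx _ ht).symm
  obtain ⟨V, f, hV, -, -, -, hVm, hback⟩ := E_props S hEC ht hE hE2
  have : f ⟨x', hxC⟩ ∈ Subgroup.centralizer (V : Set _) := by
    rw [Subgroup.mem_centralizer_iff]
    intro v hv
    rw [← hVm] at hv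
    obtain ⟨c, hc, rfl⟩ := hv
    rw [← map_mul, ← map_mul]
    exact congrArg f (Subtype.ext (hcx _ hc))
  have h2 := Classical.SL2Four.klein_self_centralizing (two_ne S) hV this
  rw [← Subgroup.mem_comap, hback] at h2
  exact h2

/-- The normaliser of a Sylow 2-subgroup: order 168, transitive on its involutions. -/
theorem normalizer_E {E : Subgroup (RG S)} (hEC : E ≤ Cent S) (ht : tau S ∈ E) (hE : Nat.card E = 8)
    (hE2 : ∀ x ∈ E, x * x = 1) :
    Nat.card (Subgroup.normalizer (E : Set (RG S))) = 168 ∧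
      ∀ x ∈ E, x ≠ 1 → ∃ n ∈ Subgroup.normalizer (E : Set (RG S)), n * tau S * n⁻¹ = x := by
  classical
  haveI : Fact (Nat.Prime 2) := ⟨Nat.prime_two⟩
  set P : Sylow 2 (RG S) := Sylow.ofCard E (by rw [hE, factorization_group]; norm_num) with hP
  have hPE : (P : Subgroup (RG S)) = E := rfl
  haveI hab : IsMulCommutative ↥(P : Subgroup (RG S)) :=
    ⟨⟨fun a b => Subtype.ext (comm_of_sq hE2 a.2 b.2)⟩⟩
  set N := Subgroup.normalizer (E : Set (RG S)) with hN
  have hEN : E ≤ N := Subgroup.le_normalizer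
  obtain ⟨V, f, hV, hfs, hk2, -, -, hback⟩ := E_props S hEC ht hE hE2
  -- the part centralising the involution of the torus
  have h24 : Nat.card ↥(N ⊓ Cent S) = 24 := by
    have hNC : N.subgroupOf (Cent S) = (Subgroup.normalizer (V : Set (Matrix.ProjectiveSpecialLinearGroup (Fin 2) K))).comap f := by
      rw [Subgroup.comap_normalizer_eq_of_surjective _ hfs, hback]
      ext c
      rw [Subgroup.mem_subgroupOf, hN, Subgroup.mem_normalizer_iff, Subgroup.mem_normalizer_iff]
      refine ⟨fun h d => h d, fun h g => ?_⟩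
      by_cases hg : g ∈ Cent S
      · exact h ⟨g, hg⟩
      · refine ⟨fun hgE => absurd (hEC hgE) hg, fun hgE => absurd ?_ hg⟩
        have := mul_mem (mul_mem (inv_mem c.2) (hEC hgE)) c.2
        simpa [mul_assoc] using this
    haveI := hV
    obtain ⟨⟨x, y⟩, hxy, hxV, hyV⟩ := Classical.SL2Four.exists_pair V
    have h12 : Nat.card (Subgroup.normalizer (V : Set (Matrix.ProjectiveSpecialLinearGroup (Fin 2) K))) = 12 := by
      rcases Classical.Dickson.card_normalizer_klein (two_ne S) hxy with ⟨h, -⟩ | ⟨-, h⟩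
      · rwa [← Classical.SL2Four.eq_pairGroup hxy hxV hyV] at h
      · have := card_mod_eight S; omega
    rw [show N ⊓ Cent S = (N.subgroupOf (Cent S)).map (Cent S).subtype by
        rw [Subgroup.subgroupOf_map_subtype],
      ← Nat.card_congr ((N.subgroupOf (Cent S)).equivMapOfInjective _ Subtype.val_injective).toEquiv, hNC]
    have h1 := Subgroup.card_mul_index ((Subgroup.normalizer (V : Set (Matrix.ProjectiveSpecialLinearGroup (Fin 2) K))).comap f)
    have h3 := Subgroup.card_mul_index (Subgroup.normalizer (V : Set (Matrix.ProjectiveSpecialLinearGroup (Fin 2) K)))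
    have h5 := Subgroup.card_mul_index f.ker
    rw [hk2, Subgroup.index_ker, MonoidHom.range_eq_top.2 hfs, Subgroup.card_top] at h5
    rw [Subgroup.index_comap_of_surjective _ hfs] at h1
    rw [h12] at h3
    have hpos : 0 < (Subgroup.normalizer (V : Set (Matrix.ProjectiveSpecialLinearGroup (Fin 2) K))).index :=
      Nat.pos_of_ne_zero Subgroup.index_ne_zero_of_finite
    nlinarith
  -- orbits on the involutions
  letI act : MulAction ↥N (RG S) :=
    MulAction.compHom (RG S) (((MulAut.conj : RG S →* MulAut (RG S))).comp N.subtype)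
  have hsm : ∀ (n : ↥N) (x : RG S), n • x = (n : RG S) * x * (n : RG S)⁻¹ := fun _ _ => rfl
  have horb : ∀ x ∈ E, MulAction.orbit ↥N x ⊆ (E : Set (RG S)) := fun x hx => by
    rintro _ ⟨n, rfl⟩
    exact (Subgroup.mem_normalizer_iff.1 n.2 x).1 hx
  have hfus : ∀ x ∈ E, ∀ y ∈ E, IsConj x y → y ∈ MulAction.orbit ↥N x := fun x hx y hy hc => by
    obtain ⟨g, hg⟩ := isConj_iff.1 hc
    obtain ⟨n, hn, he⟩ := P.conj_eq_normalizer_conj_of_mem x g⁻¹ hx
      (by rw [inv_inv, hg]; exact hy)
    refine ⟨⟨n⁻¹, inv_mem hn⟩, ?_⟩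
    show n⁻¹ * x * (n⁻¹)⁻¹ = y
    rw [inv_inv, ← he, inv_inv, hg]
  have hodd : ∀ x ∈ E, Odd (Nat.card (MulAction.orbit ↥N x)) := fun x hx => by
    have hle : E.subgroupOf N ≤ MulAction.stabilizer ↥N x := fun n hn => by
      show (n : RG S) * x * (n : RG S)⁻¹ = x
      rw [comm_of_sq (x := (n : RG S)) hE2 hn hx, mul_inv_cancel_right]
    have hd : Nat.card (MulAction.orbit ↥N x) ∣ (E.subgroupOf N).index := by
      rw [Nat.card_coe_set_eq, ← MulAction.index_stabilizer]
      exact Subgroup.index_dvd_of_le hle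
    refine (Nat.odd_iff.2 ?_ : Odd (E.subgroupOf N).index).of_dvd_nat hd
    have hnd : ¬ 2 ∣ E.index := P.not_dvd_index
    have h1 : (E.subgroupOf N).index ∣ E.index :=
      Dvd.intro N.index (Subgroup.relIndex_mul_index hEN)
    by_contra h
    exact hnd ((Nat.dvd_of_mod_eq_zero (by omega)).trans h1)
  -- one orbit
  set O := (MulAction.orbit ↥N (tau S)).toFinset with hO
  set W := (Finset.univ.filter fun x : RG S => x ∈ E ∧ x ≠ 1) with hW
  have hW7 : W.card = 7 := by
    have h1 : (Finset.univ.filter fun x : RG S => x ∈ E).card = 8 := by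
      rw [← hE, Nat.card_eq_fintype_card, Fintype.card_subtype]
    rw [hW, show (Finset.univ.filter fun x : RG S => x ∈ E ∧ x ≠ 1) =
      (Finset.univ.filter fun x : RG S => x ∈ E).erase 1 by ext; simp [and_comm],
      Finset.card_erase_of_mem (by simp [one_mem E]), h1]
  have hne1 : ∀ x : RG S, x ≠ 1 → ∀ y ∈ MulAction.orbit ↥N x, y ≠ 1 := by
    rintro x hx _ ⟨n, rfl⟩
    show (n : RG S) * x * (n : RG S)⁻¹ ≠ 1
    exact fun h => hx (conj_eq_one_iff.1 h)
  have hOW : O ⊆ W := fun x hx => by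
    rw [hO, Set.mem_toFinset] at hx
    simp only [hW, Finset.mem_filter, Finset.mem_univ, true_and]
    exact ⟨horb _ ht hx, hne1 _ (tau_ne S) x hx⟩
  have hcardO : Odd O.card := by
    rw [hO, ← Nat.card_eq_card_toFinset]
    exact hodd _ ht
  have hall : O = W := by
    by_contra hne
    obtain ⟨y, hyW, hyO⟩ := Finset.exists_of_ssubset (Finset.ssubset_iff_subset_ne.2 ⟨hOW, hne⟩)
    obtain ⟨hyE, hy1⟩ : y ∈ E ∧ y ≠ 1 := by simpa [hW] using hyW
    have hrest : W \ O = (MulAction.orbit ↥N y).toFinset := by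
      ext z
      simp only [Finset.mem_sdiff, Set.mem_toFinset]
      constructor
      · rintro ⟨hzW, hzO⟩
        obtain ⟨hzE, hz1⟩ : z ∈ E ∧ z ≠ 1 := by simpa [hW] using hzW
        have hny : ¬ IsConj (tau S) y := fun hc => hyO (by rw [hO, Set.mem_toFinset]; exact hfus _ ht _ hyE hc)
        have hnz : ¬ IsConj (tau S) z := fun hc => hzO (by rw [hO, Set.mem_toFinset]; exact hfus _ ht _ hzE hc)
        refine hfus _ hyE _ hzE ?_
        rcases invol_two_classes S (hE2 _ hyE) hy1 with hy' | hy' <;>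
          rcases invol_two_classes S (hE2 _ hzE) hz1 with hz' | hz' <;>
          rcases invol_two_classes S (tau_sq S) (tau_ne S) with ht' | ht' <;>
          first
          | exact hy'.trans hz'.symm
          | exact absurd (ht'.trans hy'.symm) hny
          | exact absurd (ht'.trans hz'.symm) hnz
      · intro hz
        refine ⟨?_, fun hzO => hyO ?_⟩
        · simp only [hW, Finset.mem_filter, Finset.mem_univ, true_and]
          exact ⟨horb _ hyE hz, hne1 _ hy1 z hz⟩
        · rw [hO, Set.mem_toFinset] at hzO ⊢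
          rw [← MulAction.orbit_eq_iff.2 hzO, MulAction.orbit_eq_iff.2 hz]
          exact MulAction.mem_orbit_self y
    have h1 : Odd (W \ O).card := by
      rw [hrest, ← Nat.card_eq_card_toFinset]
      exact hodd _ hyE
    rw [Finset.card_sdiff_of_subset hOW, hW7] at h1
    have := Finset.card_le_card hOW
    obtain ⟨i, hi⟩ := hcardO
    obtain ⟨j, hj⟩ := h1
    omega
  refine ⟨?_, fun x hx hx1 => ?_⟩
  · have hst : Nat.card (MulAction.stabilizer ↥N (tau S)) = 24 := by
      rw [← h24, show N ⊓ Cent S = (MulAction.stabilizer ↥N (tau S)).map N.subtype from ?_]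
      · exact Nat.card_congr ((MulAction.stabilizer ↥N (tau S)).equivMapOfInjective _ Subtype.val_injective).toEquiv
      ext g
      constructor
      · rintro ⟨h1, h2⟩
        exact ⟨⟨g, h1⟩, by show g * tau S * g⁻¹ = tau S; rw [(mem_Cent S).1 h2, mul_inv_cancel_right], rfl⟩
      · rintro ⟨n, hn, rfl⟩
        exact ⟨n.2, (mem_Cent S).2 (mul_inv_eq_iff_eq_mul.1 hn)⟩
    rw [← Subgroup.card_mul_index (MulAction.stabilizer ↥N (tau S)), hst, MulAction.index_stabilizer,
      Set.ncard_eq_toFinset_card', ← hO, hall, hW7]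
  · have : x ∈ O := by rw [hall, hW]; simp [hx, hx1]
    rw [hO, Set.mem_toFinset] at this
    obtain ⟨n, hn⟩ := this
    exact ⟨n, n.2, hn⟩

/-- The normaliser of any Sylow 2-subgroup. -/
theorem sylow_two_normalizer (P : Sylow 2 (RG S)) :
    Nat.card (Subgroup.normalizer ((P : Subgroup (RG S)) : Set (RG S))) = 168 := by
  haveI : Fact (Nat.Prime 2) := ⟨Nat.prime_two⟩
  obtain ⟨E, hEC, ht, hE, hE2⟩ := exists_E S
  set P₀ : Sylow 2 (RG S) := Sylow.ofCard E (by rw [hE, factorization_group]; norm_num) with hP₀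
  have h0 : Nat.card (Subgroup.normalizer ((P₀ : Subgroup (RG S)) : Set (RG S))) = 168 :=
    (normalizer_E S hEC ht hE hE2).1
  have h1 : Nat.card (Sylow 2 (RG S)) = (Subgroup.normalizer ((P : Subgroup (RG S)) : Set (RG S))).index :=
    P.card_eq_index_normalizer
  have h2 : Nat.card (Sylow 2 (RG S)) = (Subgroup.normalizer ((P₀ : Subgroup (RG S)) : Set (RG S))).index :=
    P₀.card_eq_index_normalizer
  have h3 := Subgroup.card_mul_index (Subgroup.normalizer ((P : Subgroup (RG S)) : Set (RG S)))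
  have h4 := Subgroup.card_mul_index (Subgroup.normalizer ((P₀ : Subgroup (RG S)) : Set (RG S)))
  rw [h0, ← h2] at h4
  rw [← h1] at h3
  exact Nat.eq_of_mul_eq_mul_right (Nat.card_pos) (h3.trans h4.symm)

/-- All involutions are conjugate. -/
theorem involutions_conj {w : RG S} (hw : w * w = 1) (hw1 : w ≠ 1) : IsConj (tau S) w := by
  haveI : Fact (Nat.Prime 2) := ⟨Nat.prime_two⟩
  obtain ⟨E, hEC, ht, hE, hE2⟩ := exists_E S
  have hp : IsPGroup 2 ↥(Subgroup.zpowers w) := by
    rintro ⟨_, hx⟩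
    obtain ⟨i, rfl⟩ := Subgroup.mem_zpowers_iff.1 hx
    exact ⟨1, Subtype.ext (by
      show (w ^ i) ^ 2 ^ 1 = 1
      rw [pow_one, ← zpow_natCast, ← _root_.zpow_mul, mul_comm, _root_.zpow_mul, zpow_natCast, pow_two, hw,
        _root_.one_zpow])⟩
  obtain ⟨P, hP⟩ := hp.exists_le_sylow
  obtain ⟨g, hg⟩ := MulAction.exists_smul_eq (RG S) (Sylow.ofCard E (by rw [hE, factorization_group]; norm_num)) P
  have h2 : w ∈ (P : Subgroup (RG S)) := hP (Subgroup.mem_zpowers w)
  rw [← hg, Sylow.coe_subgroup_smul, Subgroup.mem_pointwise_smul_iff_inv_smul_mem, ← map_inv,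
    MulAut.smul_def, MulAut.conj_apply, inv_inv] at h2
  obtain ⟨n, -, hn⟩ := (normalizer_E S hEC ht hE hE2).2 _ h2 (fun h => hw1 (by
    rwa [mul_assoc, inv_mul_eq_one, eq_comm, mul_eq_right] at h))
  exact isConj_iff.2 ⟨g * n, by
    rw [_root_.mul_inv_rev, show g * n * tau S * (n⁻¹ * g⁻¹) = g * (n * tau S * n⁻¹) * g⁻¹ by group, hn]
    group⟩

end Cfsg.Agent.Small.Ree
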