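import Mathlib

/-!
Central extensions over the unipotent group of a small Ree group, stated abstractly: the torus forces every
commutator of lifts to avoid the kernel.
-/

set_option autoImplicit false

open scoped commutatorElement IsMulCommutative

namespace Cfsg.Agent.Small.Ree.MultUnip

section Forms

variable {K : Type*} [Field K] {A : Type*} [CommGroup A] (f : K → K → A)

/-- A biadditive map into a multiplicative group. -/
structure Biadd : Prop where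
  left : ∀ x x' y, f (x + x') y = f x y * f x' y
  right : ∀ x y y', f x (y + y') = f x y * f x y'

variable {f} (hf : Biadd f)

include hf

theorem Biadd.zero_left (y : K) : f 0 y = 1 := by
  have h := hf.left 0 0 y
  rw [add_zero] at h
  exact left_eq_mul.1 h

theorem Biadd.zero_right (x : K) : f x 0 = 1 := by
  have h := hf.right x 0 0
  rw [add_zero] at h
  exact left_eq_mul.1 h

theorem Biadd.neg_left (x y : K) : f (-x) y = (f x y)⁻¹ := by
  refine eq_inv_of_mul_eq_one_left ?_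
  rw [← hf.left, neg_add_cancel, hf.zero_left]

theorem Biadd.neg_right (x y : K) : f x (-y) = (f x y)⁻¹ := by
  refine eq_inv_of_mul_eq_one_left ?_
  rw [← hf.right, neg_add_cancel, hf.zero_right]

theorem Biadd.cube (h3 : (3 : K) = 0) (x y : K) : f x y * f x y * f x y = 1 := by
  rw [← hf.left, ← hf.left, show x + x + x = 3 * x by ring, h3, zero_mul, hf.zero_left]

theorem Biadd.eq_one_of_inv_eq (h3 : (3 : K) = 0) {x y : K} (h : (f x y)⁻¹ = f x y) : f x y = 1 := by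
  have h2 : f x y * f x y = 1 := by
    nth_rewrite 1 [← h]
    rw [inv_mul_cancel]
  have := hf.cube h3 x y
  rwa [h2, one_mul] at this

/-- No biadditive map is invariant under all scalars. -/
theorem Biadd.scalar (z : K) (hz0 : z ≠ 0) (hz1 : z ≠ 1) (hz2 : z ≠ -1) (h3 : (3 : K) = 0)
    (hinv : ∀ l : K, l ≠ 0 → ∀ x y, f (l * x) (l * y) = f x y) (x y : K) : f x y = 1 := by
  have key : ∀ w : K, w ≠ 0 → w + 1 ≠ 0 → f (w * x) y * f x (w * y) = (f x y)⁻¹ := fun w hw hw1 => by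
    refine eq_inv_of_mul_eq_one_left (mul_left_cancel (a := f x y) ?_)
    have h := hinv (w + 1) hw1 x y
    rw [add_mul, add_mul, one_mul, one_mul, hf.left, hf.right, hf.right, hinv w hw] at h
    rw [mul_one]
    nth_rewrite 3 [← h]
    simp only [mul_comm, mul_left_comm, mul_assoc]
  have h11 : (1 : K) + 1 ≠ 0 := fun h => one_ne_zero (α := K) (by linear_combination h3 - h)
  have hz : z + 1 ≠ 0 := fun h => hz2 (eq_neg_of_add_eq_zero_left h)
  have h1 := key z hz0 hz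
  have h2 := key 1 one_ne_zero h11
  have h3' := key (z + 1) hz (fun h => hz1 (by linear_combination h - h3))
  rw [add_mul, add_mul, hf.left, hf.right, mul_mul_mul_comm, h1, h2] at h3'
  exact inv_eq_one.1 (left_eq_mul.1 h3'.symm)

/-- The pairing between the first and the last layer vanishes. -/
theorem Biadd.first_last (h3 : (3 : K) = 0) (χ : Kˣ → K) (s : K → K)
    (hs : ∀ a b, s (a + b) = s a + s b) (hχ : ∀ z : Kˣ, χ z * s (z : K) = (z : K) * z) (hne : ∃ z : Kˣ, χ z * (z : K) ≠ 1)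
    (hinv : ∀ (z : Kˣ) x y, f (χ z * x) ((z : K) * y) = f x y) (x y : K) : f x y = 1 := by
  have hs0 : s 0 = 0 := by simpa using hs 0 0
  have hsn : ∀ a, s (-a) = -s a := fun a => eq_neg_of_add_eq_zero_left (by rw [← hs, neg_add_cancel, hs0])
  have hlin : ∀ (z x y : K), f (z * z * x) (z * y) = f (s z * x) y := fun z x y => by
    by_cases hz : z = 0
    · rw [hz, hs0, zero_mul, zero_mul, zero_mul, hf.zero_left, hf.zero_left]
    · obtain ⟨u, rfl⟩ : ∃ u : Kˣ, (u : K) = z := ⟨Units.mk0 z hz, rfl⟩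
      rw [← hχ u, mul_assoc, hinv]
  have hbal : ∀ w x y : K, f x (w * y) = f (w * x) y := fun w x y => by
    have hsum : ∀ w : K, f (w * x) y * f (w * x) y * f x (w * y) *
        (f (w * x) (w * y) * f (w * x) (w * y) * f (w * w * x) y) = 1 := fun w => by
      have h := hlin (1 + w) x y
      rw [hs, add_mul (s 1), hf.left (s 1 * x), ← hlin 1, ← hlin w] at h
      simp only [add_mul, mul_add, one_mul, mul_one, hf.left, hf.right] at h
      refine mul_left_cancel (a := f x y * f (w * w * x) (w * y)) ?_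
      rw [mul_one]
      nth_rewrite 2 [← h]
      simp only [mul_comm, mul_left_comm, mul_assoc]
    have h1 := hsum w
    have h2 := hsum (-w)
    simp only [neg_mul, mul_neg, neg_neg, hf.neg_left, hf.neg_right, inv_inv] at h2
    obtain ⟨A, hA⟩ : ∃ A, A = f (w * x) y * f (w * x) y * f x (w * y) := ⟨_, rfl⟩
    obtain ⟨B, hB⟩ : ∃ B, B = f (w * x) (w * y) * f (w * x) (w * y) * f (w * w * x) y := ⟨_, rfl⟩
    rw [← hA, ← hB] at h1
    have h2' : A⁻¹ * B = 1 := by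
      rw [hA, hB]
      refine Eq.trans ?_ h2
      simp only [mul_inv, mul_comm, mul_left_comm, mul_assoc]
    have hB' : B = A := (inv_mul_eq_one.1 h2').symm
    rw [hB'] at h1
    have h6 : A * A * A = 1 := by
      rw [hA]
      have e1 := hf.cube h3 (w * x) y
      have e2 := hf.cube h3 x (w * y)
      calc _ = (f (w * x) y * f (w * x) y * f (w * x) y) * (f (w * x) y * f (w * x) y * f (w * x) y) *
          (f x (w * y) * f x (w * y) * f x (w * y)) := by simp only [mul_comm, mul_left_comm, mul_assoc]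
        _ = 1 := by rw [e1, e2, one_mul, one_mul]
    have hA1 : A = 1 := by rwa [h1, one_mul] at h6
    rw [hA1] at hA
    refine mul_left_cancel (a := f (w * x) y * f (w * x) y) ?_
    rw [← hA, hf.cube h3]
  obtain ⟨z, hz⟩ := hne
  obtain ⟨l, hl⟩ : ∃ l, l = χ z * (z : K) := ⟨_, rfl⟩
  rw [← hl] at hz
  have h0 : ∀ t, f t 1 = 1 := fun t => by
    have h := hinv z (t / (l - 1)) 1
    rw [hbal, ← mul_assoc, mul_comm (z : K) (χ z), ← hl] at h
    rw [show t = l * (t / (l - 1)) + -(t / (l - 1)) by field_simp [sub_ne_zero.2 hz]; ring, hf.left, h, hf.neg_left,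
      mul_inv_cancel]
  rw [← mul_one y, hbal]
  exact h0 _

end Forms

/-- The unipotent group with its torus. -/
structure UData (G K : Type*) [Group G] [Field K] where
  /-- the parametrisation -/
  P : K → K → K → G
  /-- the torus -/
  tz : Kˣ →* G
  /-- the weight on the first layer -/
  χ : Kˣ → K
  /-- the weight on the second layer -/
  ω : Kˣ → K
  /-- the additive map relating the weights -/
  s : K → K
  h3 : (3 : K) = 0
  inj : ∀ u v u' v', P 0 u v = P 0 u' v' → u = u' ∧ v = v'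
  zero : P 0 0 0 = 1
  hW : ∀ u v u' v', P 0 u v * P 0 u' v' = P 0 (u + u') (v + v')
  hdec : ∀ t u v, P t u v = P t 0 0 * P 0 u v
  hT : ∀ t t', ∃ u v, P t 0 0 * P t' 0 0 = P (t + t') 0 0 * P 0 u v
  hZ : ∀ t u v w, P t u v * P 0 0 w = P 0 0 w * P t u v
  hTU : ∀ t u v, ∃ w, ⁅P t 0 0, P 0 u v⁆ = P 0 0 w
  hUU : ∀ t u v t' u' v', ∃ a b, ⁅P t u v, P t' u' v'⁆ = P 0 a b
  conj : ∀ (z : Kˣ) t u v, tz z * P t u v * (tz z)⁻¹ = P (χ z * t) (ω z * u) ((z : K) * v)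
  hs : ∀ a b, s (a + b) = s a + s b
  hχ : ∀ z : Kˣ, χ z * s (z : K) = (z : K) * z
  hne : ∃ z : Kˣ, χ z * (z : K) ≠ 1
  χ_surj : ∀ l : K, l ≠ 0 → ∃ z : Kˣ, χ z = l
  ω_surj : ∀ l : K, l ≠ 0 → ∃ z : Kˣ, ω z = l ∨ ω z = -l
  χ_neg : χ (-1) = -1
  ω_neg : ω (-1) = 1
  z0 : Kˣ
  z0_ω : ω z0 ≠ 1
  z0_v : (z0 : K) ≠ 1
  scalar : K
  scalar0 : scalar ≠ 0
  scalar1 : scalar ≠ 1
  scalar2 : scalar ≠ -1

namespace UData

variable {Γ G K : Type*} [Group Γ] [Group G] [Field K] (D : UData G K)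
variable (σ : Γ →* G) (hsurj : Function.Surjective σ) (hc : σ.ker ≤ Subgroup.center Γ)

/-- A lift. -/
noncomputable def lift (g : G) : Γ := Function.surjInv hsurj g

theorem σ_lift (g : G) : σ (lift σ hsurj g) = g := Function.surjInv_eq hsurj g

include hc in
/-- Commutators only depend on the images. -/
theorem same {x y x' y' : Γ} (hx : σ x = σ x') (hy : σ y = σ y') : ⁅x, y⁆ = ⁅x', y'⁆ := by
  obtain ⟨k, hk, rfl⟩ : ∃ k ∈ Subgroup.center Γ, x = x' * k := ⟨x'⁻¹ * x, hc (by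
    rw [MonoidHom.mem_ker, map_mul, map_inv, hx, inv_mul_cancel]), (mul_inv_cancel_left _ _).symm⟩
  obtain ⟨l, hl, rfl⟩ : ∃ l ∈ Subgroup.center Γ, y = y' * l := ⟨y'⁻¹ * y, hc (by
    rw [MonoidHom.mem_ker, map_mul, map_inv, hy, inv_mul_cancel]), (mul_inv_cancel_left _ _).symm⟩
  have k1 : ∀ x, Commute k x := fun x => (Subgroup.mem_center_iff.1 hk x).symm
  have l1 : ∀ x, Commute l x := fun x => (Subgroup.mem_center_iff.1 hl x).symm
  rw [commutatorElement_def, commutatorElement_def,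
    show x' * k * (y' * l) * (x' * k)⁻¹ * (y' * l)⁻¹ = x' * (k * (y' * l) * k⁻¹) * x'⁻¹ * l⁻¹ * y'⁻¹ by group,
    (k1 (y' * l)).eq, mul_inv_cancel_right,
    show x' * (y' * l) * x'⁻¹ * l⁻¹ * y'⁻¹ = x' * y' * (l * x'⁻¹ * l⁻¹) * y'⁻¹ by group,
    (l1 x'⁻¹).eq, mul_inv_cancel_right]

include hc in
theorem central {x y : Γ} (h : σ x * σ y = σ y * σ x) : ⁅x, y⁆ ∈ Subgroup.center Γ := hc (by
  rw [MonoidHom.mem_ker, map_commutatorElement, commutatorElement_eq_one_iff_mul_comm]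
  exact h)

theorem mul_left_comm' (x x' y : Γ) : ⁅x * x', y⁆ = x * ⁅x', y⁆ * x⁻¹ * ⁅x, y⁆ := by
  simp only [commutatorElement_def]; group

theorem mul_right_comm' (x y y' : Γ) : ⁅x, y * y'⁆ = ⁅x, y⁆ * (y * ⁅x, y'⁆ * y⁻¹) := by
  simp only [commutatorElement_def]; group

theorem left_of_central {x x' y : Γ} (h : ⁅x', y⁆ ∈ Subgroup.center Γ) : ⁅x * x', y⁆ = ⁅x, y⁆ * ⁅x', y⁆ := by
  rw [mul_left_comm', Subgroup.mem_center_iff.1 h x, mul_inv_cancel_right, Subgroup.mem_center_iff.1 h]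

theorem right_of_central {x y y' : Γ} (h : ⁅x, y'⁆ ∈ Subgroup.center Γ) : ⁅x, y * y'⁆ = ⁅x, y⁆ * ⁅x, y'⁆ := by
  rw [mul_right_comm', Subgroup.mem_center_iff.1 h y, mul_inv_cancel_right]

theorem conj_of_central {x y T : Γ} (h : ⁅x, y⁆ ∈ Subgroup.center Γ) : ⁅T * x * T⁻¹, T * y * T⁻¹⁆ = ⁅x, y⁆ := by
  rw [← conjugate_commutatorElement, Subgroup.mem_center_iff.1 h T, mul_inv_cancel_right]

include hsurj hc

/-- The lift of the abelian normal subgroup is abelian. -/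
theorem W_comm {x y : Γ} {u v u' v' : K} (hx : σ x = D.P 0 u v) (hy : σ y = D.P 0 u' v') : x * y = y * x := by
  have hcw : ∀ u v u' v', D.P 0 u v * D.P 0 u' v' = D.P 0 u' v' * D.P 0 u v := fun u v u' v' => by
    rw [D.hW, D.hW, add_comm u, add_comm v]
  let L : K → K → Γ := fun u v => lift σ hsurj (D.P 0 u v)
  have hL : ∀ u v, σ (L u v) = D.P 0 u v := fun u v => σ_lift σ hsurj _
  let pr : K → K → K → K → ↥(Subgroup.center Γ) := fun a b a' b' =>
    ⟨⁅L a b, L a' b'⁆, central σ hc (by rw [hL, hL]; exact hcw _ _ _ _)⟩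
  have hl : ∀ a b a₁ b₁ a' b', pr (a + a₁) (b + b₁) a' b' = pr a b a' b' * pr a₁ b₁ a' b' := fun a b a₁ b₁ a' b' => by
    refine Subtype.ext ?_
    show ⁅L (a + a₁) (b + b₁), L a' b'⁆ = ⁅L a b, L a' b'⁆ * ⁅L a₁ b₁, L a' b'⁆
    rw [← left_of_central (central σ hc (by rw [hL, hL]; exact hcw _ _ _ _))]
    exact same σ hc (by rw [map_mul, hL, hL, hL, D.hW]) rfl
  have hr : ∀ a b a' b' a₁ b₁, pr a b (a' + a₁) (b' + b₁) = pr a b a' b' * pr a b a₁ b₁ := fun a b a' b' a₁ b₁ => by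
    refine Subtype.ext ?_
    show ⁅L a b, L (a' + a₁) (b' + b₁)⁆ = ⁅L a b, L a' b'⁆ * ⁅L a b, L a₁ b₁⁆
    rw [← right_of_central (central σ hc (by rw [hL, hL]; exact hcw _ _ _ _))]
    exact same σ hc rfl (by rw [map_mul, hL, hL, hL, D.hW])
  have hT : ∀ (z : Kˣ) a b a' b',
      pr (D.ω z * a) ((z : K) * b) (D.ω z * a') ((z : K) * b') = pr a b a' b' := fun z a b a' b' => by
    refine Subtype.ext ?_
    show ⁅L (D.ω z * a) ((z : K) * b), L (D.ω z * a') ((z : K) * b')⁆ = ⁅L a b, L a' b'⁆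
    rw [← conj_of_central (T := lift σ hsurj (D.tz z)) (pr a b a' b').2]
    refine same σ hc ?_ ?_ <;> simp only [map_mul, map_inv, hL, σ_lift, D.conj, mul_zero]
  have b1 : Biadd fun x y => pr x 0 y 0 := ⟨fun x x' y => by rw [← hl, add_zero], fun x y y' => by rw [← hr, add_zero]⟩
  have b2 : Biadd fun x y => pr 0 x 0 y := ⟨fun x x' y => by rw [← hl, add_zero], fun x y y' => by rw [← hr, add_zero]⟩
  have b3 : Biadd fun x y => pr x 0 0 y := ⟨fun x x' y => by rw [← hl, add_zero], fun x y y' => by rw [← hr, add_zero]⟩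
  have p1 : ∀ x y, pr x 0 y 0 = 1 := b1.scalar D.scalar D.scalar0 D.scalar1 D.scalar2 D.h3 (fun l hl0 x y => by
    obtain ⟨z, hz | hz⟩ := D.ω_surj l hl0
    · have h := hT z x 0 y 0
      rw [mul_zero, hz] at h
      exact h
    · have h := hT z (-x) 0 (-y) 0
      rw [mul_zero, hz, neg_mul_neg, neg_mul_neg] at h
      rw [h, b1.neg_left, b1.neg_right, inv_inv])
  have p2 : ∀ x y, pr 0 x 0 y = 1 := b2.scalar D.scalar D.scalar0 D.scalar1 D.scalar2 D.h3 (fun l hl0 x y => by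
    have h := hT (Units.mk0 l hl0) 0 x 0 y
    rw [mul_zero] at h
    exact h)
  have p3 : ∀ x y, pr x 0 0 y = 1 := fun x y => b3.eq_one_of_inv_eq D.h3 (by
    rw [← b3.neg_right]
    have h := hT (-1) x 0 0 y
    rw [D.ω_neg, one_mul, mul_zero, mul_zero, Units.val_neg, Units.val_one, neg_one_mul] at h
    exact h)
  have p4 : ∀ x y, pr 0 y x 0 = 1 := fun x y => by
    refine Subtype.ext ?_
    show ⁅L 0 y, L x 0⁆ = 1
    rw [← commutatorElement_inv, show ⁅L x 0, L 0 y⁆ = 1 from congrArg Subtype.val (p3 x y), inv_one]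
  have key : pr u v u' v' = 1 := by
    have h1 := hl u 0 0 v u' v'
    have h2 := hr u 0 u' 0 0 v'
    have h3 := hr 0 v u' 0 0 v'
    rw [add_zero, zero_add] at h1 h2 h3
    rw [h1, h2, h3, p1, p2, p3, p4, one_mul, one_mul]
  have h := congrArg Subtype.val key
  rw [← commutatorElement_eq_one_iff_mul_comm, same σ hc (x' := L u v) (y' := L u' v') (hx.trans (hL _ _).symm)
    (hy.trans (hL _ _).symm)]
  exact h

/-- Lifts of the centre commute with lifts of the unipotent group. -/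
theorem Z_comm {x y : Γ} {t u v w : K} (hx : σ x = D.P t u v) (hy : σ y = D.P 0 0 w) : x * y = y * x := by
  let L : K → K → K → Γ := fun t u v => lift σ hsurj (D.P t u v)
  have hL : ∀ t u v, σ (L t u v) = D.P t u v := fun t u v => σ_lift σ hsurj _
  let pr : K → K → ↥(Subgroup.center Γ) := fun a b =>
    ⟨⁅L a 0 0, L 0 0 b⁆, central σ hc (by rw [hL, hL]; exact D.hZ _ _ _ _)⟩
  have hb : Biadd pr := ⟨fun a a' b => by
    obtain ⟨c, d, hcd⟩ := D.hT a a'
    refine Subtype.ext ?_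
    show ⁅L (a + a') 0 0, L 0 0 b⁆ = ⁅L a 0 0, L 0 0 b⁆ * ⁅L a' 0 0, L 0 0 b⁆
    rw [← left_of_central (central σ hc (by rw [hL, hL]; exact D.hZ _ _ _ _)),
      same σ hc (x := L a 0 0 * L a' 0 0) (x' := L (a + a') 0 0 * L 0 c d) (by
        rw [map_mul, map_mul, hL, hL, hL, hL, hcd]) rfl,
      left_of_central (central σ hc (by rw [hL, hL]; exact D.hZ _ _ _ _)),
      commutatorElement_eq_one_iff_mul_comm.2 (D.W_comm σ hsurj hc (hL 0 c d) (hL 0 0 b)), mul_one],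
    fun a b b' => by
    refine Subtype.ext ?_
    show ⁅L a 0 0, L 0 0 (b + b')⁆ = ⁅L a 0 0, L 0 0 b⁆ * ⁅L a 0 0, L 0 0 b'⁆
    rw [← right_of_central (central σ hc (by rw [hL, hL]; exact D.hZ _ _ _ _))]
    exact same σ hc rfl (by rw [map_mul, hL, hL, hL, D.hW, add_zero])⟩
  have h0 : pr t w = 1 := hb.first_last D.h3 D.χ D.s D.hs D.hχ D.hne (fun z a b => by
    refine Subtype.ext ?_
    show ⁅L (D.χ z * a) 0 0, L 0 0 ((z : K) * b)⁆ = ⁅L a 0 0, L 0 0 b⁆
    rw [← conj_of_central (T := lift σ hsurj (D.tz z)) (pr a b).2]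
    refine same σ hc ?_ ?_ <;> simp only [map_mul, map_inv, hL, σ_lift, D.conj, mul_zero]) t w
  rw [← commutatorElement_eq_one_iff_mul_comm,
    same σ hc (x' := L t 0 0 * L 0 u v) (y' := L 0 0 w)
      (by rw [map_mul, hL, hL, ← D.hdec, hx]) (hy.trans (hL _ _ _).symm),
    left_of_central (central σ hc (by rw [hL, hL]; exact D.hZ _ _ _ _)),
    commutatorElement_eq_one_iff_mul_comm.2 (D.W_comm σ hsurj hc (hL 0 u v) (hL 0 0 w)), mul_one]
  exact congrArg Subtype.val h0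

/-- The equivariant lift of the abelian normal subgroup. -/
noncomputable def sec (u v : K) : Γ :=
  ⁅lift σ hsurj (D.tz D.z0), lift σ hsurj (D.P 0 (u / (D.ω D.z0 - 1)) (v / ((D.z0 : K) - 1)))⁆

theorem σ_sec (u v : K) : σ (D.sec σ hsurj u v) = D.P 0 u v := by
  rw [sec, map_commutatorElement, σ_lift, σ_lift, commutatorElement_def, D.conj, mul_zero]
  refine mul_inv_eq_iff_eq_mul.2 ?_
  have h1 := sub_ne_zero.2 D.z0_ω
  have h2 := sub_ne_zero.2 D.z0_v
  rw [D.hW]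
  congr 1 <;> field_simp <;> ring

theorem sec_add (u v u' v' : K) :
    D.sec σ hsurj (u + u') (v + v') = D.sec σ hsurj u v * D.sec σ hsurj u' v' := by
  simp only [sec]
  obtain ⟨H, hH⟩ : ∃ H, H = lift σ hsurj (D.tz D.z0) := ⟨_, rfl⟩
  rw [← hH]
  obtain ⟨a, ha⟩ : ∃ a, a = lift σ hsurj (D.P 0 (u / (D.ω D.z0 - 1)) (v / ((D.z0 : K) - 1))) := ⟨_, rfl⟩
  obtain ⟨b, hb⟩ : ∃ b, b = lift σ hsurj (D.P 0 (u' / (D.ω D.z0 - 1)) (v' / ((D.z0 : K) - 1))) := ⟨_, rfl⟩
  rw [← ha, ← hb, same σ hc (x := H) (x' := H) (y' := a * b) rfl (by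
    rw [map_mul, ha, hb, σ_lift, σ_lift, σ_lift, D.hW, add_div, add_div]), mul_right_comm']
  congr 1
  have hbc : σ ⁅H, b⁆ = D.P 0 u' v' := by rw [hH, hb]; exact D.σ_sec σ hsurj hc u' v'
  rw [← D.W_comm σ hsurj hc hbc (show σ a = _ by rw [ha, σ_lift]), mul_inv_cancel_right]

/-- The kernel component of a lift. -/
noncomputable def kp (x : Γ) : Γ :=
  x * (D.sec σ hsurj (Function.invFun (fun p : K × K => D.P 0 p.1 p.2) (σ x)).1
    (Function.invFun (fun p : K × K => D.P 0 p.1 p.2) (σ x)).2)⁻¹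

theorem kp_eq {x : Γ} {u v : K} (hx : σ x = D.P 0 u v) : D.kp σ hsurj x = x * (D.sec σ hsurj u v)⁻¹ := by
  have hi : Function.Injective (fun p : K × K => D.P 0 p.1 p.2) := fun p p' h => Prod.ext (D.inj _ _ _ _ h).1 (D.inj _ _ _ _ h).2
  have e : Function.invFun (fun p : K × K => D.P 0 p.1 p.2) (σ x) = (u, v) := by
    rw [hx]; exact Function.leftInverse_invFun hi (u, v)
  rw [kp, e]

theorem kp_central {x : Γ} {u v : K} (hx : σ x = D.P 0 u v) : D.kp σ hsurj x ∈ Subgroup.center Γ := hc (by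
  rw [MonoidHom.mem_ker, D.kp_eq σ hsurj hc hx, map_mul, map_inv, hx, D.σ_sec σ hsurj hc, mul_inv_cancel])

theorem kp_mul {x y : Γ} {u v u' v' : K} (hx : σ x = D.P 0 u v) (hy : σ y = D.P 0 u' v') :
    D.kp σ hsurj (x * y) = D.kp σ hsurj x * D.kp σ hsurj y := by
  have hk := Subgroup.mem_center_iff.1 (D.kp_central σ hsurj hc hy) (D.sec σ hsurj u v)⁻¹
  rw [D.kp_eq σ hsurj hc hy] at hk
  rw [D.kp_eq σ hsurj hc (show σ (x * y) = D.P 0 (u + u') (v + v') by rw [map_mul, hx, hy, D.hW]),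
    D.sec_add σ hsurj hc, D.kp_eq σ hsurj hc hx, D.kp_eq σ hsurj hc hy, _root_.mul_inv_rev,
    mul_assoc x (D.sec σ hsurj u v)⁻¹, hk]
  simp only [mul_assoc]

theorem kp_conj_tz (z : Kˣ) {x : Γ} {u v : K} (hx : σ x = D.P 0 u v) :
    D.kp σ hsurj (lift σ hsurj (D.tz z) * x * (lift σ hsurj (D.tz z))⁻¹) = D.kp σ hsurj x := by
  obtain ⟨T, hT⟩ : ∃ T, T = lift σ hsurj (D.tz z) := ⟨_, rfl⟩
  rw [← hT]
  have hσ : σ T = D.tz z := by rw [hT, σ_lift]
  have hsec : T * D.sec σ hsurj u v * T⁻¹ = D.sec σ hsurj (D.ω z * u) ((z : K) * v) := by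
    rw [sec, sec, conjugate_commutatorElement]
    refine same σ hc ?_ ?_
    · rw [map_mul, map_mul, map_inv, hσ, σ_lift, ← map_mul, mul_comm z, map_mul, mul_inv_cancel_right]
    · rw [map_mul, map_mul, map_inv, hσ, σ_lift, σ_lift, D.conj, mul_zero, mul_div_assoc', mul_div_assoc']
  rw [D.kp_eq σ hsurj hc (show σ (T * x * T⁻¹) = D.P 0 (D.ω z * u) ((z : K) * v) by
    rw [map_mul, map_mul, map_inv, hσ, hx, D.conj, mul_zero]), ← hsec]
  rw [show T * x * T⁻¹ * (T * D.sec σ hsurj u v * T⁻¹)⁻¹ = T * (x * (D.sec σ hsurj u v)⁻¹) * T⁻¹ by group,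
    ← D.kp_eq σ hsurj hc hx, Subgroup.mem_center_iff.1 (D.kp_central σ hsurj hc hx) T, mul_inv_cancel_right]

/-- Commutators with lifts of the abelian normal subgroup have no kernel component. -/
theorem kp_comm_W {r x : Γ} {t u v a b : K} (hr : σ r = D.P t u v) (hx : σ x = D.P 0 a b) :
    D.kp σ hsurj ⁅r, x⁆ = 1 := by
  let L : K → K → K → Γ := fun t u v => lift σ hsurj (D.P t u v)
  have hL : ∀ t u v, σ (L t u v) = D.P t u v := fun t u v => σ_lift σ hsurj _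
  have hTW : ∀ c d e, ∃ w, σ ⁅L c 0 0, L 0 d e⁆ = D.P 0 0 w := fun c d e => by
    rw [map_commutatorElement, hL, hL]; exact D.hTU c d e
  let f : K → K → ↥(Subgroup.center Γ) := fun c d =>
    ⟨D.kp σ hsurj ⁅L c 0 0, L 0 d 0⁆, (hTW c d 0).elim fun _ h => D.kp_central σ hsurj hc h⟩
  have hb : Biadd f := ⟨fun c c' d => by
    obtain ⟨p, q, hpq⟩ := D.hT c c'
    obtain ⟨w, hw⟩ := hTW c d 0
    obtain ⟨w', hw'⟩ := hTW c' d 0
    refine Subtype.ext ?_
    show D.kp σ hsurj ⁅L (c + c') 0 0, L 0 d 0⁆ =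
      D.kp σ hsurj ⁅L c 0 0, L 0 d 0⁆ * D.kp σ hsurj ⁅L c' 0 0, L 0 d 0⁆
    have e1 : ⁅L (c + c') 0 0 * L 0 p q, L 0 d 0⁆ = ⁅L (c + c') 0 0, L 0 d 0⁆ := by
      rw [mul_left_comm', commutatorElement_eq_one_iff_mul_comm.2 (D.W_comm σ hsurj hc (hL 0 p q) (hL 0 d 0)),
        mul_one, mul_inv_cancel, one_mul]
    rw [← e1, same σ hc (x := L (c + c') 0 0 * L 0 p q) (x' := L c 0 0 * L c' 0 0) (by
        rw [map_mul, map_mul, hL, hL, hL, hL, hpq]) rfl, mul_left_comm',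
      D.Z_comm σ hsurj hc (hL c 0 0) hw', mul_inv_cancel_right, D.W_comm σ hsurj hc hw' hw,
      D.kp_mul σ hsurj hc hw hw'],
    fun c d d' => by
    obtain ⟨w, hw⟩ := hTW c d 0
    obtain ⟨w', hw'⟩ := hTW c d' 0
    refine Subtype.ext ?_
    show D.kp σ hsurj ⁅L c 0 0, L 0 (d + d') 0⁆ =
      D.kp σ hsurj ⁅L c 0 0, L 0 d 0⁆ * D.kp σ hsurj ⁅L c 0 0, L 0 d' 0⁆
    rw [same σ hc (x := L c 0 0) (x' := L c 0 0) (y := L 0 (d + d') 0) (y' := L 0 d 0 * L 0 d' 0) rfl (by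
      rw [map_mul, hL, hL, hL, D.hW, add_zero]), mul_right_comm', D.Z_comm σ hsurj hc (hL 0 d 0) hw',
      mul_inv_cancel_right, D.kp_mul σ hsurj hc hw hw']⟩
  have hf : ∀ c d, f c d = 1 := fun c d => hb.eq_one_of_inv_eq D.h3 (by
    rw [← hb.neg_left]
    refine Subtype.ext ?_
    obtain ⟨w, hw⟩ := hTW c d 0
    show D.kp σ hsurj ⁅L (-c) 0 0, L 0 d 0⁆ = D.kp σ hsurj ⁅L c 0 0, L 0 d 0⁆
    rw [← D.kp_conj_tz σ hsurj hc (-1) hw, conjugate_commutatorElement]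
    refine congrArg (D.kp σ hsurj) (same σ hc ?_ ?_)
    · simp only [map_mul, map_inv, hL, σ_lift, D.conj, mul_zero, D.χ_neg, neg_one_mul]
    · simp only [map_mul, map_inv, hL, σ_lift, D.conj, mul_zero, D.ω_neg, one_mul])
  rw [same σ hc (x := r) (x' := L t 0 0 * L 0 u v) (y := x) (y' := L 0 a 0 * L 0 0 b)
    (by rw [map_mul, hL, hL, ← D.hdec, hr]) (by rw [map_mul, hL, hL, D.hW, add_zero, zero_add, hx]),
    mul_left_comm', commutatorElement_eq_one_iff_mul_comm.2 (D.W_comm σ hsurj hc (hL 0 u v)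
      (show σ (L 0 a 0 * L 0 0 b) = D.P 0 a b by rw [map_mul, hL, hL, D.hW, add_zero, zero_add])),
    mul_one, mul_inv_cancel, one_mul, right_of_central (central σ hc (by rw [hL, hL]; exact D.hZ _ _ _ _)),
    commutatorElement_eq_one_iff_mul_comm.2 (D.Z_comm σ hsurj hc (hL t 0 0) (hL 0 0 b)), mul_one]
  exact congrArg Subtype.val (hf t a)

theorem kp_conj {r x : Γ} {t u v a b : K} (hr : σ r = D.P t u v) (hx : σ x = D.P 0 a b) :
    D.kp σ hsurj (r * x * r⁻¹) = D.kp σ hsurj x := by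
  obtain ⟨c, d, hcd⟩ := D.hUU t u v 0 a b
  have h : σ ⁅r, x⁆ = D.P 0 c d := by rw [map_commutatorElement, hr, hx, hcd]
  rw [show r * x * r⁻¹ = ⁅r, x⁆ * x by simp only [commutatorElement_def]; group, D.kp_mul σ hsurj hc h hx,
    D.kp_comm_W σ hsurj hc hr hx, one_mul]

/-- No commutator of lifts has a kernel component. -/
theorem kp_comm {r r' : Γ} {t u v t' u' v' : K} (hr : σ r = D.P t u v) (hr' : σ r' = D.P t' u' v') :
    D.kp σ hsurj ⁅r, r'⁆ = 1 := by
  let L : K → K → K → Γ := fun t u v => lift σ hsurj (D.P t u v)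
  have hL : ∀ t u v, σ (L t u v) = D.P t u v := fun t u v => σ_lift σ hsurj _
  have hW' : ∀ {x y : Γ} {t u v t' u' v' : K}, σ x = D.P t u v → σ y = D.P t' u' v' →
      ∃ a b, σ ⁅x, y⁆ = D.P 0 a b := fun {x y t u v t' u' v'} hx hy => by
    rw [map_commutatorElement, hx, hy]; exact D.hUU _ _ _ _ _ _
  have hlft : ∀ {x y e : Γ} {p q p' q' r s : K} {i j k : K}, σ x = D.P i p q → σ y = D.P j p' q' → σ e = D.P k r s →
      D.kp σ hsurj ⁅x * y, e⁆ = D.kp σ hsurj ⁅y, e⁆ * D.kp σ hsurj ⁅x, e⁆ := by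
    intro x y e p q p' q' r s i j k hx hy he
    obtain ⟨a, b, h1⟩ := hW' hy he
    obtain ⟨c, d, h2⟩ := hW' hx he
    obtain ⟨a', b', h3⟩ := hW' hx h1
    rw [mul_left_comm', D.kp_mul σ hsurj hc (u := a' + a) (v := b' + b)
      (by rw [show x * ⁅y, e⁆ * x⁻¹ = ⁅x, ⁅y, e⁆⁆ * ⁅y, e⁆ by simp only [commutatorElement_def]; group, map_mul, h3,
        h1, D.hW]) h2, D.kp_conj σ hsurj hc hx h1]
  have hswap : ∀ {x y : Γ} {a b : K}, σ ⁅x, y⁆ = D.P 0 a b →
      D.kp σ hsurj ⁅y, x⁆ = (D.kp σ hsurj ⁅x, y⁆)⁻¹ := by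
    intro x y a b h
    have h' : σ ⁅y, x⁆ = D.P 0 (-a) (-b) := by
      rw [← commutatorElement_inv x y, map_inv, h]
      refine inv_eq_of_mul_eq_one_right ?_
      rw [D.hW, add_neg_cancel, add_neg_cancel, D.zero]
    refine eq_inv_of_mul_eq_one_left ?_
    rw [← D.kp_mul σ hsurj hc h' h, ← commutatorElement_inv x y, inv_mul_cancel,
      D.kp_eq σ hsurj hc (u := 0) (v := 0) (by rw [map_one, D.zero]), one_mul, inv_eq_one]
    have h0 := D.sec_add σ hsurj hc 0 0 0 0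
    rw [add_zero] at h0
    exact left_eq_mul.1 h0
  let F : K → K → ↥(Subgroup.center Γ) := fun a b =>
    ⟨D.kp σ hsurj ⁅L a 0 0, L b 0 0⁆, (hW' (hL a 0 0) (hL b 0 0)).elim fun _ ⟨_, h⟩ => D.kp_central σ hsurj hc h⟩
  have hanti : ∀ a b, F b a = (F a b)⁻¹ := fun a b => Subtype.ext (by
    obtain ⟨c, d, h⟩ := hW' (hL a 0 0) (hL b 0 0)
    exact hswap h)
  have hl : ∀ a a' b, F (a + a') b = F a b * F a' b := fun a a' b => by
    obtain ⟨p, q, hpq⟩ := D.hT a a'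
    refine Subtype.ext ?_
    show D.kp σ hsurj ⁅L (a + a') 0 0, L b 0 0⁆ =
      D.kp σ hsurj ⁅L a 0 0, L b 0 0⁆ * D.kp σ hsurj ⁅L a' 0 0, L b 0 0⁆
    obtain ⟨c, d, hcd⟩ := hW' (hL b 0 0) (hL 0 p q)
    have e1 : D.kp σ hsurj ⁅L (a + a') 0 0 * L 0 p q, L b 0 0⁆ = D.kp σ hsurj ⁅L (a + a') 0 0, L b 0 0⁆ := by
      rw [hlft (hL _ _ _) (hL 0 p q) (hL b 0 0), hswap hcd, D.kp_comm_W σ hsurj hc (hL b 0 0) (hL 0 p q), inv_one,
        one_mul]
    rw [← e1, same σ hc (x := L (a + a') 0 0 * L 0 p q) (x' := L a 0 0 * L a' 0 0) (by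
      rw [map_mul, map_mul, hL, hL, hL, hL, hpq]) rfl, hlft (hL a 0 0) (hL a' 0 0) (hL b 0 0),
      Subgroup.mem_center_iff.1 (F a b).2]
  have hF : Biadd F := ⟨hl, fun a b b' => by
    rw [← inv_inv (F a (b + b')), ← hanti, hl, mul_inv, hanti a b, hanti a b', inv_inv, inv_inv]⟩
  have hF1 : ∀ a b, F a b = 1 := hF.scalar D.scalar D.scalar0 D.scalar1 D.scalar2 D.h3 (fun l hl0 a b => by
    obtain ⟨z, rfl⟩ := D.χ_surj l hl0
    refine Subtype.ext ?_
    obtain ⟨c, d, hcd⟩ := hW' (hL a 0 0) (hL b 0 0)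
    show D.kp σ hsurj ⁅L (D.χ z * a) 0 0, L (D.χ z * b) 0 0⁆ = D.kp σ hsurj ⁅L a 0 0, L b 0 0⁆
    rw [← D.kp_conj_tz σ hsurj hc z hcd, conjugate_commutatorElement]
    refine congrArg (D.kp σ hsurj) (same σ hc ?_ ?_) <;>
      simp only [map_mul, map_inv, hL, σ_lift, D.conj, mul_zero])
  have hred : ∀ {e : Γ} {i p q j a b : K}, σ e = D.P j a b →
      D.kp σ hsurj ⁅L i 0 0 * L 0 p q, e⁆ = D.kp σ hsurj ⁅L i 0 0, e⁆ := by
    intro e i p q j a b he
    obtain ⟨c, d, hcd⟩ := hW' he (hL 0 p q)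
    rw [hlft (hL i 0 0) (hL 0 p q) he, hswap hcd, D.kp_comm_W σ hsurj hc he (hL 0 p q), inv_one, one_mul]
  have hsplit : σ (L t' 0 0 * L 0 u' v') = D.P t' u' v' := by rw [map_mul, hL, hL, ← D.hdec]
  rw [same σ hc (x := r) (x' := L t 0 0 * L 0 u v) (y := r') (y' := L t' 0 0 * L 0 u' v')
    (by rw [map_mul, hL, hL, ← D.hdec, hr]) (by rw [hsplit, hr']), hred hsplit]
  obtain ⟨c, d, hcd⟩ := hW' hsplit (hL t 0 0)
  rw [hswap hcd, hred (hL t 0 0), ← hswap ((hW' (hL t' 0 0) (hL t 0 0)).choose_spec.choose_spec)]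
  exact congrArg Subtype.val (hF1 t t')

/-- The derived group of the lifted unipotent group avoids the kernel. -/
theorem commutator_ker {R : Subgroup Γ} (hR : ∀ x ∈ R, ∃ t u v, σ x = D.P t u v) {x : Γ}
    (hx : x ∈ ⁅R, R⁆) (hσ : σ x = 1) : x = 1 := by
  let M : Subgroup Γ :=
    { carrier := {x | ∃ u v, σ x = D.P 0 u v ∧ x = D.sec σ hsurj u v}
      one_mem' := ⟨0, 0, by rw [map_one, D.zero], by
        have h0 := D.sec_add σ hsurj hc 0 0 0 0
        rw [add_zero] at h0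
        exact (left_eq_mul.1 h0).symm⟩
      mul_mem' := fun {a b} ⟨u, v, h1, h2⟩ ⟨u', v', h1', h2'⟩ => ⟨u + u', v + v', by
        rw [map_mul, h1, h1', D.hW], by rw [D.sec_add σ hsurj hc, ← h2, ← h2']⟩
      inv_mem' := fun {a} ⟨u, v, h1, h2⟩ => by
        have e : D.sec σ hsurj (-u) (-v) * D.sec σ hsurj u v = 1 := by
          have h0 := D.sec_add σ hsurj hc 0 0 0 0
          rw [add_zero] at h0
          rw [← D.sec_add σ hsurj hc, neg_add_cancel, neg_add_cancel]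
          exact left_eq_mul.1 h0
        refine ⟨-u, -v, ?_, ?_⟩
        · rw [map_inv, h1]
          refine inv_eq_of_mul_eq_one_right ?_
          rw [D.hW, add_neg_cancel, add_neg_cancel, D.zero]
        · rw [h2]
          exact (eq_inv_of_mul_eq_one_left e).symm }
  have hle : ⁅R, R⁆ ≤ M := Subgroup.commutator_le.2 fun a ha b hb => by
    obtain ⟨t, u, v, hta⟩ := hR a ha
    obtain ⟨t', u', v', htb⟩ := hR b hb
    obtain ⟨c, d, hcd⟩ := D.hUU t u v t' u' v'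
    have h : σ ⁅a, b⁆ = D.P 0 c d := by rw [map_commutatorElement, hta, htb, hcd]
    refine ⟨c, d, h, ?_⟩
    have := D.kp_comm σ hsurj hc hta htb
    rwa [D.kp_eq σ hsurj hc h, mul_inv_eq_one] at this
  obtain ⟨u, v, h1, h2⟩ := hle hx
  rw [hσ, ← D.zero] at h1
  obtain ⟨rfl, rfl⟩ := D.inj _ _ _ _ h1.symm
  have h0 := D.sec_add σ hsurj hc 0 0 0 0
  rw [add_zero] at h0
  rw [h2]
  exact left_eq_mul.1 h0

end UData

end Cfsg.Agent.Small.Ree.MultUnip
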