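import Cfsg.Agent.Lib.Small.Ree.Solvable
import Cfsg.Agent.Lib.Small.Ree.MultUnip
import Cfsg.Agent.Lib.Solv.StemSylowLocal

/-!
The Schur multiplier of the small Ree groups.
-/

set_option autoImplicit false
set_option synthInstance.maxHeartbeats 400000
set_option maxHeartbeats 1600000
set_option maxRecDepth 4000
set_option linter.style.haveILetI false

open scoped commutatorElement

namespace Cfsg.Agent.Small.Ree

open Cfsg Cfsg.Lie Cfsg.Agent.Lie Cfsg.Agent.Lie.Twist Matrix
open scoped MatrixGroups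
open Cfsg.Agent.Lie.G2 (Os Setup)
open Cfsg.Agent.Small.TwistAut Cfsg.Agent.Small.TwistAut.G2

section Seven

open scoped IsMulCommutative

variable {G : Type*} [Group G] {E : Subgroup G}

/-- A group of order eight and exponent two under an element of order seven without fixed points. -/
theorem seven_basis [Finite G] (hE : Nat.card E = 8) (h2 : ∀ x ∈ E, x * x = 1) {h : G}
    (hh : h ∈ Subgroup.normalizer (E : Set G))
    (hfree : ∀ k, 0 < k → k < 5 → ∀ x ∈ E, h ^ k * x * (h ^ k)⁻¹ = x → x = 1) :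
    ∃ a b c g : G, a ∈ E ∧ b ∈ E ∧ c ∈ E ∧ g * a = b * g ∧ g * b = c * g ∧ g * c = a * b * g ∧
      E ≤ Subgroup.closure ({a, b, c} : Set G) := by
  classical
  have hne : E ≠ ⊥ := fun e => by rw [e, Subgroup.card_bot] at hE; omega
  obtain ⟨⟨a, ha⟩, ha1⟩ := Subgroup.ne_bot_iff_exists_ne_one.1 hne
  replace ha1 : a ≠ 1 := fun e => ha1 (Subtype.ext e)
  haveI : IsMulCommutative E := ⟨⟨fun x y => Subtype.ext (comm_of_sq h2 x.2 y.2)⟩⟩
  let φ : G → G := fun x => h * x * h⁻¹
  have hφ : ∀ x ∈ E, φ x ∈ E := fun x hx => (Subgroup.mem_normalizer_iff.1 hh x).1 hx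
  have hφm : ∀ x y, φ (x * y) = φ x * φ y := fun x y => by simp only [φ]; group
  have hp : ∀ k, 0 < k → k < 5 → ∀ x ∈ E, φ^[k] x = x → x = 1 := by
    intro k hk hk5 x hx e
    refine hfree k hk hk5 x hx (Eq.trans ?_ e)
    clear e hk hk5
    induction k with
    | zero => simp
    | succ k ih =>
      rw [Function.iterate_succ_apply', ← ih]
      simp only [φ, pow_succ']
      group
  obtain ⟨b, hb⟩ : ∃ b, b = φ a := ⟨_, rfl⟩
  obtain ⟨c, hc⟩ : ∃ c, c = φ b := ⟨_, rfl⟩
  obtain ⟨d, hd⟩ : ∃ d, d = φ c := ⟨_, rfl⟩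
  have hbE : b ∈ E := hb ▸ hφ a ha
  have hcE : c ∈ E := hc ▸ hφ b hbE
  have hdE : d ∈ E := hd ▸ hφ c hcE
  have hcm : ∀ x ∈ E, ∀ y ∈ E, x * y = y * x := fun x hx y hy => comm_of_sq h2 hx hy
  have hb1 : b ≠ 1 := fun e => ha1 (conj_eq_one_iff.1 (hb.symm.trans e))
  have hc1 : c ≠ 1 := fun e => hb1 (conj_eq_one_iff.1 (hc.symm.trans e))
  have hd1 : d ≠ 1 := fun e => hc1 (conj_eq_one_iff.1 (hd.symm.trans e))
  have hi2 : ∀ x ∈ E, x⁻¹ = x := fun x hx => inv_eq_of_mul_eq_one_right (h2 x hx)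
  have heq : ∀ x ∈ E, ∀ y ∈ E, x * y = 1 → x = y := fun x hx y hy e =>
    (inv_eq_of_mul_eq_one_left e).symm.trans (hi2 y hy)
  have n1 : b ≠ a := fun e => ha1 (hp 1 one_pos (by norm_num) a ha (by rw [Function.iterate_one, ← hb, e]))
  have n2 : c ≠ a := fun e => ha1 (hp 2 (by norm_num) (by norm_num) a ha (by
    rw [Function.iterate_succ_apply', Function.iterate_one, ← hb, ← hc, e]))
  have n3 : c ≠ b := fun e => hb1 (hp 1 one_pos (by norm_num) b hbE (by rw [Function.iterate_one, ← hc, e]))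
  have n4 : c ≠ a * b := fun e => ha1 (hp 3 (by norm_num) (by norm_num) a ha (by
    rw [Function.iterate_succ_apply', Function.iterate_succ_apply', Function.iterate_one, ← hb, ← hc, e, hφm,
      ← hb, ← hc, e, hcm a ha b hbE, ← mul_assoc, h2 b hbE, one_mul]))
  -- coordinates
  let g : G → Bool → G := fun x i => if i then x else 1
  have hg : ∀ x ∈ E, ∀ i j, g x (xor i j) = g x i * g x j := fun x hx i j => by
    cases i <;> cases j <;> simp [g, h2 x hx]
  have hgE : ∀ x ∈ E, ∀ i, g x i ∈ E := fun x hx i => by cases i <;> simp [g, hx, one_mem]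
  let f : Bool × Bool × Bool → E := fun p =>
    ⟨g a p.1, hgE a ha _⟩ * ⟨g b p.2.1, hgE b hbE _⟩ * ⟨g c p.2.2, hgE c hcE _⟩
  have hf1 : ∀ p, f p = 1 → p = (false, false, false) := by
    rintro ⟨i, j, k⟩ e
    have e' : g a i * g b j * g c k = 1 := congrArg Subtype.val e
    cases i <;> cases j <;> cases k <;> simp only [g, if_true, Bool.false_eq_true, if_false, one_mul, mul_one] at e' ⊢
    · exact absurd e' hc1
    · exact absurd e' hb1
    · exact absurd (heq b hbE c hcE e').symm n3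
    · exact absurd e' ha1
    · exact absurd (heq a ha c hcE e').symm n2
    · exact absurd (heq a ha b hbE e').symm n1
    · exact absurd (heq _ (mul_mem ha hbE) c hcE e').symm n4
  have hfm : ∀ p p', f (xor p.1 p'.1, xor p.2.1 p'.2.1, xor p.2.2 p'.2.2) = f p * f p' := fun p p' => by
    refine Eq.trans ?_ (mul_mul_mul_comm _ _ _ _).symm
    rw [mul_mul_mul_comm (⟨g a p.1, hgE a ha _⟩ : E)]
    simp only [f, MulMemClass.mk_mul_mk, hg a ha, hg b hbE, hg c hcE]
  have hfi : Function.Injective f := fun p p' e => by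
    have h' := hf1 (xor p.1 p'.1, xor p.2.1 p'.2.1, xor p.2.2 p'.2.2) (by
      rw [hfm, e]; exact Subtype.ext (h2 _ (f p').2))
    have hx : ∀ i j k i' j' k' : Bool, (xor i i', xor j j', xor k k') = (false, false, false) →
        (i, j, k) = (i', j', k') := by decide
    exact hx _ _ _ _ _ _ h'
  have hfs : Function.Surjective f := (hfi.bijective_of_nat_card_le (by
    rw [hE, Nat.card_eq_fintype_card]; rfl)).2
  have hgen : E ≤ Subgroup.closure ({a, b, c} : Set G) := fun x hx => by
    obtain ⟨p, hp'⟩ := hfs ⟨x, hx⟩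
    rw [← show ((f p : E) : G) = x from congrArg Subtype.val hp']
    have hm : ∀ y ∈ ({a, b, c} : Set G), ∀ i, g y i ∈ Subgroup.closure ({a, b, c} : Set G) := fun y hy i => by
      cases i
      · exact one_mem _
      · exact Subgroup.subset_closure hy
    exact mul_mem (mul_mem (hm a (by simp) _) (hm b (by simp) _)) (hm c (by simp) _)
  have hmv : ∀ x, h * x = φ x * h := fun x => by simp only [φ]; group
  obtain ⟨⟨i, j, k⟩, hp'⟩ := hfs ⟨d, hdE⟩
  have e' : g a i * g b j * g c k = d := congrArg Subtype.val hp'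
  cases i <;> cases j <;> cases k <;> simp only [g, if_true, Bool.false_eq_true, if_false, one_mul, mul_one] at e'
  · exact absurd e'.symm hd1
  · exact absurd (hp 1 one_pos (by norm_num) c hcE (by rw [Function.iterate_one, ← hd, ← e'])) hc1
  · exact absurd (hp 2 (by norm_num) (by norm_num) b hbE (by
      rw [Function.iterate_succ_apply', Function.iterate_one, ← hc, ← hd, ← e'])) hb1
  · refine absurd (hp 3 (by norm_num) (by norm_num) b hbE ?_) hb1
    rw [Function.iterate_succ_apply', Function.iterate_succ_apply', Function.iterate_one, ← hc, ← hd, ← e', hφm,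
      ← hc, ← hd, ← e', hcm b hbE c hcE, ← mul_assoc, h2 c hcE, one_mul]
  · exact absurd (hp 3 (by norm_num) (by norm_num) a ha (by
      rw [Function.iterate_succ_apply', Function.iterate_succ_apply', Function.iterate_one, ← hb, ← hc, ← hd,
        ← e'])) ha1
  · refine ⟨c, b, a, h⁻¹, hcE, hbE, ha, ?_, ?_, ?_, by
      rwa [show ({c, b, a} : Set G) = {a, b, c} by ext; simp only [Set.mem_insert_iff, Set.mem_singleton_iff]; tauto]⟩
    · rw [hc]; simp only [φ]; group
    · rw [hb]; simp only [φ]; group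
    · have h1 : φ (c * b) = a := by
        rw [hφm, ← hd, ← hc, ← e', mul_assoc, h2 c hcE, mul_one]
      conv_lhs => rw [← h1]
      simp only [φ]; group
  · refine ⟨a, b, c, h, ha, hbE, hcE, ?_, ?_, ?_, hgen⟩
    · rw [hmv, ← hb]
    · rw [hmv, ← hc]
    · rw [hmv, ← hd, e']
  · refine absurd (hp 4 (by norm_num) (by norm_num) a ha ?_) ha1
    rw [Function.iterate_succ_apply', Function.iterate_succ_apply', Function.iterate_succ_apply',
      Function.iterate_one, ← hb, ← hc, ← hd, ← e', hφm, hφm, ← hb, ← hc, ← hd, ← e']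
    calc b * c * (a * b * c) = b * (c * (a * b)) * c := by group
      _ = b * (a * b * c) * c := by rw [hcm c hcE (a * b) (mul_mem ha hbE)]
      _ = b * (a * b) * (c * c) := by group
      _ = (b * b) * a := by rw [h2 c hcE, mul_one, hcm a ha b hbE, mul_assoc]
      _ = a := by rw [h2 b hbE, one_mul]

/-- An element of order seven normalising a group of order eight, self-centralising, fixes no involution of it. -/
theorem seven_free [Finite G] (hE : Nat.card E = 8) (hcent : Subgroup.centralizer (E : Set G) ≤ E)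
    (h2 : ∀ x ∈ E, x * x = 1) {h : G} (hh : h ∈ Subgroup.normalizer (E : Set G)) (h7 : orderOf h = 7)
    {x : G} (hx : x ∈ E) (hfix : h * x * h⁻¹ = x) : x = 1 := by
  classical
  by_contra hx1
  haveI : Fintype G := Fintype.ofFinite G
  suffices hall : h ∈ Subgroup.centralizer (E : Set G) by
    have hd := Subgroup.orderOf_dvd_natCard E (hcent hall)
    rw [h7, hE] at hd
    norm_num at hd
  refine Subgroup.mem_centralizer_iff.2 fun e he => ?_
  by_contra hne
  have hmove : h * e * h⁻¹ ≠ e := fun e' => hne (mul_inv_eq_iff_eq_mul.1 e').symm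
  let ψ : MulAut G := MulAut.conj h
  have hψ7 : ψ ^ 7 = 1 := by rw [← map_pow, ← h7, pow_orderOf_eq_one, map_one]
  have hper : Function.minimalPeriod (fun y => ψ y) e = 7 := by
    have hd : Function.minimalPeriod (fun y => ψ y) e ∣ 7 := by
      refine Function.IsPeriodicPt.minimalPeriod_dvd ?_
      show (fun y => ψ y)^[7] e = e
      have : ∀ n, (fun y => ψ y)^[n] e = (ψ ^ n) e := fun n => by
        induction n with
        | zero => rfl
        | succ n ih => rw [Function.iterate_succ_apply', ih, pow_succ', MulAut.mul_apply]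
      rw [this, hψ7]; rfl
    rcases (Nat.dvd_prime (by norm_num : Nat.Prime 7)).1 hd with h1 | h1
    · exact absurd (Function.minimalPeriod_eq_one_iff_isFixedPt.1 h1) hmove
    · exact h1
  have hmem : ∀ n, (fun y => ψ y)^[n] e ∈ E := fun n => by
    induction n with
    | zero => exact he
    | succ n ih => rw [Function.iterate_succ_apply']; exact (Subgroup.mem_normalizer_iff.1 hh _).1 ih
  let F : Option (Option (Fin 7)) → E := fun o => match o with
    | none => 1
    | some none => ⟨x, hx⟩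
    | some (some i) => ⟨(fun y => ψ y)^[i.1] e, hmem _⟩
  have hne1 : ∀ n, (fun y => ψ y)^[n] e ≠ 1 ∧ (fun y => ψ y)^[n] e ≠ x := fun n => by
    induction n with
    | zero => exact ⟨fun e0 => hmove (by rw [show e = 1 from e0]; group), fun e0 => hmove (by
        rw [show e = x from e0]; exact hfix)⟩
    | succ n ih =>
      rw [Function.iterate_succ_apply']
      exact ⟨fun e0 => ih.1 (ψ.injective (e0.trans (map_one ψ).symm)), fun e0 => ih.2 (ψ.injective (e0.trans hfix.symm))⟩
  have hF : Function.Injective F := by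
    rintro (_ | _ | i) (_ | _ | j) e0 <;> have e1 := congrArg Subtype.val e0
    · rfl
    · exact absurd e1.symm hx1
    · exact absurd e1.symm (hne1 j).1
    · exact absurd e1 hx1
    · rfl
    · exact absurd e1.symm (hne1 j).2
    · exact absurd e1 (hne1 i).1
    · exact absurd e1 (hne1 i).2
    · exact congrArg (fun i => some (some i)) (Fin.ext (Function.iterate_injOn_Iio_minimalPeriod
        (by rw [hper]; exact i.2) (by rw [hper]; exact j.2) e1))
  have := Nat.card_le_card_of_injective F hF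
  rw [hE, Nat.card_eq_fintype_card] at this
  simp at this

end Seven

variable {K : Type*} [Field K] [Fintype K] {m : ℕ} (S : Setup K m)
variable (h27 : 27 ≤ Fintype.card K)

include h27

/-- The unipotent data. -/
theorem exists_UData : ∃ D : MultUnip.UData (RG S) K, D.P = P S := by
  classical
  have h3 : (3 : K) = 0 := S.h3
  haveI : CharP K 3 := (CharP.charP_iff_prime_eq_zero Nat.prime_three).2 (by exact_mod_cast h3)
  haveI : Fact (Nat.Prime 3) := ⟨Nat.prime_three⟩
  have hodd : Odd (3 * 3 ^ m) := by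
    rw [← pow_succ']; exact (by decide : Odd 3).pow
  have hzero : ((0 : K) ^ (3 * 3 ^ m)) = 0 := zero_pow (by positivity)
  obtain ⟨z0, hz0⟩ := IsCyclic.exists_generator (α := Kˣ)
  have hord : orderOf z0 = Fintype.card K - 1 := by
    rw [orderOf_eq_card_of_forall_mem_zpowers hz0, Nat.card_units, Nat.card_eq_fintype_card]
  have hsq : z0 ^ 2 ≠ 1 := fun e => by
    have := Nat.le_of_dvd (by norm_num) (hord ▸ orderOf_dvd_of_pow_eq_one e)
    omega
  let a : ℕ := (Fintype.card K - 1) / 2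
  have haodd : Odd a := Nat.odd_iff.2 (by have := card_mod_eight S; omega)
  have hcard : Fintype.card K - 1 = 2 * a := by have := card_mod_eight S; omega
  let χu : Kˣ →* Kˣ := MonoidHom.mk' (fun z => z ^ 2 * (z ^ (3 * 3 ^ m))⁻¹) fun z w => by
    rw [mul_pow, mul_pow, mul_inv, mul_mul_mul_comm]
  have hχu : Function.Surjective χu := Finite.injective_iff_surjective.1
    ((injective_iff_map_eq_one χu).2 fun z hz => pow_s_eq_sq S (by
      have := congrArg Units.val hz
      simpa [χu] using this))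
  let φu : Kˣ →* Kˣ := MonoidHom.mk' (fun z => z ^ (3 * 3 ^ m) * z⁻¹ * z ^ a) fun z w => by
    rw [mul_pow, mul_pow, mul_inv]
    simp only [mul_comm, mul_left_comm, mul_assoc]
  have hpq : ∀ z : Kˣ, z ^ a * z ^ a = 1 := fun z => by
    rw [← pow_add, ← two_mul, ← hcard, ← Nat.card_eq_fintype_card (α := K), ← Nat.card_units]
    exact pow_card_eq_one'
  have hφu : Function.Surjective φu := Finite.injective_iff_surjective.1
    ((injective_iff_map_eq_one φu).2 fun z hz => by
      have h1 : z ^ (3 * 3 ^ m) * z⁻¹ * z ^ a = 1 := hz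
      have h2 : (z ^ 2) ^ (3 * 3 ^ m) = z ^ 2 := by
        have e := congrArg (· ^ 2) h1
        simp only [mul_pow, one_pow, pow_two (z ^ a), hpq, mul_one, inv_pow] at e
        rw [mul_inv_eq_one] at e
        rw [← pow_mul, mul_comm, pow_mul, e]
      have h4 : (z ^ 2) ^ 2 = 1 := pow_s_eq_self S (by
        have e := congrArg Units.val h2
        simpa only [Units.val_pow_eq_pow_val] using e)
      have h5 : z ^ 2 = 1 := by
        obtain ⟨k, hk⟩ := haodd
        have hz1 : z ^ (2 * a) = 1 := by rw [two_mul, pow_add, hpq]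
        rw [show 2 * a = 2 * 2 * k + 2 by omega, pow_add, pow_mul, pow_mul, h4, one_pow, one_mul] at hz1
        exact hz1
      rcases unit_sq h5 with rfl | rfl
      · rfl
      · exfalso
        rw [hodd.neg_one_pow, inv_neg, inv_one, neg_mul_neg, one_mul, one_mul, haodd.neg_one_pow] at h1
        exact neg_one_ne S h1)
  have hW : ∀ u v u' v', P S 0 u v * P S 0 u' v' = P S 0 (u + u') (v + v') := fun u v u' v' => by
    rw [P_mul]; simp [hzero]
  have hdec : ∀ t u v, P S t u v = P S t 0 0 * P S 0 u v := fun t u v => by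
    rw [P_mul]; simp [hzero]
  refine ⟨{
    P := P S
    tz := tz S
    χ := fun z => ((χu z : Kˣ) : K)
    ω := fun z => ((z ^ (3 * 3 ^ m) * z⁻¹ : Kˣ) : K)
    s := fun x => x ^ (3 * 3 ^ m)
    h3 := h3
    inj := fun u v u' v' h => (P_inj S h).2
    zero := P_zero S
    hW := hW
    hdec := hdec
    hT := fun t t' => ?_
    hZ := fun t u v w => ?_
    hTU := fun t u v => ⟨t * u, ?_⟩
    hUU := fun t u v t' u' v' => ?_
    conj := fun z t u v => ?_
    hs := fun x y => ?_
    hχ := fun z => ?_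
    hne := ⟨z0, ?_⟩
    χ_surj := fun l hl => ?_
    ω_surj := fun l hl => ?_
    χ_neg := ?_
    ω_neg := ?_
    z0 := z0
    z0_ω := ?_
    z0_v := fun e => hsq (by rw [Units.val_eq_one.1 e, one_pow])
    scalar := (z0 : K)
    scalar0 := z0.ne_zero
    scalar1 := fun e => hsq (by rw [Units.val_eq_one.1 e, one_pow])
    scalar2 := fun e => hsq (Units.ext (by rw [Units.val_pow_eq_pow_val, e, Units.val_one]; ring)) }, rfl⟩
  · exact ⟨_, _, (P_mul S t 0 0 t' 0 0).trans (hdec _ _ _)⟩
  · rw [P_mul, P_mul]; simp [hzero, add_comm]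
  · rw [commutatorElement_def, mul_inv_eq_iff_eq_mul, mul_inv_eq_iff_eq_mul, mul_assoc, P_mul, P_mul, P_mul]
    congr 1 <;> simp [hzero] <;> ring
  · obtain ⟨x, y, w, hx⟩ := (mem_U1_iff S).1 (show ⁅P S t u v, P S t' u' v'⁆ ∈ U1 S.data from by
      rw [commutatorElement_def]
      exact mul_mem (mul_mem (mul_mem ((mem_U1_iff S).2 ⟨t, u, v, rfl⟩) ((mem_U1_iff S).2 ⟨t', u', v', rfl⟩))
        (inv_mem ((mem_U1_iff S).2 ⟨t, u, v, rfl⟩))) (inv_mem ((mem_U1_iff S).2 ⟨t', u', v', rfl⟩)))
    have e : P S t u v * P S t' u' v' = P S x y w * (P S t' u' v' * P S t u v) := by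
      rw [← hx, commutatorElement_def]; group
    rw [P_mul, P_mul, P_mul] at e
    obtain ⟨e1, -, -⟩ := P_inj S e
    have hx0 : x = 0 := by linear_combination -e1
    exact ⟨y, w, by rw [hx, hx0]⟩
  · rw [tz_conj]
    congr 1 <;> simp [χu]
  · rw [← pow_succ', add_pow_char_pow]
  · show ((χu z : Kˣ) : K) * (z : K) ^ (3 * 3 ^ m) = (z : K) * z
    simp only [χu, MonoidHom.mk'_apply, Units.val_mul, Units.val_pow_eq_pow_val, Units.val_inv_eq_inv_val]
    rw [inv_mul_cancel_right₀ (pow_ne_zero _ z.ne_zero), pow_two]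
  · intro e
    have e' : z0 ^ 2 * (z0 ^ (3 * 3 ^ m))⁻¹ * z0 = 1 := Units.ext e
    rw [mul_comm _ z0, ← mul_assoc, mul_inv_eq_one, ← pow_succ'] at e'
    have h3m : 3 ^ 1 < 3 * 3 ^ m ∨ m = 0 := by
      rcases Nat.eq_zero_or_pos m with h | h
      · exact Or.inr h
      · exact Or.inl (by rw [← pow_succ']; exact Nat.pow_lt_pow_right (by norm_num) (by omega))
    have hlt : 3 * 3 ^ m < Fintype.card K - 1 := by
      have hq := card_K S
      rcases Nat.eq_zero_or_pos m with h | h
      · subst h; rw [hq] at h27; norm_num at h27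
      · have : 3 ^ (m + 1) * 3 ≤ 3 ^ (2 * m + 1) := by
          rw [← pow_succ]; exact Nat.pow_le_pow_right (by norm_num) (by omega)
        rw [← pow_succ']; omega
    have := pow_injOn_Iio_orderOf (x := z0) (show 2 + 1 ∈ Set.Iio (orderOf z0) by
      rw [hord, Set.mem_Iio]; omega) (show 3 * 3 ^ m ∈ Set.Iio (orderOf z0) by rw [hord]; exact hlt) e'
    rcases h3m with h | h
    · omega
    · subst h; rw [card_K S] at h27; norm_num at h27
  · obtain ⟨z, hz⟩ := hχu (Units.mk0 l hl)
    exact ⟨z, congrArg Units.val hz⟩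
  · obtain ⟨z, hz⟩ := hφu (Units.mk0 l hl)
    refine ⟨z, ?_⟩
    have hz' : (z ^ (3 * 3 ^ m) * z⁻¹ : Kˣ) = Units.mk0 l hl * z ^ a := by
      have e : z ^ (3 * 3 ^ m) * z⁻¹ * z ^ a = Units.mk0 l hl := hz
      rw [← e, mul_assoc (_ * _), hpq, mul_one]
    rcases unit_sq (show (z ^ a) ^ 2 = 1 by rw [pow_two, hpq]) with h | h
    · exact Or.inl (by rw [hz', h, mul_one, Units.val_mk0])
    · exact Or.inr (by rw [hz', h, Units.val_mul, Units.val_mk0, Units.val_neg, Units.val_one, mul_neg_one])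
  · simp [χu, hodd.neg_one_pow]
  · simp [hodd.neg_one_pow]
  · intro e
    refine hsq (pow_s_eq_self S ?_)
    have e' : z0 ^ (3 * 3 ^ m) * z0⁻¹ = 1 := Units.ext e
    rw [mul_inv_eq_one] at e'
    simpa only [Units.val_pow_eq_pow_val] using congrArg Units.val e'

variable {Γ : Type*} [Group Γ] (σ : Γ →* RG S)

/-- Lifts of a Sylow 2-subgroup commute. -/
theorem lift_two (hsurj : Function.Surjective σ) (hc : σ.ker ≤ Subgroup.center Γ) {x y : Γ} {Q : Sylow 2 (RG S)}
    (hx : σ x ∈ (Q : Subgroup (RG S))) (hy : σ y ∈ (Q : Subgroup (RG S))) : x * y = y * x := by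
  haveI : Fact (Nat.Prime 2) := ⟨Nat.prime_two⟩
  haveI : Fact (Nat.Prime 7) := ⟨by norm_num⟩
  obtain ⟨hQ, hQ2⟩ := sylow_two S Q
  obtain ⟨⟨h, hh⟩, ho⟩ := exists_prime_orderOf_dvd_card' 7
    (show 7 ∣ Nat.card (Subgroup.normalizer ((Q : Subgroup (RG S)) : Set (RG S))) by
      rw [sylow_two_normalizer S Q]; norm_num)
  rw [Subgroup.orderOf_mk] at ho
  obtain ⟨a, b, c, g, ha, hb, hc', h1, h2, h3, hgen⟩ := seven_basis (E := (Q : Subgroup (RG S))) hQ hQ2 hh
    (fun k hk hk5 z hz e => seven_free hQ (le_of_eq (sylow_two_centralizer S Q)) hQ2 (pow_mem hh k) (by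
      rw [orderOf_pow' h (by omega), ho, Nat.Coprime.gcd_eq_one ((Nat.Prime.coprime_iff_not_dvd (by norm_num)).2
        fun hd => by have := Nat.le_of_dvd hk hd; omega), Nat.div_one]) hz e)
  exact Cfsg.Agent.Lie.StemSylow.lifts_commute σ hsurj hc (comm_of_sq hQ2 ha hb) (comm_of_sq hQ2 ha hc')
    (comm_of_sq hQ2 hb hc') h1 h2 h3 (hgen hx) (hgen hy)

/-- The Schur multiplier is trivial. -/
theorem stem_trivial [Finite Γ] (hσ : Cfsg.IsStemExtension σ) : σ.ker = ⊥ := by
  classical
  obtain ⟨hsurj, hc, -⟩ := id hσ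
  refine Cfsg.Agent.Solv.StemLocal.ker_eq_bot σ hσ fun p hp R x hx hσx => ?_
  haveI : Fact p.Prime := ⟨hp⟩
  have hx' : (x : Γ) ∈ ⁅(R : Subgroup Γ), (R : Subgroup Γ)⁆ := by
    rw [← Subgroup.map_subtype_commutator]; exact ⟨x, hx, rfl⟩
  refine Subtype.ext ?_
  show (x : Γ) = 1
  obtain ⟨Q, hQ⟩ := (R.2.map σ).exists_le_sylow
  have habel : (∀ a ∈ (R : Subgroup Γ), ∀ b ∈ (R : Subgroup Γ), a * b = b * a) → (x : Γ) = 1 := fun hcm => by
    have : ⁅(R : Subgroup Γ), (R : Subgroup Γ)⁆ = ⊥ := Subgroup.commutator_eq_bot_iff_le_centralizer.2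
      fun a ha => Subgroup.mem_centralizer_iff.2 fun b hb => hcm b hb a ha
    rw [this, Subgroup.mem_bot] at hx'
    exact hx'
  rcases eq_or_ne p 2 with rfl | hp2
  · exact habel fun a ha b hb => lift_two S h27 σ hsurj hc (hQ ⟨a, ha, rfl⟩) (hQ ⟨b, hb, rfl⟩)
  rcases eq_or_ne p 3 with rfl | hp3
  · obtain ⟨g, hg⟩ := MulAction.exists_smul_eq (RG S) (sylU S) Q
    obtain ⟨T, rfl⟩ := hsurj g
    obtain ⟨D, hD⟩ := exists_UData S h27
    have hxc : (x : Γ) ∈ Subgroup.center Γ := hc hσx
    refine D.commutator_ker σ hsurj hc (R := (R : Subgroup Γ).map (MulAut.conj T⁻¹).toMonoidHom) ?_ ?_ hσx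
    · rintro _ ⟨r, hr, rfl⟩
      rw [hD]
      refine (mem_U1_iff S).1 ?_
      have h2 : σ r ∈ (Q : Subgroup (RG S)) := hQ ⟨r, hr, rfl⟩
      rw [← hg, Sylow.coe_subgroup_smul, Subgroup.mem_pointwise_smul_iff_inv_smul_mem, ← map_inv,
        MulAut.smul_def, MulAut.conj_apply, inv_inv, ← map_inv, ← map_mul, ← map_mul] at h2
      show σ (T⁻¹ * r * T⁻¹⁻¹) ∈ U1 S.data
      rw [inv_inv]
      exact h2
    · rw [← Subgroup.map_commutator]
      refine ⟨x, hx', ?_⟩
      show T⁻¹ * (x : Γ) * T⁻¹⁻¹ = x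
      rw [Subgroup.mem_center_iff.1 hxc T⁻¹, mul_inv_cancel_right]
  · have hcyc := sylow_cyclic S h27 (show 3 < p by have := hp.two_le; omega) Q
    haveI : IsCyclic ↥((R : Subgroup Γ).map σ) := by
      haveI := hcyc
      exact Subgroup.isCyclic_of_le hQ
    have := Cfsg.Agent.Lie.StemSylow.comm_of_cyclic_image σ hc (R : Subgroup Γ) inferInstance
    exact habel fun a ha b hb => congrArg Subtype.val (this.1.1 ⟨a, ha⟩ ⟨b, hb⟩)

end Cfsg.Agent.Small.Ree
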