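import Cfsg.Agent.Lib.Small.Ree.TwoTori

/-!
The small Ree groups: element orders, their numbers, and the conjugacy of small cyclic subgroups.
-/

set_option autoImplicit false
set_option synthInstance.maxHeartbeats 400000
set_option maxHeartbeats 1600000
set_option maxRecDepth 4000
set_option linter.style.haveILetI false

namespace Cfsg.Agent.Small.Ree

open Cfsg Cfsg.Lie Cfsg.Agent.Lie Cfsg.Agent.Lie.Twist Matrix
open scoped MatrixGroups
open Cfsg.Agent.Lie.G2 (Os Setup)
open Cfsg.Agent.Small.TwistAut Cfsg.Agent.Small.TwistAut.G2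

section Generic

theorem exists_prime_power_elt {G : Type*} [Group G] [Finite G] (g : G) {p : ℕ} (hp : p ∣ orderOf g) :
    ∃ x : G, orderOf x = p ∧ x ∈ Subgroup.zpowers g ∧ ∀ h ∈ Subgroup.zpowers g, h * x = x * h := by
  refine ⟨g ^ (orderOf g / p), orderOf_pow_orderOf_div (orderOf_pos g).ne' hp, ⟨_, _root_.zpow_natCast g _⟩,
    fun h hh => ?_⟩
  obtain ⟨j, rfl⟩ := Subgroup.mem_zpowers_iff.1 hh
  exact ((Commute.refl g).zpow_left j).pow_right _

theorem card_order_cyclic {G : Type*} [Group G] [Finite G] (H : Subgroup G) [IsCyclic H] {i : ℕ}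
    (hi : i ∣ Nat.card H) : Nat.card {h : H // orderOf (h : G) = i} = Nat.totient i := by
  classical
  haveI := Fintype.ofFinite H
  rw [Nat.card_eq_fintype_card] at hi
  simp only [Subgroup.orderOf_coe, Nat.card_eq_fintype_card, Fintype.card_subtype]
  exact IsCyclic.card_orderOf_eq_totient hi

theorem exists_order_of_dvd {G : Type*} [Group G] [Finite G] {g : G} {n d : ℕ} (hg : orderOf g = n)
    (hd : d ∣ n) : ∃ h : G, orderOf h = d :=
  ⟨g ^ (orderOf g / d), orderOf_pow_orderOf_div (orderOf_pos g).ne' (hg ▸ hd)⟩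

/-- Two cyclic subgroups of one order which are conjugate into a cyclic subgroup are conjugate. -/
theorem conj_of_cyclic {G : Type*} [Group G] [Finite G] {T A B : Subgroup G} (hT : IsCyclic T)
    (hAB : Nat.card A = Nat.card B) {a b : G}
    (ha : A.map (MulAut.conj a⁻¹).toMonoidHom ≤ T) (hb : B.map (MulAut.conj b⁻¹).toMonoidHom ≤ T) :
    ∃ g : G, B = A.map (MulAut.conj g).toMonoidHom := by
  have e : (A.map (MulAut.conj a⁻¹).toMonoidHom).subgroupOf T = (B.map (MulAut.conj b⁻¹).toMonoidHom).subgroupOf T :=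
    cyclic_sub_eq (by
      rw [Nat.card_congr (Subgroup.subgroupOfEquivOfLe ha).toEquiv,
        Nat.card_congr (Subgroup.subgroupOfEquivOfLe hb).toEquiv,
        ← Nat.card_congr (Subgroup.equivMapOfInjective _ _ (MulAut.conj a⁻¹).injective).toEquiv,
        ← Nat.card_congr (Subgroup.equivMapOfInjective _ _ (MulAut.conj b⁻¹).injective).toEquiv, hAB])
  rw [Subgroup.subgroupOf_inj, inf_eq_left.2 ha, inf_eq_left.2 hb] at e
  refine ⟨b * a⁻¹, ?_⟩
  have h := congrArg (Subgroup.map (MulAut.conj b).toMonoidHom) e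
  rw [Subgroup.map_map, Subgroup.map_map] at h
  have e1 : ((MulAut.conj b).toMonoidHom.comp (MulAut.conj b⁻¹).toMonoidHom) = MonoidHom.id G := by
    ext x
    show b * (b⁻¹ * x * b⁻¹⁻¹) * b⁻¹ = x
    group
  have e2 : ((MulAut.conj b).toMonoidHom.comp (MulAut.conj a⁻¹).toMonoidHom) = (MulAut.conj (b * a⁻¹)).toMonoidHom := by
    ext x
    show b * (a⁻¹ * x * a⁻¹⁻¹) * b⁻¹ = b * a⁻¹ * x * (b * a⁻¹)⁻¹
    group
  rw [e1, e2, Subgroup.map_id] at h
  exact h.symm

end Generic

variable {K : Type*} [Field K] [Fintype K] {m : ℕ} (S : Setup K m)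

theorem group_card_eq : Nat.card (RG S) = Fintype.card K ^ 3 * (Fintype.card K - 1) * (Fintype.card K ^ 3 + 1) := by
  rw [card_K S]
  exact S.card_group

variable (h27 : 27 ≤ Fintype.card K)

include h27

/-- Elements of order above two dividing `q - 1` are conjugate into the torus. -/
theorem cover_HH {g : RG S} {i : ℕ} (hi : 2 < i) (hd : i ∣ Fintype.card K - 1) (hg : orderOf g = i) :
    ∃ a : RG S, a⁻¹ * g * a ∈ HH S := by
  obtain ⟨hc, -, h2, h3⟩ := kinds S h27 g
  rcases hc with rfl | h | h | h | h | h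
  · rw [orderOf_one] at hg; omega
  · omega
  · exact absurd ((hg ▸ h).trans hd) (not_three_dvd_pred S)
  · exact h.2
  · obtain ⟨hd2, -⟩ := inA2_order S h27 h
    have := Nat.le_of_dvd (by norm_num) (Nat.dvd_sub (hg ▸ hd2) hd |>.trans (dvd_of_eq (show
      Fintype.card K + 1 - (Fintype.card K - 1) = 2 by omega)))
    omega
  · obtain ⟨p, hp, hpi⟩ := Nat.exists_prime_and_dvd (n := i) (by omega)
    obtain ⟨hp2, -, ha, -⟩ := (factor_prime S hp).2.2 (inK_primes S h27 h hp (by rw [hg]; exact hpi))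
    have := card_mod_eight S
    rw [show Fintype.card K - 1 = 2 * ((Fintype.card K - 1) / 2) by omega] at hd
    exact ((hp.dvd_mul.1 (hpi.trans hd)).resolve_left
      (fun h' => hp2 ((Nat.prime_dvd_prime_iff_eq hp Nat.prime_two).1 h')) |> ha).elim

/-- Elements whose order has a prime factor in common with `(q + 1) / 4` are conjugate into its centraliser. -/
theorem cover_Z2 {g : RG S} {i : ℕ} (hi : 1 < i) (hd : i ∣ (Fintype.card K + 1) / 4) (hg : i ∣ orderOf g) :
    ∃ a : RG S, a⁻¹ * g * a ∈ Z2 S := by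
  obtain ⟨p, hp, hpi⟩ := Nat.exists_prime_and_dvd (n := i) (by omega)
  obtain ⟨x, hx, -, hxc⟩ := exists_prime_power_elt g (hpi.trans hg)
  obtain ⟨a, ha, -, -⟩ := conj_into_Z2 S h27 hp (hpi.trans hd) hx hxc
  exact ⟨a, ha g (Subgroup.mem_zpowers g)⟩

/-- Elements of order dividing that of a small torus are conjugate into it. -/
theorem cover_T {x g : RG S} (hx : IsSinger S x) {i : ℕ} (hi : 1 < i) (hd : i ∣ Nat.card ↥(Tor S x))
    (hg : orderOf g = i) : ∃ a : RG S, a⁻¹ * g * a ∈ Tor S x := by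
  obtain ⟨p, hp, hpi⟩ := Nat.exists_prime_and_dvd (n := i) (by omega)
  obtain ⟨y, hy, -, hyc⟩ := exists_prime_power_elt g (p := p) (by rw [hg]; exact hpi)
  have hys : IsSinger S y := ⟨by rw [hy]; exact hp, by rw [hy]; exact tor_primes S h27 hx hp (hpi.trans hd)⟩
  obtain ⟨a, ha⟩ := conj_into_tor S h27 hx hys (by rw [hy]; exact hpi.trans hd)
  exact ⟨a, ha g (Subgroup.mem_centralizer_singleton_iff.2 (hyc g (Subgroup.mem_zpowers g)))⟩

theorem count_order_HH {i : ℕ} (hi : 2 < i) (hd : i ∣ Fintype.card K - 1) :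
    2 * Nat.card {g : RG S // orderOf g = i} =
      Nat.totient i * Fintype.card K ^ 3 * (Fintype.card K ^ 3 + 1) := by
  have hsq : ∀ g : RG S, orderOf g = i → g ^ 2 ≠ 1 := fun g hg e => by
    have := Nat.le_of_dvd (by norm_num) (hg ▸ orderOf_dvd_of_pow_eq_one e)
    omega
  have key := count_conj (HH S) (Subgroup.normalizer (A1 S : Set (RG S))) (fun g : RG S => orderOf g = i)
    (fun a g hg => by rw [conj_orderOf]; exact hg) (HH_normal S h27)
    (fun g hg => cover_HH S h27 hi hd hg) (fun h hh hp a ha => HH_unique S h27 hh (hsq h hp) ha)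
  haveI := cyclic_HH S
  rw [card_order_cyclic (HH S) (by rw [card_HH]; exact hd), card_normalizer_A1 S (by omega), group_card_eq S] at key
  refine Nat.eq_of_mul_eq_mul_right (show 0 < Fintype.card K - 1 by omega) ?_
  linear_combination key

theorem count_order_Z2 {i j c : ℕ} (hi : 1 < i) (hd : i ∣ (Fintype.card K + 1) / 4) (hij : i ∣ j)
    (hj : ¬ j ∣ 2) (hc : Nat.card {h : Z2 S // orderOf (h : RG S) = j} = c * Nat.totient i) :
    6 * Nat.card {g : RG S // orderOf g = j} =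
      c * (Nat.totient i * Fintype.card K ^ 3 * (Fintype.card K - 1) * Kp K) := by
  have key := count_conj (Z2 S) (Subgroup.normalizer (A2 S : Set (RG S))) (fun g : RG S => orderOf g = j)
    (fun a g hg => by rw [conj_orderOf]; exact hg) (Z2_normal S h27)
    (fun g hg => cover_Z2 S h27 hi hd (by rw [hg]; exact hij))
    (fun h hh hp a ha => Z2_unique S h27 hh (fun e => hj (hp ▸ orderOf_dvd_of_pow_eq_one e)) ha)
  rw [hc, normalizer_A2_eq_V2 S h27, card_normalizer_V2 S h27, card_group_Kp] at key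
  refine Nat.eq_of_mul_eq_mul_right (show 0 < Fintype.card K + 1 by omega) ?_
  linear_combination key

theorem card_order_A2 {i : ℕ} (hd : i ∣ (Fintype.card K + 1) / 4) :
    Nat.card {h : Z2 S // orderOf (h : RG S) = i} = Nat.totient i := by
  haveI := cyclic_A2 S
  rw [← card_order_cyclic (A2 S) (by rw [card_A2]; exact hd)]
  refine Nat.card_congr ⟨fun h => ⟨⟨h.1.1, (mem_A2_iff S h27 h.1.2).2 (orderOf_dvd_iff_pow_eq_one.1 ?_)⟩, h.2⟩,
    fun h => ⟨⟨h.1.1, A2_le_Z2 S h27 h.1.2⟩, h.2⟩, fun _ => rfl, fun _ => rfl⟩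
  rw [h.2]; exact hd

theorem card_invol_Z2 : Nat.card {h : Z2 S // orderOf (h : RG S) = 2} = 3 := by
  classical
  haveI : Fact (Nat.Prime 2) := ⟨Nat.prime_two⟩
  haveI : Fintype {h : Z2 S // orderOf (h : RG S) = 2} := Fintype.ofFinite _
  obtain ⟨u, hu, hu1, hut, hcases⟩ := V2_cases S h27
  have ht : tau S ∈ V2 S h27 := ⟨tau_mem_Z2 S h27, tau_sq S⟩
  have hord : ∀ v ∈ V2 S h27, v ≠ 1 → orderOf v = 2 := fun v hv hv1 =>
    orderOf_eq_prime (by rw [pow_two]; exact hv.2) hv1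
  have htu1 : tau S * u ≠ 1 := fun e => hut (by rw [← inv_eq_of_mul_eq_one_right e, tau_inv])
  let mk : ∀ v ∈ V2 S h27, v ≠ 1 → {h : Z2 S // orderOf (h : RG S) = 2} :=
    fun v hv hv1 => ⟨⟨v, hv.1⟩, hord v hv hv1⟩
  have e : (Finset.univ : Finset {h : Z2 S // orderOf (h : RG S) = 2}) =
      {mk _ ht (tau_ne S), mk _ hu hu1, mk _ (mul_mem ht hu) htu1} := by
    refine Finset.ext fun h => ⟨fun _ => ?_, fun _ => Finset.mem_univ _⟩
    have hv : (h.1 : RG S) ∈ V2 S h27 := ⟨h.1.2, by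
      have h1 := pow_orderOf_eq_one (h.1 : RG S)
      rwa [h.2, pow_two] at h1⟩
    simp only [Finset.mem_insert, Finset.mem_singleton]
    rcases hcases _ hv with h' | h' | h' | h'
    · exfalso
      have h2 := h.2
      rw [h', orderOf_one] at h2
      omega
    exacts [Or.inl (Subtype.ext (Subtype.ext h')), Or.inr (Or.inl (Subtype.ext (Subtype.ext h'))),
      Or.inr (Or.inr (Subtype.ext (Subtype.ext h')))]
  rw [Nat.card_eq_fintype_card, ← Finset.card_univ, e, Finset.card_insert_of_notMem, Finset.card_pair]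
  · intro h
    have h' : u = tau S * u := congrArg (fun x => ((x.1 : Z2 S) : RG S)) h
    exact tau_ne S (right_eq_mul.1 h')
  · simp only [Finset.mem_insert, Finset.mem_singleton, not_or]
    refine ⟨fun h => hut (congrArg (fun x => ((x.1 : Z2 S) : RG S)) h).symm, fun h => hu1 ?_⟩
    have h' : tau S = tau S * u := congrArg (fun x => ((x.1 : Z2 S) : RG S)) h
    exact left_eq_mul.1 h'

theorem card_order_double {i : ℕ} (hd : i ∣ (Fintype.card K + 1) / 4) :
    Nat.card {h : Z2 S // orderOf (h : RG S) = 2 * i} = 3 * Nat.totient i := by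
  obtain ⟨-, hodd, -⟩ := quarter_facts S
  have hio : Odd i := hodd.of_dvd_nat hd
  obtain ⟨hZC, -, hZab⟩ := Z2_props S h27
  rw [← card_invol_Z2 S h27, ← card_order_A2 S h27 hd, ← Nat.card_prod]
  let f : {h : Z2 S // orderOf (h : RG S) = 2} × {h : Z2 S // orderOf (h : RG S) = i} →
      {h : Z2 S // orderOf (h : RG S) = 2 * i} := fun x => ⟨x.1.1 * x.2.1, by
    rw [Subgroup.coe_mul, (show Commute (x.1.1 : RG S) x.2.1 from hZab _ x.1.1.2 _ x.2.1.2).orderOf_mul_eq_mul_orderOf_of_coprime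
      (by rw [x.1.2, x.2.2]; exact Nat.coprime_two_left.2 hio), x.1.2, x.2.2]⟩
  refine (Nat.card_eq_of_bijective f ⟨?_, ?_⟩).symm
  · rintro ⟨⟨v, hv⟩, ⟨a, ha⟩⟩ ⟨⟨w, hw⟩, ⟨b, hb⟩⟩ e
    have e' : (v : RG S) * a = (w : RG S) * b := congrArg (fun x => ((x.1 : Z2 S) : RG S)) e
    have hp : ∀ (y z : Z2 S), orderOf (y : RG S) = 2 → orderOf (z : RG S) = i →
        ((y : RG S) * z) ^ i = y := fun y z hy hz => by
      rw [(show Commute (y : RG S) z from hZab _ y.2 _ z.2).mul_pow, ← hz, pow_orderOf_eq_one, mul_one]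
      obtain ⟨k, hk⟩ := hio
      rw [hz, hk, pow_succ, pow_mul, ← hy, pow_orderOf_eq_one, one_pow, one_mul]
    have hvw : (v : RG S) = w := by rw [← hp v a hv ha, ← hp w b hw hb, e']
    rw [hvw] at e'
    exact Prod.ext (Subtype.ext (Subtype.ext hvw)) (Subtype.ext (Subtype.ext (mul_left_cancel e')))
  · rintro ⟨h, hh⟩
    have hpos : 0 < i := hio.pos
    refine ⟨(⟨h ^ i, ?_⟩, ⟨h ^ (i + 1), ?_⟩), Subtype.ext ?_⟩
    · rw [Subgroup.coe_pow, orderOf_pow' _ hpos.ne', hh, Nat.gcd_mul_left_left, Nat.mul_div_cancel _ hpos]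
    · rw [Subgroup.coe_pow, orderOf_pow' _ i.succ_ne_zero, hh]
      obtain ⟨k, hk⟩ := hio
      have hg : Nat.gcd (2 * i) (i + 1) = 2 := by
        rw [show i + 1 = 2 * (k + 1) by omega, Nat.gcd_mul_left,
          Nat.Coprime.gcd_eq_one (Nat.Coprime.coprime_dvd_right (show k + 1 ∣ i + 1 from ⟨2, by omega⟩)
            (Nat.coprime_self_add_right.2 (Nat.coprime_one_right i)))]
      rw [hg, Nat.mul_div_cancel_left _ (by norm_num : (0 : ℕ) < 2)]
    · show h ^ i * h ^ (i + 1) = h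
      rw [← pow_add, show i + (i + 1) = 2 * i + 1 by ring, pow_succ]
      rw [show h ^ (2 * i) = 1 from Subtype.ext (by rw [Subgroup.coe_pow, ← hh, pow_orderOf_eq_one]; rfl), one_mul]

theorem count_order_T {x : RG S} (hx : IsSinger S x) {i t : ℕ} (hi : 1 < i) (hd : i ∣ Nat.card ↥(Tor S x))
    (hN : Nat.card ↥(Subgroup.normalizer (Tor S x : Set (RG S))) = 6 * Nat.card ↥(Tor S x))
    (ht : Nat.card ↥(Tor S x) * t = Kp K) :
    6 * Nat.card {g : RG S // orderOf g = i} =
      Nat.totient i * Fintype.card K ^ 3 * (Fintype.card K ^ 2 - 1) * t := by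
  have key := count_conj (Tor S x) (Subgroup.normalizer (Tor S x : Set (RG S))) (fun g : RG S => orderOf g = i)
    (fun a g hg => by rw [conj_orderOf]; exact hg)
    (fun n hn h hh => by
      have := (Subgroup.mem_normalizer_iff.1 (inv_mem hn) h).1 hh
      rwa [inv_inv] at this)
    (fun g hg => cover_T S h27 hx hi hd hg)
    (fun h hh hp a ha => by
      have h1 : h ≠ 1 := fun e => by rw [e, orderOf_one] at hp; omega
      refine Subgroup.mem_normalizer_iff_map_conj_eq.2 (Subgroup.eq_of_le_of_card_ge ?_ (le_of_eq (Nat.card_congr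
        (Subgroup.equivMapOfInjective _ _ (MulAut.conj a).injective).toEquiv)))
      rintro _ ⟨z, hz, rfl⟩
      show a * z * a⁻¹ ∈ Tor S x
      rw [← tor_centralizer S h27 hx hh h1]
      refine Subgroup.mem_centralizer_singleton_iff.2 ?_
      calc a * z * a⁻¹ * h = a * (z * (a⁻¹ * h * a)) * a⁻¹ := by group
        _ = a * ((a⁻¹ * h * a) * z) * a⁻¹ := by rw [tor_comm S h27 hx hz ha]
        _ = _ := by group)
  haveI := tor_cyclic S h27 hx
  rw [card_order_cyclic (Tor S x) hd, hN, card_group_Kp, ← ht,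
    show Fintype.card K ^ 3 * (Fintype.card K - 1) * (Fintype.card K + 1) =
      Fintype.card K ^ 3 * (Fintype.card K ^ 2 - 1) by
        rw [show Fintype.card K ^ 2 - 1 = Fintype.card K ^ 2 - 1 ^ 2 by rw [one_pow], Nat.sq_sub_sq]; ring] at key
  refine Nat.eq_of_mul_eq_mul_right (show 0 < Nat.card ↥(Tor S x) from Nat.card_pos) ?_
  linear_combination key

/-- The element orders. -/
theorem orders_iff {x₁ x₂ : RG S} (hx₁ : IsSinger S x₁) (hx₂ : IsSinger S x₂)
    (hall : ∀ y, IsSinger S y → orderOf y ∣ Nat.card ↥(Tor S x₁) ∨ orderOf y ∣ Nat.card ↥(Tor S x₂)) (d : ℕ) :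
    (∃ g : RG S, orderOf g = d) ↔ (d ∣ 6 ∨ d ∣ 9 ∨ d ∣ Fintype.card K - 1 ∨ d ∣ (Fintype.card K + 1) / 2 ∨
      d ∣ Nat.card ↥(Tor S x₁) ∨ d ∣ Nat.card ↥(Tor S x₂)) := by
  obtain ⟨h4b, hodd, -⟩ := quarter_facts S
  have hhalf : (Fintype.card K + 1) / 2 = 2 * ((Fintype.card K + 1) / 4) := by omega
  constructor
  · rintro ⟨g, rfl⟩
    rcases (kinds S h27 g).1 with rfl | h | h | h | h | h
    · exact Or.inl (by rw [orderOf_one]; exact one_dvd _)
    · exact Or.inl (by rw [h]; norm_num)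
    · rcases three_orders S h with h | h | h <;> rw [h]
      · exact Or.inl (by norm_num)
      · exact Or.inl dvd_rfl
      · exact Or.inr (Or.inl dvd_rfl)
    · exact Or.inr (Or.inr (Or.inl (inA1_order S h).1))
    · obtain ⟨-, a, ha⟩ := h
      refine Or.inr (Or.inr (Or.inr (Or.inl ?_)))
      rw [← conj_orderOf a g, hhalf]
      refine orderOf_dvd_of_pow_eq_one ?_
      rw [mul_comm, pow_mul]
      refine Z2_four S h27 (pow_mem ha _) ?_
      rw [← pow_mul, mul_comm, ← h4b, ← (Z2_props S h27).2.1]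
      exact congrArg Subtype.val (pow_card_eq_one' (x := (⟨_, ha⟩ : Z2 S)))
    · obtain ⟨-, y, hy, hgy⟩ := h
      refine Or.inr (Or.inr (Or.inr (Or.inr ?_)))
      rcases hall y hy with h | h
      · obtain ⟨a, ha⟩ := conj_into_tor S h27 hx₁ hy h
        exact Or.inl (conj_orderOf a g ▸ Subgroup.orderOf_dvd_natCard _ (ha g hgy))
      · obtain ⟨a, ha⟩ := conj_into_tor S h27 hx₂ hy h
        exact Or.inr (conj_orderOf a g ▸ Subgroup.orderOf_dvd_natCard _ (ha g hgy))
  · obtain ⟨-, hs6, hs9⟩ := count_three_six_nine S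
    have hex : ∀ n c : ℕ, Nat.card {g : RG S // orderOf g = n} = c → 0 < c → d ∣ n → ∃ g : RG S, orderOf g = d :=
      fun n c hn hc hd => by
        obtain ⟨⟨g, hg⟩⟩ := (Nat.card_pos_iff.1 (hn ▸ hc)).1
        exact exists_order_of_dvd hg hd
    have hcyc : ∀ H : Subgroup (RG S), IsCyclic H → d ∣ Nat.card H → ∃ g : RG S, orderOf g = d := fun H hH hd => by
      obtain ⟨y, hy⟩ := IsCyclic.exists_ofOrder_eq_natCard (α := H)
      exact exists_order_of_dvd ((Subgroup.orderOf_coe y).trans hy) hd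
    have hpos : 0 < Fintype.card K ^ 2 * (Fintype.card K - 1) * (Fintype.card K ^ 3 + 1) :=
      Nat.mul_pos (Nat.mul_pos (pow_pos (by omega) 2) (by omega)) (Nat.succ_pos _)
    rintro (hd | hd | hd | hd | hd | hd)
    · exact hex 6 _ hs6 hpos hd
    · exact hex 9 _ hs9 hpos hd
    · exact hcyc _ (cyclic_HH S) (by rw [card_HH]; exact hd)
    · refine exists_order_of_dvd (g := tau S * y2 S) ?_ hd
      haveI : Fact (Nat.Prime 2) := ⟨Nat.prime_two⟩
      have hto : orderOf (tau S) = 2 := orderOf_eq_prime (by rw [pow_two]; exact tau_sq S) (tau_ne S)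
      rw [((mem_Cent S).1 (y2_spec S).1).symm |> fun e => Commute.orderOf_mul_eq_mul_orderOf_of_coprime e
        (by rw [hto, (y2_spec S).2]; exact Nat.coprime_two_left.2 hodd), hto, (y2_spec S).2, hhalf]
    · exact hcyc _ (tor_cyclic S h27 hx₁) hd
    · exact hcyc _ (tor_cyclic S h27 hx₂) hd

/-- Cyclic subgroups of order dividing that of a small torus are conjugate into it. -/
theorem cyclic_conj_T {x : RG S} (hx : IsSinger S x) {A : Subgroup (RG S)} (hA : IsCyclic A)
    (h1 : 1 < Nat.card A) (hd : Nat.card A ∣ Nat.card ↥(Tor S x)) :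
    ∃ g : RG S, A.map (MulAut.conj g⁻¹).toMonoidHom ≤ Tor S x := by
  obtain ⟨y, hy⟩ := IsCyclic.exists_ofOrder_eq_natCard (α := A)
  obtain ⟨a, ha⟩ := cover_T S h27 hx h1 hd ((Subgroup.orderOf_coe y).trans hy)
  have e : A = Subgroup.zpowers (y : RG S) :=
    (Subgroup.eq_of_le_of_card_ge (Subgroup.zpowers_le.2 y.2) (by rw [Nat.card_zpowers, Subgroup.orderOf_coe, hy])).symm
  refine ⟨a, ?_⟩
  rw [e, MonoidHom.map_zpowers, Subgroup.zpowers_le]
  show a⁻¹ * (y : RG S) * a⁻¹⁻¹ ∈ Tor S x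
  rwa [inv_inv]

/-- Cyclic subgroups of one order dividing that of one of the four tori are conjugate. -/
theorem cyclic_conj {x₁ x₂ : RG S} (hx₁ : IsSinger S x₁) (hx₂ : IsSinger S x₂) {d : ℕ}
    (hd : d ∣ (Fintype.card K - 1) / 2 ∨ d ∣ (Fintype.card K + 1) / 4 ∨ d ∣ Nat.card ↥(Tor S x₁) ∨
      d ∣ Nat.card ↥(Tor S x₂))
    (A B : Subgroup (RG S)) (hA : IsCyclic A) (hB : IsCyclic B) (hAd : Nat.card A = d) (hBd : Nat.card B = d) :
    ∃ g : RG S, B = A.map (MulAut.conj g).toMonoidHom := by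
  by_cases h1 : 1 < d
  · have hA1 : Nat.card ↥(A1 S) = (Fintype.card K - 1) / 2 := by have := card_A1 S; omega
    have hA2 := card_A2 S
    subst hAd
    rcases hd with hd | hd | hd | hd
    · obtain ⟨a, ha⟩ := cyclic_conj_A1 S hA h1 (hA1 ▸ hd)
      obtain ⟨b, hb⟩ := cyclic_conj_A1 S hB (hBd ▸ h1) (by rw [hBd, hA1]; exact hd)
      exact conj_of_cyclic (cyclic_A1 S) hBd.symm ha hb
    · obtain ⟨a, ha⟩ := cyclic_conj_A2 S h27 hA h1 (by rw [hA2]; exact hd)
      obtain ⟨b, hb⟩ := cyclic_conj_A2 S h27 hB (hBd ▸ h1) (by rw [hBd, hA2]; exact hd)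
      exact conj_of_cyclic (cyclic_A2 S) hBd.symm ha hb
    · obtain ⟨a, ha⟩ := cyclic_conj_T S h27 hx₁ hA h1 hd
      obtain ⟨b, hb⟩ := cyclic_conj_T S h27 hx₁ hB (hBd ▸ h1) (by rw [hBd]; exact hd)
      exact conj_of_cyclic (tor_cyclic S h27 hx₁) hBd.symm ha hb
    · obtain ⟨a, ha⟩ := cyclic_conj_T S h27 hx₂ hA h1 hd
      obtain ⟨b, hb⟩ := cyclic_conj_T S h27 hx₂ hB (hBd ▸ h1) (by rw [hBd]; exact hd)
      exact conj_of_cyclic (tor_cyclic S h27 hx₂) hBd.symm ha hb
  · have hA0 : 0 < Nat.card A := Nat.card_pos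
    refine ⟨1, ?_⟩
    rw [Subgroup.eq_bot_of_card_eq B (by omega), Subgroup.eq_bot_of_card_eq A (by omega), Subgroup.map_bot]

end Cfsg.Agent.Small.Ree
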