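import Cfsg.Agent.Lib.Small.SingerCentralizer

/-!
An element of prime order `p` in `GL₇(q)`, where `q` has order six modulo `p`: its centraliser and the
exponents of its conjugates among its own powers.
-/

set_option autoImplicit false
set_option linter.style.haveILetI false
set_option synthInstance.maxHeartbeats 400000
set_option maxHeartbeats 1600000

namespace Cfsg.Agent.Small.Ree.SingerGL

open Polynomial

universe u

variable {F : Type u} [Field F] [Fintype F]

theorem small_factor {p : ℕ} (hp : p.Prime) (hi : orderOf (Fintype.card F : ZMod p) = 6)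
    (g : F[X]) (hg : Irreducible g) (hgd : g ∣ X ^ p - 1) (hd : g.natDegree < 6) : g ∣ X - 1 :=
  SingerCentralizer.degree_ge rfl hp hi g hg hgd hd

theorem natCast_ne {p : ℕ} (hp : p.Prime) (hi : orderOf (Fintype.card F : ZMod p) = 6) : (p : F) ≠ 0 := by
  haveI : Fact p.Prime := ⟨hp⟩
  intro h
  obtain ⟨r, hr⟩ := CharP.exists F
  obtain ⟨n, hrp, hn⟩ := FiniteField.card F r
  have hdvd : r ∣ p := (CharP.cast_eq_zero_iff F r p).1 h
  obtain rfl := (Nat.prime_dvd_prime_iff_eq hrp hp).1 hdvd
  rw [hn, Nat.cast_pow, ZMod.natCast_self, zero_pow n.ne_zero] at hi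
  have h6 := pow_orderOf_eq_one (0 : ZMod r)
  rw [hi, zero_pow (by norm_num)] at h6
  exact zero_ne_one h6

theorem coe_injective {p : ℕ} (hp : p.Prime) (hi : orderOf (Fintype.card F : ZMod p) = 6) :
    ∀ a b : ℕ, a < 6 → b < 6 → (Fintype.card F : ZMod p) ^ a = (Fintype.card F : ZMod p) ^ b → a = b := by
  haveI : Fact p.Prime := ⟨hp⟩
  intro a b ha hb h
  exact pow_injOn_Iio_orderOf (by rw [hi]; exact ha) (by rw [hi]; exact hb) h

/-- An irreducible factor of degree at least six of `X ^ p - 1` has degree six and its roots are the conjugates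
of one of them. -/
theorem big_factor {p : ℕ} (hp : p.Prime) (hi : orderOf (Fintype.card F : ZMod p) = 6) (f : F[X])
    (hf : Irreducible f) (hfd : f ∣ X ^ p - 1) (hd : 6 ≤ f.natDegree) :
    haveI := Fact.mk hf
    f.natDegree = 6 ∧ orderOf (AdjoinRoot.root f) = p ∧
      ∀ i : ℕ, aeval (AdjoinRoot.root f ^ i) f = 0 →
        ∃ j < 6, (i : ZMod p) = (Fintype.card F : ZMod p) ^ j := by
  classical
  haveI := Fact.mk hf
  haveI : Fact p.Prime := ⟨hp⟩
  haveI : Module.Finite F (AdjoinRoot f) :=
    Module.Finite.of_basis (AdjoinRoot.powerBasis hf.ne_zero).basis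
  haveI : Finite (AdjoinRoot f) := Module.finite_of_finite F
  obtain ⟨α, hα⟩ : ∃ α, α = AdjoinRoot.root f := ⟨_, rfl⟩
  have hcard : Nat.card (AdjoinRoot f) = Fintype.card F ^ f.natDegree := by
    rw [Module.natCard_eq_pow_finrank (K := F) (V := AdjoinRoot f), Nat.card_eq_fintype_card,
      (AdjoinRoot.powerBasis hf.ne_zero).finrank, AdjoinRoot.powerBasis_dim]
  have hroot : aeval α f = 0 := by rw [hα]; exact AdjoinRoot.eval₂_root f
  have hαp : α ^ p = 1 := by
    rw [← sub_eq_zero, hα, ← AdjoinRoot.mk_X, ← map_pow, ← map_one (AdjoinRoot.mk f), ← map_sub,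
      AdjoinRoot.mk_eq_zero]
    exact hfd
  have hα1 : α ≠ 1 := by
    intro h
    rw [hα, ← sub_eq_zero, ← AdjoinRoot.mk_X, ← map_one (AdjoinRoot.mk f), ← map_sub, AdjoinRoot.mk_eq_zero] at h
    have := natDegree_le_of_dvd h (X_sub_C_ne_zero (1 : F))
    rw [show (1 : F[X]) = C 1 from C_1.symm, natDegree_X_sub_C] at this
    omega
  have hord : orderOf α = p := orderOf_eq_prime hαp hα1
  have hfo : IsOfFinOrder α := orderOf_pos_iff.1 (by rw [hord]; exact hp.pos)
  have hpow : ∀ a : ℕ, α ^ (Fintype.card F ^ a) = α ^ ((Fintype.card F : ZMod p) ^ a).val := fun a => by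
    rw [hfo.pow_eq_pow_iff_modEq, hord, ← ZMod.natCast_eq_natCast_iff, ZMod.natCast_zmod_val, Nat.cast_pow]
  obtain ⟨φ, hφ⟩ : ∃ φ : AdjoinRoot f →ₐ[F] AdjoinRoot f, ∀ y, φ y = y ^ Fintype.card F :=
    ⟨FiniteField.frobeniusAlgHom F (AdjoinRoot f), fun y => rfl⟩
  have hiter : ∀ (a : ℕ) (y : AdjoinRoot f), (φ ^ a) y = y ^ Fintype.card F ^ a := by
    intro a
    induction a with
    | zero => intro y; simp
    | succ a ih =>
      intro y
      rw [pow_succ']
      show φ ((φ ^ a) y) = _
      rw [hφ, ih, ← pow_mul, pow_succ]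
  have hroots : ∀ a : ℕ, aeval (α ^ Fintype.card F ^ a) f = 0 := fun a => by
    rw [← hiter, aeval_algHom_apply, hroot, map_zero]
  have h6 : φ ^ 6 = 1 := AdjoinRoot.algHom_ext (by
    rw [hiter, ← hα, hpow, ← hi, pow_orderOf_eq_one, ZMod.val_one, pow_one]
    rfl)
  have hle : f.natDegree ≤ 6 := by
    by_contra hgt
    obtain ⟨g, hg⟩ := IsCyclic.exists_ofOrder_eq_natCard (α := (AdjoinRoot f)ˣ)
    rw [Nat.card_units, hcard] at hg
    have hfix : (g : AdjoinRoot f) ^ Fintype.card F ^ 6 = (g : AdjoinRoot f) := by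
      rw [← hiter, h6]; rfl
    have hg1 : g ^ (Fintype.card F ^ 6 - 1) = 1 := by
      refine mul_right_cancel (b := g) ?_
      rw [← pow_succ, Nat.sub_add_cancel (Nat.one_le_pow _ _ Fintype.card_pos), one_mul]
      exact Units.ext (by rw [Units.val_pow_eq_pow_val]; exact hfix)
    have h2 := orderOf_dvd_of_pow_eq_one hg1
    rw [hg] at h2
    have h1 : Fintype.card F ^ 7 ≤ Fintype.card F ^ f.natDegree :=
      Nat.pow_le_pow_right Fintype.card_pos (by omega)
    have hq2 : 2 ≤ Fintype.card F := Fintype.one_lt_card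
    have h3 : 1 < Fintype.card F ^ 6 := Nat.one_lt_pow (by norm_num) hq2
    have h4 := Nat.le_of_dvd (by omega) h2
    have h5 : Fintype.card F ^ 6 * 2 ≤ Fintype.card F ^ 7 := by
      rw [pow_succ]; exact Nat.mul_le_mul_left _ hq2
    omega
  refine ⟨le_antisymm hle hd, hα ▸ hord, fun i hi' => ?_⟩
  rw [← hα] at hi'
  by_contra hno
  push Not at hno
  have hinj : Set.InjOn (fun a => α ^ Fintype.card F ^ a) ↑(Finset.range 6) := by
    intro a ha b hb h
    simp only [Finset.coe_range, Set.mem_Iio] at ha hb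
    have h' : α ^ Fintype.card F ^ a = α ^ Fintype.card F ^ b := h
    rw [hfo.pow_eq_pow_iff_modEq, hord, ← ZMod.natCast_eq_natCast_iff, Nat.cast_pow, Nat.cast_pow] at h'
    exact coe_injective hp hi a b ha hb h'
  have hnot : α ^ i ∉ (Finset.range 6).image fun a => α ^ Fintype.card F ^ a := by
    intro hmem
    obtain ⟨a, ha, h⟩ := Finset.mem_image.1 hmem
    rw [hfo.pow_eq_pow_iff_modEq, hord, ← ZMod.natCast_eq_natCast_iff, Nat.cast_pow] at h
    exact hno a (Finset.mem_range.1 ha) h.symm
  have hsub : (insert (α ^ i) ((Finset.range 6).image fun a => α ^ Fintype.card F ^ a)) ⊆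
      (f.map (algebraMap F (AdjoinRoot f))).roots.toFinset := by
    intro y hy
    rw [Multiset.mem_toFinset, mem_roots (map_ne_zero hf.ne_zero), IsRoot.def, eval_map_algebraMap]
    rcases Finset.mem_insert.1 hy with rfl | hy
    · exact hi'
    · obtain ⟨a, -, rfl⟩ := Finset.mem_image.1 hy
      exact hroots a
  have h1 := (Finset.card_le_card hsub).trans ((Multiset.toFinset_card_le _).trans (card_roots' _))
  rw [Finset.card_insert_of_notMem hnot, Finset.card_image_of_injOn hinj, Finset.card_range, natDegree_map] at h1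
  omega

theorem commute_aeval {A : Type*} [Ring A] [Algebra F A] {g M : A} (h : Commute g M) (N : F[X]) :
    Commute g (aeval M N) := by
  induction N using Polynomial.induction_on' with
  | add P Q hP hQ => rw [map_add]; exact hP.add_right hQ
  | monomial k c =>
    rw [aeval_monomial]
    exact (Algebra.commute_algebraMap_right c g).mul_right (h.pow_right k)

/-- The eigen-decomposition of an element of prime order `p` of `GL₇(q)`. -/
theorem seven {p : ℕ} (hp : p.Prime) (hi : orderOf (Fintype.card F : ZMod p) = 6) (x : GL (Fin 7) F)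
    (hx : orderOf x = p) :
    (∃ (A : Type u) (_ : CommGroup A) (_ : IsCyclic A) (ψ : ↥(Subgroup.centralizer ({x} : Set (GL (Fin 7) F))) →* A),
      ∀ g, ψ g = 1 → g ^ (Fintype.card F - 1) = 1) ∧
    ∀ (g : GL (Fin 7) F) (i : ℕ), g * x * g⁻¹ = x ^ i →
      ∃ j < 6, (i : ZMod p) = (Fintype.card F : ZMod p) ^ j := by
  classical
  haveI : Fact p.Prime := ⟨hp⟩
  let L : Matrix (Fin 7) (Fin 7) F ≃ₐ[F] Module.End F (Fin 7 → F) := Matrix.toLinAlgEquiv'
  obtain ⟨M, hM⟩ : ∃ M, M = L (x : Matrix (Fin 7) (Fin 7) F) := ⟨_, rfl⟩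
  have hMp : M ^ p = 1 := by
    rw [hM, ← map_pow, ← Units.val_pow_eq_pow_val, ← hx, pow_orderOf_eq_one, Units.val_one, map_one]
  have hint : IsIntegral F M := IsIntegral.of_finite F M
  have hMr : minpoly F M ∣ X ^ p - 1 := minpoly.dvd F M (by
    rw [map_sub, map_pow, aeval_X, map_one, hMp, sub_self])
  have hsq : Squarefree (minpoly F M) :=
    Squarefree.squarefree_of_dvd hMr (separable_X_pow_sub_C (1 : F) (natCast_ne hp hi) one_ne_zero |>.squarefree)
  have hdeg : (minpoly F M).natDegree ≤ 7 := by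
    have := natDegree_le_of_dvd (LinearMap.minpoly_dvd_charpoly M) (M.charpoly_monic.ne_zero)
    rwa [LinearMap.charpoly_natDegree, Module.finrank_fin_fun] at this
  have hall : ∀ g, Irreducible g → g ∣ minpoly F M → g.natDegree < 6 → g ∣ X - 1 := fun g hg hgm hd =>
    small_factor hp hi g hg (hgm.trans hMr) hd
  have hpoly : ∀ N : F[X], (∀ g, Irreducible g → g ∣ minpoly F M → g ∣ N) → minpoly F M ∣ N := by
    intro N hN
    obtain ⟨k, hk⟩ : ∃ k, minpoly F M ∣ N ^ k := by
      refine ⟨(UniqueFactorizationMonoid.normalizedFactors (minpoly F M)).card, ?_⟩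
      refine (UniqueFactorizationMonoid.prod_normalizedFactors (minpoly.ne_zero hint)).dvd_iff_dvd_left.mp ?_
      rw [← Multiset.prod_replicate, ← Multiset.map_const',
        ← Multiset.map_id' (UniqueFactorizationMonoid.normalizedFactors _)]
      simp only [Multiset.map_map]
      exact Multiset.prod_dvd_prod_of_dvd _ _ fun a ha => hN a
        (UniqueFactorizationMonoid.irreducible_of_normalized_factor a ha)
        (UniqueFactorizationMonoid.dvd_of_mem_normalizedFactors ha)
    rcases Nat.eq_zero_or_pos k with hk0 | hk0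
    · subst hk0
      exact hk.trans (one_dvd _)
    · exact (hsq.dvd_pow_iff_dvd hk0.ne').mp hk
  obtain ⟨f, hf, hfm, hfd⟩ : ∃ f, Irreducible f ∧ f ∣ minpoly F M ∧ 6 ≤ f.natDegree := by
    by_contra h
    push Not at h
    have hdvd := hpoly (X - 1) fun g hg hgm => hall g hg hgm (h g hg hgm)
    have h1 : aeval M (X - 1 : F[X]) = 0 := by
      obtain ⟨c, hc⟩ := hdvd
      rw [hc, map_mul, minpoly.aeval, zero_mul]
    rw [map_sub, aeval_X, map_one, sub_eq_zero, hM, ← map_one L] at h1
    rw [show x = 1 from Units.ext (L.injective h1), orderOf_one] at hx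
    exact hp.one_lt.ne hx
  haveI := Fact.mk hf
  obtain ⟨hf6, hord, hroots⟩ := big_factor hp hi f hf (hfm.trans hMr) hfd
  have hmin : minpoly F M ∣ f * (X - 1) := hpoly _ fun g hg hgm => by
    by_cases hd : g.natDegree < 6
    · exact (hall g hg hgm hd).trans (dvd_mul_left _ _)
    · refine Dvd.dvd.mul_right ?_ _
      by_contra hgf
      have hcop : IsCoprime g f := (hg.coprime_iff_not_dvd).2 hgf
      have := natDegree_le_of_dvd (hcop.mul_dvd hgm hfm) (minpoly.ne_zero hint)
      rw [natDegree_mul hg.ne_zero hf.ne_zero] at this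
      omega
  have hann : aeval M (f * (X - 1)) = 0 := by
    obtain ⟨c, hc⟩ := hmin
    rw [hc, map_mul, minpoly.aeval, zero_mul]
  have hcop : IsCoprime f (X - 1 : F[X]) := hf.coprime_iff_not_dvd.2 fun h => by
    have := natDegree_le_of_dvd h (X_sub_C_ne_zero (1 : F))
    rw [show (1 : F[X]) = C 1 from C_1.symm, natDegree_X_sub_C] at this
    omega
  obtain ⟨U1, hU1⟩ : ∃ U1, U1 = LinearMap.ker (aeval M f) := ⟨_, rfl⟩
  obtain ⟨U2, hU2⟩ : ∃ U2, U2 = LinearMap.ker (aeval M (X - 1 : F[X])) := ⟨_, rfl⟩
  have hsup : U1 ⊔ U2 = ⊤ := by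
    rw [hU1, hU2, sup_ker_aeval_eq_ker_aeval_mul_of_coprime M hcop, hann, LinearMap.ker_zero]
  have hinf : U1 ⊓ U2 = ⊥ := by
    rw [hU1, hU2]; exact (disjoint_ker_aeval_of_isCoprime M hcop).eq_bot
  have hU1ne : U1 ≠ ⊥ := by
    intro h
    obtain ⟨c, hc⟩ := hfm
    have h1 : aeval M c = 0 := by
      refine LinearMap.ext fun v => ?_
      have h2 : aeval M c v ∈ U1 := by
        rw [hU1, LinearMap.mem_ker, ← Module.End.mul_apply, ← map_mul, ← hc, minpoly.aeval, LinearMap.zero_apply]
      rwa [h, Submodule.mem_bot] at h2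
    have hd := natDegree_le_of_dvd (minpoly.dvd F M h1) (by
      rintro rfl; exact minpoly.ne_zero hint (by rw [hc, mul_zero]))
    have := congrArg natDegree hc
    rw [natDegree_mul hf.ne_zero (by rintro rfl; exact minpoly.ne_zero hint (by rw [hc, mul_zero]))] at this
    omega
  have hstab : ∀ g : Module.End F (Fin 7 → F), Commute g M → ∀ v ∈ U1, g v ∈ U1 := fun g hg v hv => by
    rw [hU1, LinearMap.mem_ker] at hv ⊢
    have e : Commute g (aeval M f) := commute_aeval hg f
    rw [← Module.End.mul_apply, ← e.eq, Module.End.mul_apply, hv, map_zero]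
  obtain ⟨T, hT⟩ : ∃ T : Module.End F U1, T = M.restrict (hstab M (Commute.refl M)) := ⟨_, rfl⟩
  have hTa : ∀ (N : F[X]) (v : U1), ((aeval T N v : U1) : Fin 7 → F) = aeval M N v := by
    intro N v
    induction N using Polynomial.induction_on' with
    | add P Q hP hQ =>
      rw [map_add, map_add, LinearMap.add_apply, LinearMap.add_apply, Submodule.coe_add, hP, hQ]
    | monomial k c =>
      rw [aeval_monomial, aeval_monomial]
      simp only [Module.End.mul_apply, Module.algebraMap_end_apply, Submodule.coe_smul]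
      congr 1
      rw [hT]
      clear hT
      induction k generalizing v with
      | zero => rfl
      | succ k ih =>
        rw [pow_succ, pow_succ, Module.End.mul_apply, Module.End.mul_apply, ih]
        rfl
  have hfT : aeval T f = 0 := LinearMap.ext fun v => Subtype.ext (by
    rw [hTa]
    exact LinearMap.mem_ker.1 (hU1 ▸ v.2))
  let φ : AdjoinRoot f →ₐ[F] Module.End F U1 :=
    Ideal.Quotient.liftₐ (Ideal.span {f}) (aeval T) fun a ha => by
      obtain ⟨c, rfl⟩ := Ideal.mem_span_singleton.mp ha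
      rw [map_mul, hfT, zero_mul]
  have hφX : φ (AdjoinRoot.root f) = T := by
    show aeval T X = T
    exact aeval_X T
  haveI : Nontrivial U1 := Submodule.nontrivial_iff_ne_bot.2 hU1ne
  obtain ⟨v, hv⟩ := exists_ne (0 : U1)
  haveI : Module.Finite F (AdjoinRoot f) :=
    Module.Finite.of_basis (AdjoinRoot.powerBasis hf.ne_zero).basis
  let ev : AdjoinRoot f →ₗ[F] U1 :=
    { toFun := fun a => φ a v
      map_add' := fun a b => by rw [map_add, LinearMap.add_apply]
      map_smul' := fun c a => by rw [map_smul, LinearMap.smul_apply, RingHom.id_apply] }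
  have hinj : Function.Injective ev := by
    rw [← LinearMap.ker_eq_bot, eq_bot_iff]
    intro a ha
    rw [Submodule.mem_bot]
    by_contra hne
    refine hv ?_
    have h : φ (a⁻¹ * a) v = v := by rw [inv_mul_cancel₀ hne, map_one]; rfl
    rw [map_mul, Module.End.mul_apply, show φ a v = 0 from ha, map_zero] at h
    exact h.symm
  have hfr : Module.finrank F U1 + Module.finrank F U2 = 7 := by
    have := Submodule.finrank_sup_add_finrank_inf_eq U1 U2
    rw [hsup, hinf, finrank_top, finrank_bot, Module.finrank_fin_fun, add_zero] at this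
    exact this.symm
  have hE6 : Module.finrank F (AdjoinRoot f) = 6 := by
    rw [(AdjoinRoot.powerBasis hf.ne_zero).finrank, AdjoinRoot.powerBasis_dim, hf6]
  have hU16 : Module.finrank F U1 = 6 := by
    have h1 := LinearMap.finrank_le_finrank_of_injective hinj
    rw [hE6] at h1
    rcases Nat.lt_or_ge (Module.finrank F U1) 7 with h | h
    · omega
    · exfalso
      -- the space is a vector space over the extension field
      haveI : Finite (AdjoinRoot f) := Module.finite_of_finite F
      letI : Module (AdjoinRoot f) U1 := Module.compHom U1 φ.toRingHom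
      haveI : IsScalarTower F (AdjoinRoot f) U1 := ⟨fun c a w => by
        show φ (c • a) w = c • φ a w
        rw [map_smul, LinearMap.smul_apply]⟩
      have := Module.finrank_mul_finrank F (AdjoinRoot f) U1
      rw [hE6] at this
      omega
  have hsurj : Function.Surjective ev :=
    (LinearMap.injective_iff_surjective_of_finrank_eq_finrank (by rw [hE6, hU16])).1 hinj
  constructor
  · -- the centraliser
    let C := Subgroup.centralizer ({x} : Set (GL (Fin 7) F))
    have hcomm : ∀ g : C, Commute (L ((g : GL (Fin 7) F) : Matrix (Fin 7) (Fin 7) F)) M := fun g => by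
      rw [hM]
      exact (show Commute ((g : GL (Fin 7) F) : Matrix (Fin 7) (Fin 7) F) x from
        congrArg Units.val (Subgroup.mem_centralizer_singleton_iff.1 g.2)).map L
    let res : C → Module.End F U1 := fun g => (L ((g : GL (Fin 7) F) : Matrix (Fin 7) (Fin 7) F)).restrict
      (hstab _ (hcomm g))
    have hresphi : ∀ g : C, ∃ a, res g = φ a := by
      intro g
      obtain ⟨a, ha⟩ := hsurj (res g v)
      refine ⟨a, LinearMap.ext fun w => ?_⟩
      obtain ⟨b, rfl⟩ := hsurj w
      have hgb : ∀ N : F[X], ∀ w : U1, res g (aeval T N w) = aeval T N (res g w) := fun N w => Subtype.ext (by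
        show L _ (aeval T N w : U1).1 = _
        rw [hTa, hTa]
        have e : Commute (L ((g : GL (Fin 7) F) : Matrix (Fin 7) (Fin 7) F)) (aeval M N) := by
          induction N using Polynomial.induction_on' with
          | add P Q hP hQ => rw [map_add]; exact hP.add_right hQ
          | monomial k c =>
            rw [aeval_monomial]
            exact (Algebra.commute_algebraMap_right c _).mul_right ((hcomm g).pow_right k)
        exact LinearMap.congr_fun e.eq w.1)
      obtain ⟨N, rfl⟩ := AdjoinRoot.mk_surjective b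
      show res g (aeval T N v) = φ a (φ (AdjoinRoot.mk f N) v)
      rw [hgb, ← ha]
      show φ (AdjoinRoot.mk f N) (φ a v) = φ a (φ (AdjoinRoot.mk f N) v)
      rw [← Module.End.mul_apply, ← map_mul, mul_comm, map_mul, Module.End.mul_apply]
    choose sg hsg using hresphi
    have huniq : ∀ a b, φ a = φ b → a = b := fun a b h => hinj (show φ a v = φ b v by rw [h])
    let ψ₀ : C →* AdjoinRoot f :=
      { toFun := sg
        map_one' := huniq _ _ (by
          rw [← hsg, map_one]
          refine LinearMap.ext fun w => Subtype.ext ?_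
          show L ((1 : GL (Fin 7) F) : Matrix (Fin 7) (Fin 7) F) w.1 = w.1
          rw [Units.val_one, map_one]; rfl)
        map_mul' := fun g h => huniq _ _ (by
          rw [map_mul, ← hsg, ← hsg, ← hsg]
          refine LinearMap.ext fun w => Subtype.ext ?_
          show L (((g * h : C) : GL (Fin 7) F) : Matrix (Fin 7) (Fin 7) F) w.1 = L _ (L _ w.1)
          rw [Subgroup.coe_mul, Units.val_mul, map_mul]; rfl) }
    refine ⟨(AdjoinRoot f)ˣ, inferInstance, ?_, ψ₀.toHomUnits, fun g hg => ?_⟩
    · haveI : Finite (AdjoinRoot f) := Module.finite_of_finite F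
      infer_instance
    have hg1 : ∀ w : U1, L ((g : GL (Fin 7) F) : Matrix (Fin 7) (Fin 7) F) w.1 = w.1 := fun w => by
      have h1 : sg g = 1 := congrArg Units.val hg
      have h2 := congrArg (fun T' : Module.End F U1 => (T' w).1) (hsg g)
      rw [h1, map_one] at h2
      exact h2
    have hU21 : Module.finrank F U2 = 1 := by omega
    obtain ⟨e, he, hspan⟩ : ∃ e ∈ U2, e ≠ 0 ∧ ∀ w ∈ U2, ∃ c : F, c • e = w := by
      obtain ⟨⟨e, he⟩, he0, h⟩ := finrank_eq_one_iff'.1 hU21
      refine ⟨e, he, fun h0 => he0 (Subtype.ext h0), fun w hw => ?_⟩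
      obtain ⟨c, hc⟩ := h ⟨w, hw⟩
      exact ⟨c, congrArg Subtype.val hc⟩
    obtain ⟨G, hG⟩ : ∃ G, G = L ((g : GL (Fin 7) F) : Matrix (Fin 7) (Fin 7) F) := ⟨_, rfl⟩
    have hG2 : ∀ w ∈ U2, G w ∈ U2 := fun w hw => by
      rw [hU2, LinearMap.mem_ker, map_sub, aeval_X, map_one] at hw ⊢
      have e' : M (G w) = G (M w) := LinearMap.congr_fun (hG ▸ hcomm g).eq.symm w
      simp only [LinearMap.sub_apply, Module.End.one_apply] at hw ⊢
      rw [e', sub_eq_zero.1 hw, sub_self]
    obtain ⟨c, hc⟩ := hspan.2 _ (hG2 e he)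
    have hGk : ∀ k : ℕ, (G ^ k) e = c ^ k • e := by
      intro k
      induction k with
      | zero => simp
      | succ k ih => rw [pow_succ, Module.End.mul_apply, ← hc, map_smul, ih, smul_smul, ← pow_succ']
    have hc0 : c ≠ 0 := by
      intro h0
      rw [h0, zero_smul] at hc
      refine hspan.1 ?_
      have h1 : L (((g : GL (Fin 7) F)⁻¹ : GL (Fin 7) F) : Matrix (Fin 7) (Fin 7) F) (G e) = e := by
        rw [hG, ← Module.End.mul_apply, ← map_mul, ← Units.val_mul, inv_mul_cancel, Units.val_one, map_one]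
        rfl
      rw [← hc, map_zero] at h1
      exact h1.symm
    have hfin : G ^ (Fintype.card F - 1) = 1 := by
      refine LinearMap.ext fun w => ?_
      obtain ⟨a, ha, b, hb, rfl⟩ := Submodule.mem_sup.1 (show w ∈ U1 ⊔ U2 by rw [hsup]; trivial)
      obtain ⟨d, rfl⟩ := hspan.2 b hb
      have ha' : ∀ k : ℕ, (G ^ k) a = a := by
        intro k
        induction k with
        | zero => rfl
        | succ k ih => rw [pow_succ, Module.End.mul_apply, show G a = a from hG ▸ hg1 ⟨a, ha⟩, ih]
      rw [map_add, map_smul, ha', hGk, FiniteField.pow_card_sub_one_eq_one c hc0, one_smul]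
      rfl
    refine Subtype.ext (Units.ext (L.injective ?_))
    rw [Subgroup.coe_pow, Units.val_pow_eq_pow_val, map_pow, ← hG, hfin]
    exact (map_one L).symm
  · intro g i hg
    obtain ⟨G, hG⟩ : ∃ G, G = L (g : Matrix (Fin 7) (Fin 7) F) := ⟨_, rfl⟩
    obtain ⟨G', hG'⟩ : ∃ G', G' = L ((g⁻¹ : GL (Fin 7) F) : Matrix (Fin 7) (Fin 7) F) := ⟨_, rfl⟩
    have hGG : G' * G = 1 := by rw [hG, hG', ← map_mul, ← Units.val_mul, inv_mul_cancel, Units.val_one, map_one]
    have hMi : M ^ i = G * M * G' := by
      rw [hM, hG, hG', ← map_pow, ← map_mul, ← map_mul, ← Units.val_pow_eq_pow_val, ← hg, Units.val_mul,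
        Units.val_mul]
    have hconj : ∀ N : F[X], aeval (M ^ i) N = G * aeval M N * G' := by
      intro N
      induction N using Polynomial.induction_on' with
      | add P Q hP hQ => rw [map_add, map_add, hP, hQ, mul_add, add_mul]
      | monomial k c =>
        have hk : ∀ k : ℕ, (G * M * G') ^ k * G = G * M ^ k := by
          intro k
          induction k with
          | zero => simp
          | succ k ih =>
            rw [pow_succ, mul_assoc ((G * M * G') ^ k), mul_assoc (G * M), hGG, mul_one, ← mul_assoc, ih, mul_assoc,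
              ← pow_succ]
        have hGG' : G * G' = 1 := by
          rw [hG, hG', ← map_mul, ← Units.val_mul, mul_inv_cancel, Units.val_one, map_one]
        rw [aeval_monomial, aeval_monomial, hMi, ← mul_assoc, ← Algebra.commutes c G, mul_assoc (algebraMap F _ c),
          ← hk, mul_assoc (algebraMap F _ c), mul_assoc ((G * M * G') ^ k), hGG', mul_one]
    have hzero : aeval (M ^ i) (f * (X - 1)) = 0 := by rw [hconj, hann, mul_zero, zero_mul]
    obtain ⟨α, hα⟩ : ∃ α, α = AdjoinRoot.root f := ⟨_, rfl⟩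
    have h2 : aeval (α ^ i) (f * (X - 1)) = 0 := by
      refine hinj ?_
      show φ (aeval (α ^ i) (f * (X - 1))) v = φ 0 v
      rw [← aeval_algHom_apply, map_pow, hα, hφX, map_zero, LinearMap.zero_apply]
      refine Subtype.ext ?_
      have e : ∀ N : F[X], ((aeval (T ^ i) N v : U1) : Fin 7 → F) = aeval (M ^ i) N v := by
        intro N
        rw [show T ^ i = aeval T (X ^ i : F[X]) by rw [map_pow, aeval_X],
          show M ^ i = aeval M (X ^ i : F[X]) by rw [map_pow, aeval_X], ← aeval_comp, ← aeval_comp, hTa]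
      rw [e, hzero]
      rfl
    rw [map_mul, mul_eq_zero] at h2
    rcases h2 with h2 | h2
    · exact hroots i (hα ▸ h2)
    · exfalso
      rw [map_sub, aeval_X, map_one, sub_eq_zero, ← orderOf_dvd_iff_pow_eq_one, hα, hord] at h2
      obtain ⟨c, rfl⟩ := h2
      rw [pow_mul, ← hx, pow_orderOf_eq_one, one_pow, conj_eq_one_iff] at hg
      rw [hg, orderOf_one] at hx
      exact hp.one_lt.ne hx

end Cfsg.Agent.Small.Ree.SingerGL
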