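import Cfsg.Agent.Lib.Small.Ree.Conj
import Cfsg.Agent.Lib.Small.Ree.SingerGL
import Cfsg.Agent.Lib.Lie.G2Embed

/-!
The small Ree groups: the tori whose orders divide `q ^ 2 - q + 1`.
-/

set_option autoImplicit false
set_option synthInstance.maxHeartbeats 400000
set_option maxHeartbeats 1600000
set_option maxRecDepth 4000
set_option linter.style.haveILetI false

namespace Cfsg.Agent.Small.Ree

open Cfsg Cfsg.Lie Cfsg.Agent.Lie Cfsg.Agent.Lie.Twist Matrix
open scoped MatrixGroups
open Cfsg.Agent.Lie.G2 (Os Setup)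
open Cfsg.Agent.Small.TwistAut Cfsg.Agent.Small.TwistAut.G2

variable {K : Type*} [Field K] [Fintype K] {m : ℕ} (S : Setup K m)

/-- The order of the large cyclic part. -/
def Kp (K : Type*) [Fintype K] : ℕ := Fintype.card K ^ 2 - Fintype.card K + 1

include S in
theorem order_six {p : ℕ} (hp : p.Prime) (hd : p ∣ Kp K) :
    orderOf (Fintype.card K : ZMod p) = 6 := by
  haveI : Fact p.Prime := ⟨hp⟩
  obtain ⟨hp2, hp3, -, -⟩ := (factor_prime S hp).2.2 hd
  have h0 : ((Kp K : ℕ) : ZMod p) = 0 := (ZMod.natCast_eq_zero_iff _ _).2 hd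
  rw [Kp, Nat.cast_add, Nat.cast_sub (Nat.le_self_pow two_ne_zero _), Nat.cast_pow, Nat.cast_one] at h0
  obtain ⟨c, hc⟩ : ∃ c, c = (Fintype.card K : ZMod p) := ⟨_, rfl⟩
  rw [← hc] at h0 ⊢
  have h2 : (2 : ZMod p) ≠ 0 := fun h =>
    hp2 ((Nat.prime_dvd_prime_iff_eq hp Nat.prime_two).1 ((ZMod.natCast_eq_zero_iff 2 p).1 (by exact_mod_cast h)))
  have h3 : (3 : ZMod p) ≠ 0 := fun h =>
    hp3 ((Nat.prime_dvd_prime_iff_eq hp Nat.prime_three).1 ((ZMod.natCast_eq_zero_iff 3 p).1 (by exact_mod_cast h)))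
  have hc3 : c ^ 3 = -1 := by linear_combination (c + 1) * h0
  have hc6 : c ^ 6 = 1 := by linear_combination (c ^ 3 - 1) * hc3
  refine (orderOf_eq_iff (by norm_num)).2 ⟨hc6, fun k hk hk0 h => ?_⟩
  interval_cases k
  · rw [pow_one] at h
    rw [h] at h0
    exact one_ne_zero (by linear_combination h0 : (1 : ZMod p) = 0)
  · have hcc : c = 2 := by linear_combination h - h0
    rw [hcc] at h
    exact h3 (by linear_combination h)
  · rw [hc3] at h
    exact h2 (by linear_combination -h)
  · have hc1 : c = -1 := by linear_combination c * hc3 - h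
    rw [hc1] at h0
    exact h3 (by linear_combination h0)
  · have hc2 : c ^ 2 = -1 := by linear_combination c ^ 2 * hc3 - h
    rw [hc2] at h0
    have hcc : c = 0 := by linear_combination -h0
    rw [hcc] at hc3
    simp at hc3

/-- A faithful representation of degree seven. -/
theorem exists_rep : ∃ ψ : RG S →* GL (Fin 7) K, Function.Injective ψ := by
  have hle : S.data.G1 ≤ chevG2.group K := by
    refine (Subgroup.closure_le _).2 ?_
    rintro g ⟨w, -, hg⟩
    rw [show g = factsG2.wg w from Units.ext (by rw [hg, factsG2.coe_wg])]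
    exact factsG2.wg_mem_group _
  have h3 : 3 ≤ Fintype.card K := by have := card_mod_eight S; omega
  obtain ⟨φ, hφ, -, -, -⟩ := Lie.G2Seven.exists_embed (F := K) h3
  exact ⟨φ.comp (Subgroup.inclusion hle), hφ.comp (Subgroup.inclusion_injective hle)⟩

/-- An element of prime order dividing `q ^ 2 - q + 1`. -/
def IsSinger (x : RG S) : Prop := (orderOf x).Prime ∧ orderOf x ∣ Kp K

/-- The torus of such an element. -/
def Tor (x : RG S) : Subgroup (RG S) := Subgroup.centralizer ({x} : Set (RG S))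

theorem singer_ne {x : RG S} (hx : IsSinger S x) : x ≠ 1 := fun h => by
  have := hx.1
  rw [h, orderOf_one] at this
  exact Nat.not_prime_one this

theorem singer_not_dvd {x : RG S} (hx : IsSinger S x) {n : ℕ}
    (hn : n ∣ Fintype.card K ^ 3 * (Fintype.card K - 1) * (Fintype.card K + 1)) : ¬ orderOf x ∣ n := by
  intro h
  obtain ⟨hp2, hp3, ha, hb⟩ := (factor_prime S hx.1).2.2 hx.2
  have h8 := card_mod_eight S
  rcases hx.1.dvd_mul.1 (h.trans hn) with h' | h'
  · rcases hx.1.dvd_mul.1 h' with h'' | h''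
    · rw [card_K S, ← pow_mul] at h''
      exact hp3 ((Nat.prime_dvd_prime_iff_eq hx.1 Nat.prime_three).1 (hx.1.dvd_of_dvd_pow h''))
    · rw [show Fintype.card K - 1 = 2 * ((Fintype.card K - 1) / 2) by omega] at h''
      rcases hx.1.dvd_mul.1 h'' with h3 | h3
      · exact hp2 ((Nat.prime_dvd_prime_iff_eq hx.1 Nat.prime_two).1 h3)
      · exact ha h3
  · rw [show Fintype.card K + 1 = 2 ^ 2 * ((Fintype.card K + 1) / 4) by omega] at h'
    rcases hx.1.dvd_mul.1 h' with h3 | h3
    · exact hp2 ((Nat.prime_dvd_prime_iff_eq hx.1 Nat.prime_two).1 (hx.1.dvd_of_dvd_pow h3))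
    · exact hb h3

variable (h27 : 27 ≤ Fintype.card K)

include h27

theorem tor_primes {x : RG S} (hx : IsSinger S x) {r : ℕ} (hr : r.Prime) (hrT : r ∣ Nat.card ↥(Tor S x)) :
    r ∣ Kp K := by
  haveI : Fact r.Prime := ⟨hr⟩
  have h8 := card_mod_eight S
  obtain ⟨⟨y, hy⟩, hyo⟩ := exists_prime_orderOf_dvd_card' r hrT
  rw [Subgroup.orderOf_mk] at hyo
  have hyx : y * x = x * y := Subgroup.mem_centralizer_singleton_iff.1 hy
  have hy1 : y ≠ 1 := fun e => hr.ne_one (by rw [← hyo, e, orderOf_one])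
  have hrG : r ∣ Nat.card (RG S) := hyo ▸ orderOf_dvd_natCard y
  rw [card_split] at hrG
  have hconjord : ∀ g : RG S, orderOf (g⁻¹ * x * g) = orderOf x := fun g => by
    have := orderOf_injective (MulAut.conj g⁻¹).toMonoidHom (MulAut.conj g⁻¹).injective x
    simpa [mul_assoc] using this
  have hH : ∀ h ∈ Subgroup.zpowers x, h * y = y * h := fun h hh => by
    obtain ⟨i, rfl⟩ := Subgroup.mem_zpowers_iff.1 hh
    exact (show Commute x y from hyx.symm).zpow_left i
  by_contra hK
  rcases hr.dvd_mul.1 hrG with h | h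
  · rcases hr.dvd_mul.1 h with h | h
    · rcases hr.dvd_mul.1 h with h | h
      · rcases hr.dvd_mul.1 h with h | h
        · -- an involution
          obtain rfl : r = 2 := (Nat.prime_dvd_prime_iff_eq hr Nat.prime_two).1
            (hr.dvd_of_dvd_pow (show r ∣ 2 ^ 3 from h))
          obtain ⟨g, hg⟩ := isConj_iff.1 (involutions_conj S (w := y)
            (by rw [← pow_two, ← hyo]; exact pow_orderOf_eq_one y) hy1)
          have hC : g⁻¹ * x * g ∈ Cent S := (mem_Cent S).2 (by
            calc g⁻¹ * x * g * tau S = g⁻¹ * (x * (g * tau S * g⁻¹)) * g := by group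
              _ = g⁻¹ * ((g * tau S * g⁻¹) * x) * g := by rw [hg, hyx]
              _ = _ := by group)
          have hd := Subgroup.orderOf_dvd_natCard (Cent S) hC
          rw [hconjord, card_Cent] at hd
          refine singer_not_dvd S hx ?_ hd
          rw [mul_comm]
          exact mul_dvd_mul_right (mul_dvd_mul_right (dvd_pow_self _ (by norm_num)) _) _
        · -- an element of order three
          rw [card_K S, ← pow_mul] at h
          obtain rfl : r = 3 := (Nat.prime_dvd_prime_iff_eq hr Nat.prime_three).1 (hr.dvd_of_dvd_pow h)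
          obtain ⟨pt, hpt, huniq⟩ := three_unique S hy1 (j := 1) (by rw [pow_one, ← hyo, pow_orderOf_eq_one])
          refine singer_not_dvd S hx (dvd_mul_right _ _) (fix_order S (x := pt) (huniq _ ?_))
          rw [smul_smul, hyx, mul_smul, hpt]
      · -- the split torus
        obtain ⟨g, hg, -, -⟩ := conj_into_HH S hr h hyo hH
        have hd := Subgroup.orderOf_dvd_natCard (HH S) (hg x (Subgroup.mem_zpowers x))
        rw [hconjord, card_HH] at hd
        exact singer_not_dvd S hx ((dvd_mul_left _ _).trans (dvd_mul_right _ _)) hd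
    · -- the second torus
      obtain ⟨g, hg, -, -⟩ := conj_into_Z2 S h27 hr h hyo hH
      have hd := Subgroup.orderOf_dvd_natCard (Z2 S) (hg x (Subgroup.mem_zpowers x))
      rw [hconjord, (Z2_props S h27).2.1] at hd
      exact singer_not_dvd S hx (dvd_mul_left _ _) hd
  · exact hK h

theorem tor_coprime {x : RG S} (hx : IsSinger S x) :
    Nat.Coprime (Nat.card ↥(Tor S x)) (Fintype.card K - 1) := by
  refine Nat.coprime_of_dvd fun r hr hrT hr1 => ?_
  obtain ⟨hr2, -, ha, -⟩ := (factor_prime S hr).2.2 (tor_primes S h27 hx hr hrT)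
  have h8 := card_mod_eight S
  rw [show Fintype.card K - 1 = 2 * ((Fintype.card K - 1) / 2) by omega] at hr1
  rcases hr.dvd_mul.1 hr1 with h | h
  · exact hr2 ((Nat.prime_dvd_prime_iff_eq hr Nat.prime_two).1 h)
  · exact ha h

theorem tor_cyclic {x : RG S} (hx : IsSinger S x) : IsCyclic ↥(Tor S x) := by
  obtain ⟨ψ, hψ⟩ := exists_rep S
  have hxo : orderOf (ψ x) = orderOf x := orderOf_injective ψ hψ x
  obtain ⟨⟨A, _, _, φ, hφ⟩, -⟩ := SingerGL.seven hx.1 (order_six S hx.1 hx.2) (ψ x) hxo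
  let ι : ↥(Tor S x) →* ↥(Subgroup.centralizer ({ψ x} : Set (GL (Fin 7) K))) :=
    (ψ.comp (Tor S x).subtype).codRestrict _ fun y => Subgroup.mem_centralizer_singleton_iff.2 (by
      show ψ y * ψ x = ψ x * ψ y
      rw [← map_mul, ← map_mul, Subgroup.mem_centralizer_singleton_iff.1 y.2])
  refine isCyclic_of_injective (φ.comp ι) ((injective_iff_map_eq_one _).2 fun y hy => ?_)
  have h1 := congrArg Subtype.val (hφ (ι y) hy)
  have h2 : (y : RG S) ^ (Fintype.card K - 1) = 1 := hψ (by
    rw [map_pow, map_one]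
    exact h1)
  refine orderOf_eq_one_iff.1 (Nat.Coprime.eq_one_of_dvd
    (Nat.Coprime.coprime_dvd_left (orderOf_dvd_natCard y) (tor_coprime S h27 hx)) ?_)
  exact orderOf_dvd_of_pow_eq_one (Subtype.ext h2)

theorem tor_comm {x : RG S} (hx : IsSinger S x) {a b : RG S} (ha : a ∈ Tor S x) (hb : b ∈ Tor S x) :
    a * b = b * a := by
  haveI := tor_cyclic S h27 hx
  letI := IsCyclic.commGroup (α := Tor S x)
  exact congrArg Subtype.val (mul_comm (⟨a, ha⟩ : Tor S x) ⟨b, hb⟩)

omit h27 in
theorem self_mem_tor (x : RG S) : x ∈ Tor S x := Subgroup.mem_centralizer_singleton_iff.2 rfl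

/-- A torus is the centraliser of each of its nontrivial elements. -/
theorem tor_centralizer {x : RG S} (hx : IsSinger S x) {y : RG S} (hy : y ∈ Tor S x) (hy1 : y ≠ 1) :
    Subgroup.centralizer ({y} : Set (RG S)) = Tor S x := by
  have hlt : 1 < Nat.card ↥(Subgroup.zpowers y) := by
    rw [Nat.card_zpowers]
    have := orderOf_pos y
    have : orderOf y ≠ 1 := fun h => hy1 (orderOf_eq_one_iff.1 h)
    omega
  obtain ⟨y', hy', r, hr, hyo⟩ := exists_prime_mem (Subgroup.zpowers y) hlt
  have hy'T : y' ∈ Tor S x := Subgroup.zpowers_le.2 hy hy'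
  have hsing : IsSinger S y' := ⟨hyo ▸ hr, hyo ▸ tor_primes S h27 hx hr (hyo ▸ Subgroup.orderOf_dvd_natCard _ hy'T)⟩
  have hxy' : x ∈ Tor S y' :=
    Subgroup.mem_centralizer_singleton_iff.2 (Subgroup.mem_centralizer_singleton_iff.1 hy'T).symm
  refine le_antisymm (fun z hz => ?_) fun z hz => Subgroup.mem_centralizer_singleton_iff.2 (tor_comm S h27 hx hz hy)
  have hz' : z ∈ Tor S y' := by
    obtain ⟨i, rfl⟩ := Subgroup.mem_zpowers_iff.1 hy'
    exact Subgroup.mem_centralizer_singleton_iff.2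
      ((show Commute z y from Subgroup.mem_centralizer_singleton_iff.1 hz).zpow_right i)
  exact Subgroup.mem_centralizer_singleton_iff.2 (tor_comm S h27 hsing hz' hxy')

theorem tor_eq {x y : RG S} (hx : IsSinger S x) (hy : y ∈ Tor S x) (hy1 : y ≠ 1) :
    Tor S y = Tor S x := tor_centralizer S h27 hx hy hy1

/-- Each torus contains a Sylow subgroup for each of its primes. -/
theorem tor_hall {x : RG S} (hx : IsSinger S x) {r : ℕ} (hr : r.Prime) (hrT : r ∣ Nat.card ↥(Tor S x)) :
    (Nat.card (RG S)).factorization r = (Nat.card ↥(Tor S x)).factorization r := by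
  haveI : Fact r.Prime := ⟨hr⟩
  obtain ⟨⟨y, hy⟩, hyo⟩ := exists_prime_orderOf_dvd_card' r hrT
  rw [Subgroup.orderOf_mk] at hyo
  have hy1 : y ≠ 1 := fun e => hr.ne_one (by rw [← hyo, e, orderOf_one])
  obtain ⟨R, hR⟩ := (zpowers_isPGroup (x := y) (p := r) (j := 1)
    (by rw [pow_one, ← hyo, pow_orderOf_eq_one])).exists_le_sylow
  have hyR : y ∈ (R : Subgroup (RG S)) := hR (Subgroup.mem_zpowers y)
  haveI : Nontrivial (R : Subgroup (RG S)) := ⟨⟨⟨y, hyR⟩, 1, fun e => hy1 (congrArg Subtype.val e)⟩⟩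
  haveI := R.2.center_nontrivial
  obtain ⟨z, hz1⟩ := exists_ne (1 : Subgroup.center (R : Subgroup (RG S)))
  have hzcomm : ∀ w ∈ (R : Subgroup (RG S)), w * ((z : (R : Subgroup (RG S))) : RG S) = ((z : (R : Subgroup (RG S))) : RG S) * w :=
    fun w hw => congrArg Subtype.val (Subgroup.mem_center_iff.1 z.2 ⟨w, hw⟩)
  have hzT : ((z : (R : Subgroup (RG S))) : RG S) ∈ Tor S x := by
    rw [← tor_centralizer S h27 hx hy hy1]
    exact Subgroup.mem_centralizer_singleton_iff.2 (hzcomm y hyR).symm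
  have hle : (R : Subgroup (RG S)) ≤ Tor S x := fun w hw => by
    rw [← tor_centralizer S h27 hx hzT (fun e => hz1 (Subtype.ext (Subtype.ext e)))]
    exact Subgroup.mem_centralizer_singleton_iff.2 (hzcomm w hw)
  have h1 := Subgroup.card_dvd_of_le hle
  rw [R.card_eq_multiplicity] at h1
  refine le_antisymm ((Nat.Prime.pow_dvd_iff_le_factorization hr Nat.card_pos.ne').1 h1) ?_
  exact (Nat.factorization_le_iff_dvd Nat.card_pos.ne' Nat.card_pos.ne').2 (Subgroup.card_subgroup_dvd_card _) r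

/-- The normaliser of a nontrivial subgroup of a torus. -/
theorem tor_normalizer {x : RG S} (hx : IsSinger S x) {A : Subgroup (RG S)} (hA : A ≤ Tor S x) (hA1 : A ≠ ⊥) :
    Subgroup.normalizer (A : Set (RG S)) = Subgroup.normalizer (Tor S x : Set (RG S)) := by
  haveI := tor_cyclic S h27 hx
  obtain ⟨⟨a, ha⟩, ha1⟩ := Subgroup.ne_bot_iff_exists_ne_one.1 hA1
  replace ha1 : a ≠ 1 := fun h => ha1 (Subtype.ext h)
  ext g
  constructor <;> intro hg <;> rw [Subgroup.mem_normalizer_iff_map_conj_eq] at hg ⊢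
  · refine Subgroup.eq_of_le_of_card_ge ?_ (le_of_eq (Nat.card_congr
      (Subgroup.equivMapOfInjective _ _ (MulAut.conj g).injective).toEquiv))
    rintro _ ⟨t, ht, rfl⟩
    show g * t * g⁻¹ ∈ Tor S x
    have ha' : g * a * g⁻¹ ∈ A := hg.le ⟨a, ha, rfl⟩
    rw [← tor_centralizer S h27 hx (hA ha') (fun e => ha1 (conj_eq_one_iff.1 e))]
    refine Subgroup.mem_centralizer_singleton_iff.2 ?_
    rw [conj_mul, conj_mul, tor_comm S h27 hx ht (hA ha)]
  · have hle : A.map (MulAut.conj g).toMonoidHom ≤ Tor S x := hg ▸ Subgroup.map_mono hA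
    have hc : Nat.card ↥(A.map (MulAut.conj g).toMonoidHom) = Nat.card A :=
      (Nat.card_congr (Subgroup.equivMapOfInjective _ _ (MulAut.conj g).injective).toEquiv).symm
    have e : (A.map (MulAut.conj g).toMonoidHom).subgroupOf (Tor S x) = A.subgroupOf (Tor S x) :=
      cyclic_sub_eq (by rw [Nat.card_congr (Subgroup.subgroupOfEquivOfLe hle).toEquiv,
        Nat.card_congr (Subgroup.subgroupOfEquivOfLe hA).toEquiv, hc])
    rw [Subgroup.subgroupOf_inj, inf_eq_left.2 hle, inf_eq_left.2 hA] at e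
    exact e

/-- The automiser of a torus has order dividing six. -/
theorem tor_index {x : RG S} (hx : IsSinger S x) :
    ∃ e, e ∣ 6 ∧ Nat.card ↥(Subgroup.normalizer (Tor S x : Set (RG S))) = e * Nat.card ↥(Tor S x) := by
  classical
  haveI : Fact (orderOf x).Prime := ⟨hx.1⟩
  obtain ⟨ψ, hψ⟩ := exists_rep S
  have hi := order_six S hx.1 hx.2
  obtain ⟨-, hexp⟩ := SingerGL.seven hx.1 hi (ψ x) (orderOf_injective ψ hψ x)
  haveI := tor_cyclic S h27 hx
  set N := Subgroup.normalizer (Tor S x : Set (RG S)) with hN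
  have hfo := isOfFinOrder_of_finite x
  have hpc : ∀ a b : ℕ, x ^ a = x ^ b ↔ (a : ZMod (orderOf x)) = b := fun a b => by
    rw [hfo.pow_eq_pow_iff_modEq, ZMod.natCast_eq_natCast_iff]
  have hex : ∀ g : N, ∃ j : ℕ, j < 6 ∧ (g : RG S) * x * (g : RG S)⁻¹ = x ^ Fintype.card K ^ j := by
    intro g
    have hA := tor_normalizer S h27 hx (A := Subgroup.zpowers x) (Subgroup.zpowers_le.2 (self_mem_tor S x))
      (fun e => singer_ne S hx (Subgroup.zpowers_eq_bot.1 e))
    have hg : (g : RG S) ∈ Subgroup.normalizer (Subgroup.zpowers x : Set (RG S)) := by rw [hA]; exact g.2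
    obtain ⟨i, hi'⟩ := (mem_zpowers_iff_mem_range_orderOf.1
      ((Subgroup.mem_normalizer_iff.1 hg x).1 (Subgroup.mem_zpowers x))) |> Finset.mem_image.1
    obtain ⟨j, hj, hje⟩ := hexp (ψ g) i (by rw [← map_inv, ← map_mul, ← map_mul, ← hi'.2, map_pow])
    exact ⟨j, hj, by rw [← hi'.2, hpc, hje, Nat.cast_pow]⟩
  choose j hj hje using hex
  have huniq : ∀ a b : ℕ, x ^ Fintype.card K ^ a = x ^ Fintype.card K ^ b → (a : ZMod 6) = b := fun a b h => by
    rw [hpc, Nat.cast_pow, Nat.cast_pow] at h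
    have hu : IsUnit (Fintype.card K : ZMod (orderOf x)) := by
      refine isUnit_iff_ne_zero.2 fun h0 => ?_
      rw [h0] at hi
      have h6 := pow_orderOf_eq_one (0 : ZMod (orderOf x))
      rw [hi, zero_pow (by norm_num)] at h6
      exact zero_ne_one h6
    obtain ⟨u, hu⟩ := hu
    rw [← hu, ← Units.val_pow_eq_pow_val, ← Units.val_pow_eq_pow_val, Units.val_inj, pow_eq_pow_iff_modEq,
      ← orderOf_units, hu, hi] at h
    rwa [ZMod.natCast_eq_natCast_iff]
  let f : N →* Multiplicative (ZMod 6) := MonoidHom.mk' (fun g => Multiplicative.ofAdd ((j g : ℕ) : ZMod 6)) fun g h => by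
    show Multiplicative.ofAdd ((j (g * h) : ℕ) : ZMod 6) = Multiplicative.ofAdd (((j g : ℕ) : ZMod 6) + (j h : ℕ))
    rw [← Nat.cast_add]
    refine congrArg _ (huniq _ _ ?_)
    rw [← hje, Subgroup.coe_mul, pow_add, pow_mul, ← hje g, conj_pow, ← hje h]
    group
  have hker : f.ker = (Tor S x).subgroupOf N := by
    ext g
    rw [MonoidHom.mem_ker, Subgroup.mem_subgroupOf]
    show Multiplicative.ofAdd ((j g : ℕ) : ZMod 6) = 1 ↔ (g : RG S) ∈ Subgroup.centralizer {x}
    rw [Subgroup.mem_centralizer_singleton_iff, ← mul_inv_eq_iff_eq_mul, ofAdd_eq_one,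
      ZMod.natCast_eq_zero_iff, hje]
    refine ⟨fun h => by rw [Nat.eq_zero_of_dvd_of_lt h (hj g), pow_zero, pow_one], fun h => ?_⟩
    have := huniq (j g) 0 (by rw [h, pow_zero, pow_one])
    rwa [Nat.cast_zero, ZMod.natCast_eq_zero_iff] at this
  refine ⟨f.ker.index, ?_, ?_⟩
  · have h := f.range.card_subgroup_dvd_card
    rwa [← Subgroup.index_ker, Nat.card_congr Multiplicative.toAdd, Nat.card_zmod] at h
  · rw [← Subgroup.card_mul_index f.ker, hker,
      Nat.card_congr (Subgroup.subgroupOfEquivOfLe (Subgroup.le_normalizer : Tor S x ≤ N)).toEquiv, mul_comm]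

/-- For primes above three the Sylow subgroups are cyclic. -/
theorem sylow_cyclic {p : ℕ} [Fact p.Prime] (hp : 3 < p) (P : Sylow p (RG S)) : IsCyclic (P : Subgroup (RG S)) := by
  by_cases hd : p ∣ Nat.card (RG S)
  swap
  · have h1 : Nat.card P = 1 := by
      rw [P.card_eq_multiplicity, Nat.factorization_eq_zero_of_not_dvd hd, pow_zero]
    haveI := (Nat.card_eq_one_iff_unique.1 h1).1
    infer_instance
  have key : ∀ A : Subgroup (RG S), IsCyclic A →
      (Nat.card (RG S)).factorization p = (Nat.card A).factorization p → IsCyclic (P : Subgroup (RG S)) := by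
    intro A hA hfac
    obtain ⟨g, hg⟩ := pgroup_conj_into hfac P.2
    exact isCyclic_of_injective ((((MulAut.conj g⁻¹).toMonoidHom.comp (P : Subgroup (RG S)).subtype)).codRestrict A
      (fun x => by
        show g⁻¹ * (x : RG S) * g⁻¹⁻¹ ∈ A
        rw [inv_inv]
        exact hg x x.2)) fun a b h =>
      Subtype.ext ((MulAut.conj g⁻¹).injective (congrArg Subtype.val h))
  have hp' : p.Prime := Fact.out
  rw [card_split] at hd
  rcases hp'.dvd_mul.1 hd with h | h
  · rcases hp'.dvd_mul.1 h with h | h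
    · rcases hp'.dvd_mul.1 h with h | h
      · exfalso
        rcases hp'.dvd_mul.1 h with h | h
        · have := Nat.le_of_dvd (by norm_num) (hp'.dvd_of_dvd_pow (show p ∣ 2 ^ 3 from h))
          omega
        · rw [card_K S, ← pow_mul] at h
          have := Nat.le_of_dvd (by norm_num) (hp'.dvd_of_dvd_pow h)
          omega
      · exact key _ (cyclic_A1 S) (fac_A1 S hp' h)
    · exact key _ (cyclic_A2 S) (fac_A2 S hp' h)
  · obtain ⟨x, hxo⟩ := exists_prime_orderOf_dvd_card' p (G := RG S) (by rw [card_split]; exact h.mul_left _)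
    have hx : IsSinger S x := ⟨hxo ▸ hp', hxo ▸ h⟩
    exact key _ (tor_cyclic S h27 hx) (tor_hall S h27 hx hp'
      (hxo ▸ Subgroup.orderOf_dvd_natCard _ (self_mem_tor S x)))

end Cfsg.Agent.Small.Ree
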