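import Cfsg.Agent.Lib.Small.Ree.Orders

/-!
The small Ree groups: solvable subgroups lie in local subgroups.
-/

set_option autoImplicit false
set_option synthInstance.maxHeartbeats 400000
set_option maxHeartbeats 1600000
set_option maxRecDepth 4000
set_option linter.style.haveILetI false

namespace Cfsg.Agent.Small.Ree

open Cfsg Cfsg.Lie Cfsg.Agent.Lie Cfsg.Agent.Lie.Twist Matrix
open scoped MatrixGroups
open Cfsg.Agent.Lie.G2 (Os Setup)
open Cfsg.Agent.Small.TwistAut Cfsg.Agent.Small.TwistAut.G2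

section Generic

variable {G : Type*} [Group G]

theorem mem_normalizer_of_conj [Finite G] {H : Subgroup G} {g : G} (h : ∀ x ∈ H, g * x * g⁻¹ ∈ H) :
    g ∈ Subgroup.normalizer (H : Set G) := by
  refine Subgroup.mem_normalizer_iff_map_conj_eq.2 (Subgroup.eq_of_le_of_card_ge ?_ (le_of_eq (Nat.card_congr
    (Subgroup.equivMapOfInjective _ _ (MulAut.conj g).injective).toEquiv)))
  rintro _ ⟨x, hx, rfl⟩
  exact h x hx

theorem normalizer_conj_le {M A : Subgroup G} (g : G)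
    (h : Subgroup.normalizer ((M.map (MulAut.conj g⁻¹).toMonoidHom : Subgroup G) : Set G) ≤
      Subgroup.normalizer (A : Set G)) :
    Subgroup.normalizer (M : Set G) ≤
      Subgroup.normalizer ((A.map (MulAut.conj g).toMonoidHom : Subgroup G) : Set G) := by
  intro s hs
  rw [Subgroup.mem_normalizer_iff_map_conj_eq] at hs ⊢
  have ht := @h (g⁻¹ * s * g) (by
    rw [Subgroup.mem_normalizer_iff_map_conj_eq]
    conv_rhs => rw [← hs]
    rw [Subgroup.map_map, Subgroup.map_map]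
    congr 1
    ext x
    show g⁻¹ * s * g * (g⁻¹ * x * g⁻¹⁻¹) * (g⁻¹ * s * g)⁻¹ = g⁻¹ * (s * x * s⁻¹) * g⁻¹⁻¹
    group)
  rw [Subgroup.mem_normalizer_iff_map_conj_eq] at ht
  conv_rhs => rw [← ht]
  rw [Subgroup.map_map, Subgroup.map_map]
  congr 1
  ext x
  show s * (g * x * g⁻¹) * s⁻¹ = g * (g⁻¹ * s * g * x * (g⁻¹ * s * g)⁻¹) * g⁻¹
  group

/-- The `p`-part of an abelian subgroup. -/
theorem abelian_part [Finite G] {A : Subgroup G} (hA : ∀ a ∈ A, ∀ b ∈ A, a * b = b * a) {p : ℕ}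
    (hp : p.Prime) (hd : p ∣ Nat.card A) :
    ∃ M : Subgroup G, M ≤ A ∧ M ≠ ⊥ ∧ IsPGroup p M ∧
      Subgroup.normalizer (A : Set G) ≤ Subgroup.normalizer (M : Set G) := by
  haveI : Fact p.Prime := ⟨hp⟩
  let M : Subgroup G :=
    { carrier := {y | y ∈ A ∧ y ^ p ^ Nat.card A = 1}
      one_mem' := ⟨one_mem _, one_pow _⟩
      mul_mem' := fun {a b} ha hb => ⟨mul_mem ha.1 hb.1, by
        rw [(show Commute a b from hA a ha.1 b hb.1).mul_pow, ha.2, hb.2, one_mul]⟩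
      inv_mem' := fun {a} ha => ⟨inv_mem ha.1, by rw [inv_pow, ha.2, inv_one]⟩ }
  refine ⟨M, fun y hy => hy.1, fun h => ?_, fun y => ⟨Nat.card A, Subtype.ext y.2.2⟩, fun s hs => ?_⟩
  · obtain ⟨y, hy⟩ := exists_prime_orderOf_dvd_card' p hd
    have hyM : (y : G) ∈ M := ⟨y.2, by
      obtain ⟨k, hk⟩ : ∃ k, Nat.card A = k + 1 := ⟨Nat.card A - 1, by have := Nat.card_pos (α := A); omega⟩
      rw [hk, pow_succ', pow_mul, ← hy, ← Subgroup.orderOf_coe, pow_orderOf_eq_one, one_pow]⟩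
    rw [h, Subgroup.mem_bot] at hyM
    rw [← Subgroup.orderOf_coe, hyM, orderOf_one] at hy
    exact hp.ne_one hy.symm
  · refine mem_normalizer_of_conj fun x hx => ⟨(Subgroup.mem_normalizer_iff.1 hs x).1 hx.1, ?_⟩
    rw [conj_pow, hx.2, mul_one, mul_inv_cancel]

/-- A nontrivial solvable subgroup normalises a nontrivial abelian subgroup of prime power order. -/
theorem exists_local [Finite G] {X : Subgroup G} (hX : Group.IsSolvable X) (hne : X ≠ ⊥) :
    ∃ (p : ℕ) (M : Subgroup G), p.Prime ∧ M ≤ X ∧ M ≠ ⊥ ∧ IsPGroup p M ∧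
      (∀ a ∈ M, ∀ b ∈ M, a * b = b * a) ∧ X ≤ Subgroup.normalizer (M : Set G) := by
  obtain ⟨n, hn⟩ := hX.solvable
  classical
  have hex : ∃ n, derivedSeries ↥X n = ⊥ := ⟨n, hn⟩
  obtain ⟨k, hk⟩ : ∃ k, Nat.find hex = k + 1 := by
    refine ⟨Nat.find hex - 1, ?_⟩
    have : Nat.find hex ≠ 0 := fun h0 => by
      have h := Nat.find_spec hex
      rw [h0, derivedSeries_zero] at h
      refine hne (bot_unique fun x hx => ?_)
      have hm : (⟨x, hx⟩ : X) ∈ (⊤ : Subgroup X) := Subgroup.mem_top _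
      rw [h, Subgroup.mem_bot] at hm
      exact congrArg Subtype.val hm
    omega
  set N := derivedSeries ↥X k with hN
  have hN0 : N ≠ ⊥ := Nat.find_min hex (by omega)
  haveI hNn : N.Normal := derivedSeries_normal ↥X k
  have hab : ⁅N, N⁆ = ⊥ := by
    rw [hN, ← derivedSeries_succ, ← hk]
    exact Nat.find_spec hex
  set A := N.map X.subtype with hA
  have hAab : ∀ a ∈ A, ∀ b ∈ A, a * b = b * a := by
    rintro _ ⟨a, ha, rfl⟩ _ ⟨b, hb, rfl⟩
    rw [← map_mul, ← map_mul]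
    congr 1
    exact (Subgroup.mem_centralizer_iff.1 (Subgroup.commutator_eq_bot_iff_le_centralizer.1 hab hb) a ha)
  have hXA : X ≤ Subgroup.normalizer (A : Set G) := fun s hs => mem_normalizer_of_conj (by
    rintro _ ⟨a, ha, rfl⟩
    exact ⟨_, hNn.conj_mem a ha ⟨s, hs⟩, rfl⟩)
  have hA1 : A ≠ ⊥ := fun h => hN0 ((Subgroup.map_eq_bot_iff_of_injective _ X.subtype_injective).1 h)
  obtain ⟨p, hp, hpd⟩ := Nat.exists_prime_and_dvd (n := Nat.card A) (fun h => hA1 (Subgroup.card_eq_one.1 h))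
  obtain ⟨M, hMA, hM1, hMp, hnorm⟩ := abelian_part hAab hp hpd
  exact ⟨p, M, hp, hMA.trans (Subgroup.map_subtype_le _), hM1, hMp,
    fun a ha b hb => hAab a (hMA ha) b (hMA hb), hXA.trans hnorm⟩

theorem map_conj_conj (M : Subgroup G) (a b : G) :
    (M.map (MulAut.conj b).toMonoidHom).map (MulAut.conj a).toMonoidHom = M.map (MulAut.conj (a * b)).toMonoidHom := by
  rw [Subgroup.map_map]
  congr 1
  ext x
  show a * (b * x * b⁻¹) * a⁻¹ = a * b * x * (a * b)⁻¹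
  group

theorem mem_normalizer_map_conj {B : Subgroup G} {a s : G}
    (h : a⁻¹ * s * a ∈ Subgroup.normalizer (B : Set G)) :
    s ∈ Subgroup.normalizer ((B.map (MulAut.conj a).toMonoidHom : Subgroup G) : Set G) := by
  rw [Subgroup.mem_normalizer_iff_map_conj_eq] at h ⊢
  conv_rhs => rw [← h]
  rw [Subgroup.map_map, Subgroup.map_map]
  congr 1
  ext x
  show s * (a * x * a⁻¹) * s⁻¹ = a * (a⁻¹ * s * a * x * (a⁻¹ * s * a)⁻¹) * a⁻¹
  group

/-- A solvable subgroup of a double cover with abelian preimages of abelian groups normalises an abelian group of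
prime power order, of order at least four at the prime two, unless it lies in the kernel. -/
theorem central_local [Finite G] {P : Type*} [Group P] [Finite P] {C : Subgroup G} (f : ↥C →* P)
    (hcomm : ∀ a b : ↥C, f a * f b = f b * f a → a * b = b * a)
    (hcard : ∀ H : Subgroup P, Nat.card ↥(H.comap f) = 2 * Nat.card H)
    {X : Subgroup G} (hXC : X ≤ C) (hX : Group.IsSolvable X) :
    (∀ x : ↥X, f (Subgroup.inclusion hXC x) = 1) ∨
      ∃ (p : ℕ) (M : Subgroup G), p.Prime ∧ M ≠ ⊥ ∧ IsPGroup p M ∧ (∀ a ∈ M, ∀ b ∈ M, a * b = b * a) ∧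
        (p = 2 → 4 ≤ Nat.card M) ∧ X ≤ Subgroup.normalizer (M : Set G) := by
  by_cases hbot : (f.comp (Subgroup.inclusion hXC)).range = ⊥
  · refine Or.inl fun x => ?_
    have h : f.comp (Subgroup.inclusion hXC) x ∈ (f.comp (Subgroup.inclusion hXC)).range := ⟨x, rfl⟩
    rw [hbot, Subgroup.mem_bot] at h
    exact h
  refine Or.inr ?_
  haveI := hX
  obtain ⟨p, Y, hp, -, hY1, hYp, hYab, hnorm⟩ := exists_local
    (Group.isSolvable_of_surjective (f.comp (Subgroup.inclusion hXC)).rangeRestrict_surjective) hbot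
  let W : Subgroup G := (Y.comap f).map C.subtype
  have hWab : ∀ a ∈ W, ∀ b ∈ W, a * b = b * a := by
    rintro _ ⟨a, ha, rfl⟩ _ ⟨b, hb, rfl⟩
    exact congrArg C.subtype (hcomm _ _ (hYab _ ha _ hb))
  have hWc : Nat.card W = 2 * Nat.card Y := by
    rw [← hcard]
    exact (Nat.card_congr (Subgroup.equivMapOfInjective _ _ C.subtype_injective).toEquiv).symm
  have hXW : X ≤ Subgroup.normalizer (W : Set G) := fun x hx => mem_normalizer_of_conj (by
    rintro _ ⟨a, ha, rfl⟩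
    refine ⟨⟨x, hXC hx⟩ * a * ⟨x, hXC hx⟩⁻¹, ?_, rfl⟩
    show f (⟨x, hXC hx⟩ * a * ⟨x, hXC hx⟩⁻¹) ∈ Y
    rw [map_mul, map_mul, map_inv]
    exact (Subgroup.mem_normalizer_iff.1 (hnorm ⟨⟨x, hx⟩, rfl⟩) _).1 ha)
  haveI : Fact p.Prime := ⟨hp⟩
  obtain ⟨k, hk⟩ := IsPGroup.iff_card.1 hYp
  have hk0 : k ≠ 0 := fun h0 => hY1 (Subgroup.card_eq_one.1 (by rw [hk, h0, pow_zero]))
  rcases eq_or_ne p 2 with rfl | hp2
  · have h4 : 4 ≤ Nat.card W := by
      rw [hWc, hk]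
      calc 4 = 2 * 2 ^ 1 := by norm_num
        _ ≤ _ := Nat.mul_le_mul_left _ (Nat.pow_le_pow_right (by norm_num) (by omega))
    exact ⟨2, W, hp, fun h => by rw [h, Subgroup.card_bot] at h4; omega,
      IsPGroup.iff_card.2 ⟨k + 1, by rw [hWc, hk, pow_succ']⟩, hWab, fun _ => h4, hXW⟩
  · obtain ⟨M, hMW, hM1, hMp, hMn⟩ := abelian_part hWab hp
      (by rw [hWc, hk]; exact Dvd.dvd.mul_left (dvd_pow_self p hk0) _)
    exact ⟨p, M, hp, hM1, hMp, fun a ha b hb => hWab a (hMW ha) b (hMW hb), fun e => absurd e hp2, hXW.trans hMn⟩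

end Generic

variable {K : Type*} [Field K] [Fintype K] {m : ℕ} (S : Setup K m)

/-- The subgroups whose normalisers are the maximal local subgroups. -/
def Loc (t₁ t₂ : ℕ) (A : Subgroup (RG S)) : Prop :=
  (∃ P : Sylow 2 (RG S), A = P) ∨ (∃ P : Sylow 3 (RG S), A = P) ∨
    (IsCyclic A ∧ (Nat.card A = (Fintype.card K - 1) / 2 ∨ Nat.card A = (Fintype.card K + 1) / 4 ∨
      Nat.card A = t₁ ∨ Nat.card A = t₂))

theorem loc_conj {t₁ t₂ : ℕ} {A : Subgroup (RG S)} (h : Loc S t₁ t₂ A) (g : RG S) :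
    Loc S t₁ t₂ (A.map (MulAut.conj g).toMonoidHom) := by
  rcases h with ⟨P, rfl⟩ | ⟨P, rfl⟩ | ⟨hc, hcard⟩
  · exact Or.inl ⟨g • P, by rw [Sylow.coe_subgroup_smul, Subgroup.pointwise_smul_def]; rfl⟩
  · exact Or.inr (Or.inl ⟨g • P, by rw [Sylow.coe_subgroup_smul, Subgroup.pointwise_smul_def]; rfl⟩)
  · refine Or.inr (Or.inr ⟨?_, ?_⟩)
    · exact isCyclic_of_surjective _ (Subgroup.equivMapOfInjective A _ (MulAut.conj g).injective).surjective
    · rw [← Nat.card_congr (Subgroup.equivMapOfInjective A _ (MulAut.conj g).injective).toEquiv]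
      exact hcard

/-- The point stabiliser normalises the unipotent group. -/
theorem BB_le_normalizer : BB S ≤ Subgroup.normalizer (U1 S.data : Set (RG S)) := by
  intro g hg
  obtain ⟨t, u, v, z, rfl⟩ := (exists_BB S).1 hg
  refine mul_mem (Subgroup.le_normalizer ((mem_U1_iff S).2 ⟨t, u, v, rfl⟩)) (mem_normalizer_of_conj fun x hx => ?_)
  obtain ⟨a, b, c, rfl⟩ := (mem_U1_iff S).1 hx
  rw [tz_conj]
  exact (mem_U1_iff S).2 ⟨_, _, _, rfl⟩

theorem local_three {t₁ t₂ : ℕ} {M : Subgroup (RG S)} (hM1 : M ≠ ⊥) (hMp : IsPGroup 3 M)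
    (hab : ∀ a ∈ M, ∀ b ∈ M, a * b = b * a) :
    ∃ A : Subgroup (RG S), Subgroup.normalizer (M : Set (RG S)) ≤ Subgroup.normalizer (A : Set (RG S)) ∧ Loc S t₁ t₂ A := by
  obtain ⟨⟨g, hg⟩, hg1⟩ := Subgroup.ne_bot_iff_exists_ne_one.1 hM1
  replace hg1 : g ≠ 1 := fun h => hg1 (Subtype.ext h)
  obtain ⟨j, hj⟩ := hMp ⟨g, hg⟩
  obtain ⟨x, hx, huniq⟩ := three_unique S hg1 (j := j) (congrArg Subtype.val hj)
  obtain ⟨a, rfl⟩ := MulAction.exists_smul_eq (RG S) (infty S) x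
  have hMfix : ∀ h ∈ M, h • a • infty S = a • infty S := fun h hh => huniq _ (by
    rw [smul_smul, hab g hg h hh, mul_smul, hx])
  refine ⟨(U1 S.data).map (MulAut.conj a).toMonoidHom, fun s hs => ?_,
    loc_conj S (Or.inr (Or.inl ⟨sylU S, rfl⟩)) a⟩
  have hsx : s • a • infty S = a • infty S := huniq _ (by
    have h1 := hMfix _ ((Subgroup.mem_normalizer_iff.1 (inv_mem hs) g).1 hg)
    rw [inv_inv, mul_smul, mul_smul, inv_smul_eq_iff] at h1
    exact h1)
  have hB : a⁻¹ * s * a ∈ BB S := (fix_infty S).1 (by rw [mul_smul, mul_smul, hsx, inv_smul_smul])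
  exact mem_normalizer_map_conj (BB_le_normalizer S hB)

variable (h27 : 27 ≤ Fintype.card K)

include h27

theorem card_V2 : Nat.card (V2 S h27) ≤ 4 := by
  classical
  obtain ⟨u, -, -, -, hcases⟩ := V2_cases S h27
  show Nat.card (V2 S h27 : Set (RG S)) ≤ 4
  rw [Nat.card_coe_set_eq]
  refine le_trans (Set.ncard_le_ncard (t := ({1, tau S, u, tau S * u} : Set (RG S))) (fun v hv => hcases v hv)
    (Set.toFinite _)) ?_
  refine (Set.ncard_insert_le _ _).trans (Nat.succ_le_succ ((Set.ncard_insert_le _ _).trans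
    (Nat.succ_le_succ ((Set.ncard_insert_le _ _).trans (Nat.succ_le_succ (Set.ncard_singleton _).le)))))

/-- A four-group containing the involution is conjugate to the four-group of the second torus. -/
theorem four_conj {M : Subgroup (RG S)} (hM : Nat.card M = 4) (hM2 : ∀ x ∈ M, x * x = 1) (ht : tau S ∈ M) :
    ∃ d : RG S, M.map (MulAut.conj d).toMonoidHom = V2 S h27 := by
  classical
  haveI : Fact (Nat.Prime 2) := ⟨Nat.prime_two⟩
  obtain ⟨E, hME⟩ := (show IsPGroup 2 M from IsPGroup.iff_card.2 ⟨2, by rw [hM]; norm_num⟩).exists_le_sylow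
  obtain ⟨hE, hE2⟩ := sylow_two S E
  have htE : tau S ∈ (E : Subgroup (RG S)) := hME ht
  have hEC : (E : Subgroup (RG S)) ≤ Cent S := fun x hx => (mem_Cent S).2 (comm_of_sq hE2 hx htE)
  obtain ⟨u, hu, hu1, hut⟩ : ∃ u, u ∈ M ∧ u ≠ 1 ∧ u ≠ tau S := by
    by_contra h
    push Not at h
    have : Nat.card (M : Set (RG S)) ≤ 2 := by
      rw [Nat.card_coe_set_eq]
      refine le_trans (Set.ncard_le_ncard (t := ({1, tau S} : Set (RG S))) (fun v hv => ?_) (Set.toFinite _))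
        ((Set.ncard_insert_le _ _).trans (Nat.succ_le_succ (Set.ncard_singleton _).le))
      by_cases hv1 : v = 1
      · exact Or.inl hv1
      · exact Or.inr (h v hv hv1)
    have h4 : Nat.card (M : Set (RG S)) = 4 := hM
    omega
  obtain ⟨u₂, hu₂, hu₂1, hu₂t, -⟩ := V2_cases S h27
  have hV : V2 S h27 ≤ Cent S := fun v hv => (Z2_props S h27).1 hv.1
  obtain ⟨⟨c, hc⟩, hcV⟩ := pgroup_conj_into (G := ↥(Cent S)) (p := 2)
    (A := (E : Subgroup (RG S)).subgroupOf (Cent S)) (Q := (V2 S h27).subgroupOf (Cent S))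
    (by rw [factorization_Cent, Nat.card_congr (Subgroup.subgroupOfEquivOfLe hEC).toEquiv, hE]
        exact (fact_eight (k := 1) rfl odd_one).symm)
    (fun y => ⟨1, Subtype.ext (Subtype.ext (by
      show ((y.1 : ↥(Cent S)) : RG S) ^ 2 ^ 1 = 1
      rw [pow_one, pow_two]
      exact y.2.2))⟩)
  have hw : c⁻¹ * u₂ * c ∈ (E : Subgroup (RG S)) := hcV ⟨u₂, hV hu₂⟩ hu₂
  have hct : c * tau S * c⁻¹ = tau S := by rw [(mem_Cent S).1 hc, mul_inv_cancel_right]
  obtain ⟨n, hn, hnu⟩ := plane_move S h27 hEC htE hE hE2 (hME hu) hu1 hut hw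
    (fun e => hu₂1 (by rw [mul_assoc, inv_mul_eq_one, eq_comm, mul_eq_right] at e; exact e))
    (fun e => hu₂t (by
      rw [← hct, ← e]; group))
  have hnt : n * tau S * n⁻¹ = tau S := by rw [(mem_Cent S).1 hn.2, mul_inv_cancel_right]
  have htV : tau S ∈ V2 S h27 := ⟨tau_mem_Z2 S h27, tau_sq S⟩
  have h1 : (c * n) * tau S * (c * n)⁻¹ ∈ V2 S h27 := by
    rw [show c * n * tau S * (c * n)⁻¹ = c * (n * tau S * n⁻¹) * c⁻¹ by group, hnt, hct]
    exact htV
  have h2 : (c * n) * u * (c * n)⁻¹ ∈ V2 S h27 := by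
    rw [show c * n * u * (c * n)⁻¹ = c * (n * u * n⁻¹) * c⁻¹ by group]
    rcases hnu with e | e <;> rw [e]
    · rw [show c * (c⁻¹ * u₂ * c) * c⁻¹ = u₂ by group]; exact hu₂
    · rw [show c * (tau S * (c⁻¹ * u₂ * c)) * c⁻¹ = c * tau S * c⁻¹ * u₂ by group, hct]
      exact mul_mem htV hu₂
  refine ⟨c * n, Subgroup.eq_of_le_of_card_ge ?_ ?_⟩
  · set L := M ⊓ (V2 S h27).comap (MulAut.conj (c * n)).toMonoidHom with hL
    have hL4 : Nat.card L ∣ 4 := hM ▸ Subgroup.card_dvd_of_le inf_le_left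
    have h3 : 3 ≤ Nat.card L := by
      have hsub : ({1, tau S, u} : Set (RG S)) ⊆ (L : Set (RG S)) := by
        rintro x (rfl | rfl | rfl)
        exacts [one_mem _, ⟨ht, h1⟩, ⟨hu, h2⟩]
      have := Set.ncard_le_ncard hsub (Set.toFinite _)
      rw [Set.ncard_eq_three.2 ⟨1, tau S, u, (tau_ne S).symm, hu1.symm, hut.symm, rfl⟩] at this
      calc 3 ≤ (L : Set (RG S)).ncard := this
        _ = Nat.card L := (Nat.card_coe_set_eq _).symm
    have hL' : Nat.card L = 4 := by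
      have := Nat.le_of_dvd (by norm_num) hL4
      interval_cases h : Nat.card L
      · omega
      · rfl
    have e : L = M := Subgroup.eq_of_le_of_card_ge inf_le_left (by rw [hL', hM])
    rw [Subgroup.map_le_iff_le_comap, ← e]
    exact inf_le_right
  · rw [← Nat.card_congr (Subgroup.equivMapOfInjective M _ (MulAut.conj (c * n)).injective).toEquiv, hM]
    exact card_V2 S h27

theorem local_two {t₁ t₂ : ℕ} {M : Subgroup (RG S)} (hMp : IsPGroup 2 M) (h4 : 4 ≤ Nat.card M) :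
    ∃ A : Subgroup (RG S), Subgroup.normalizer (M : Set (RG S)) ≤ Subgroup.normalizer (A : Set (RG S)) ∧ Loc S t₁ t₂ A := by
  haveI : Fact (Nat.Prime 2) := ⟨Nat.prime_two⟩
  obtain ⟨P, hP⟩ := hMp.exists_le_sylow
  obtain ⟨hP8, hP2⟩ := sylow_two S P
  have h8 : Nat.card M ∣ 8 := hP8 ▸ Subgroup.card_dvd_of_le hP
  have hle := Nat.le_of_dvd (by norm_num) h8
  by_cases hM : Nat.card M = 4
  · obtain ⟨⟨t, ht⟩, ht1⟩ := Subgroup.ne_bot_iff_exists_ne_one.1 (show M ≠ ⊥ from fun h => by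
      rw [h, Subgroup.card_bot] at h4; omega)
    replace ht1 : t ≠ 1 := fun h => ht1 (Subtype.ext h)
    obtain ⟨c, hc⟩ := isConj_iff.1 (involutions_conj S (hP2 t (hP ht)) ht1)
    obtain ⟨d, hd⟩ := four_conj S h27 (M := M.map (MulAut.conj c⁻¹).toMonoidHom)
      (by rw [← Nat.card_congr (Subgroup.equivMapOfInjective M _ (MulAut.conj c⁻¹).injective).toEquiv, hM])
      (by
        rintro _ ⟨x, hx, rfl⟩
        rw [← map_mul, hP2 x (hP hx), map_one])
      ⟨t, ht, by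
        show c⁻¹ * t * c⁻¹⁻¹ = tau S
        rw [← hc]; group⟩
    refine ⟨(A2 S).map (MulAut.conj (c * d⁻¹)).toMonoidHom, normalizer_conj_le _ (le_of_eq ?_),
      loc_conj S (Or.inr (Or.inr ⟨cyclic_A2 S, Or.inr (Or.inl (card_A2 S))⟩)) _⟩
    rw [normalizer_A2_eq_V2 S h27, ← hd, map_conj_conj, _root_.mul_inv_rev, inv_inv]
  · refine ⟨M, le_rfl, Or.inl ⟨P, Subgroup.eq_of_le_of_card_ge hP ?_⟩⟩
    rw [hP8]
    interval_cases h : Nat.card M <;> omega

theorem local_pgroup {x₁ x₂ : RG S} (hx₁ : IsSinger S x₁) (hx₂ : IsSinger S x₂)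
    (hall : ∀ y, IsSinger S y → orderOf y ∣ Nat.card ↥(Tor S x₁) ∨ orderOf y ∣ Nat.card ↥(Tor S x₂))
    {p : ℕ} (hp : p.Prime) {M : Subgroup (RG S)} (hM1 : M ≠ ⊥) (hMp : IsPGroup p M)
    (hab : ∀ a ∈ M, ∀ b ∈ M, a * b = b * a) (h4 : p = 2 → 4 ≤ Nat.card M) :
    ∃ A : Subgroup (RG S), Subgroup.normalizer (M : Set (RG S)) ≤ Subgroup.normalizer (A : Set (RG S)) ∧
      Loc S (Nat.card ↥(Tor S x₁)) (Nat.card ↥(Tor S x₂)) A := by
  rcases eq_or_ne p 2 with rfl | hp2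
  · exact local_two S h27 hMp (h4 rfl)
  rcases eq_or_ne p 3 with rfl | hp3
  · exact local_three S hM1 hMp hab
  haveI : Fact p.Prime := ⟨hp⟩
  -- reduce to a torus
  have key : ∀ {T : Subgroup (RG S)}, (Nat.card (RG S)).factorization p = (Nat.card T).factorization p →
      (∀ B : Subgroup (RG S), B ≤ T → B ≠ ⊥ →
        Subgroup.normalizer (B : Set (RG S)) = Subgroup.normalizer (T : Set (RG S))) →
      Loc S (Nat.card ↥(Tor S x₁)) (Nat.card ↥(Tor S x₂)) T →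
      ∃ A : Subgroup (RG S), Subgroup.normalizer (M : Set (RG S)) ≤ Subgroup.normalizer (A : Set (RG S)) ∧
        Loc S (Nat.card ↥(Tor S x₁)) (Nat.card ↥(Tor S x₂)) A := by
    intro T hfac hnorm hloc
    obtain ⟨g, hg⟩ := pgroup_conj_into hfac hMp
    refine ⟨T.map (MulAut.conj g).toMonoidHom, normalizer_conj_le g (le_of_eq (hnorm _ ?_ ?_)), loc_conj S hloc g⟩
    · rintro _ ⟨x, hx, rfl⟩
      show g⁻¹ * x * g⁻¹⁻¹ ∈ T
      rw [inv_inv]
      exact hg x hx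
    · exact fun h => hM1 ((Subgroup.map_eq_bot_iff_of_injective _ (MulAut.conj g⁻¹).injective).1 h)
  have hpG : p ∣ Nat.card (RG S) := by
    obtain ⟨k, hk⟩ := IsPGroup.iff_card.1 hMp
    have hk0 : k ≠ 0 := fun h0 => hM1 (Subgroup.card_eq_one.1 (by rw [hk, h0, pow_zero]))
    exact (dvd_pow_self p hk0).trans (hk ▸ Subgroup.card_subgroup_dvd_card M)
  rw [card_split] at hpG
  rcases hp.dvd_mul.1 hpG with h | h
  · rcases hp.dvd_mul.1 h with h | h
    · rcases hp.dvd_mul.1 h with h | h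
      · exfalso
        rcases hp.dvd_mul.1 h with h | h
        · exact hp2 ((Nat.prime_dvd_prime_iff_eq hp Nat.prime_two).1 (hp.dvd_of_dvd_pow (show p ∣ 2 ^ 3 from h)))
        · rw [card_K S, ← pow_mul] at h
          exact hp3 ((Nat.prime_dvd_prime_iff_eq hp Nat.prime_three).1 (hp.dvd_of_dvd_pow h))
      · exact key (fac_A1 S hp h) (fun B hB hB1 => normalizer_A1 S hB hB1)
          (Or.inr (Or.inr ⟨cyclic_A1 S, Or.inl (by have := card_A1 S; omega)⟩))
    · exact key (fac_A2 S hp h) (fun B hB hB1 => normalizer_A2 S h27 hB hB1)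
        (Or.inr (Or.inr ⟨cyclic_A2 S, Or.inr (Or.inl (card_A2 S))⟩))
  · obtain ⟨y, hy, hyo⟩ := exists_singer S hp h
    rcases hall y hy with hd | hd <;> rw [hyo] at hd
    · exact key (tor_hall S h27 hx₁ hp hd) (fun B hB hB1 => tor_normalizer S h27 hx₁ hB hB1)
        (Or.inr (Or.inr ⟨tor_cyclic S h27 hx₁, Or.inr (Or.inr (Or.inl rfl))⟩))
    · exact key (tor_hall S h27 hx₂ hp hd) (fun B hB hB1 => tor_normalizer S h27 hx₂ hB hB1)
        (Or.inr (Or.inr ⟨tor_cyclic S h27 hx₂, Or.inr (Or.inr (Or.inr rfl))⟩))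

/-- A solvable subgroup of the centraliser of the involution. -/
theorem solvable_Cent {x₁ x₂ : RG S} (hx₁ : IsSinger S x₁) (hx₂ : IsSinger S x₂)
    (hall : ∀ y, IsSinger S y → orderOf y ∣ Nat.card ↥(Tor S x₁) ∨ orderOf y ∣ Nat.card ↥(Tor S x₂))
    {X : Subgroup (RG S)} (hXC : X ≤ Cent S) (hX : Group.IsSolvable X) :
    ∃ A : Subgroup (RG S), X ≤ Subgroup.normalizer (A : Set (RG S)) ∧
      Loc S (Nat.card ↥(Tor S x₁)) (Nat.card ↥(Tor S x₂)) A := by
  haveI : Fact (Nat.Prime 2) := ⟨Nat.prime_two⟩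
  rcases central_local (fC S) (fun a b h => commute_of_fC S h) (card_comap_fC S) hXC hX with
    h1 | ⟨p, M, hp, hM1, hMp, hab, h4, hXM⟩
  · obtain ⟨E, hEC, ht, hE, -⟩ := exists_E S
    let P : Sylow 2 (RG S) := Sylow.ofCard E (by rw [hE, factorization_group]; norm_num)
    refine ⟨E, fun x hx => Subgroup.le_normalizer ?_, Or.inl ⟨P, rfl⟩⟩
    rcases (fC_eq_one S).1 (h1 ⟨x, hx⟩) with h | h
    · rw [show x = 1 from h]; exact one_mem _
    · rw [show x = tau S from h]; exact ht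
  · obtain ⟨A, hA, hloc⟩ := local_pgroup S h27 hx₁ hx₂ hall hp hM1 hMp hab h4
    exact ⟨A, hXM.trans hA, hloc⟩

/-- Every solvable subgroup lies in a local subgroup. -/
theorem solvable_local {x₁ x₂ : RG S} (hx₁ : IsSinger S x₁) (hx₂ : IsSinger S x₂)
    (hall : ∀ y, IsSinger S y → orderOf y ∣ Nat.card ↥(Tor S x₁) ∨ orderOf y ∣ Nat.card ↥(Tor S x₂))
    {X : Subgroup (RG S)} (hX : Group.IsSolvable X) :
    ∃ A : Subgroup (RG S), X ≤ Subgroup.normalizer (A : Set (RG S)) ∧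
      Loc S (Nat.card ↥(Tor S x₁)) (Nat.card ↥(Tor S x₂)) A := by
  haveI : Fact (Nat.Prime 2) := ⟨Nat.prime_two⟩
  by_cases hbot : X = ⊥
  · obtain ⟨P⟩ : Nonempty (Sylow 2 (RG S)) := inferInstance
    exact ⟨P, by rw [hbot]; exact bot_le, Or.inl ⟨P, rfl⟩⟩
  obtain ⟨p, M, hp, -, hM1, hMp, hab, hXM⟩ := exists_local hX hbot
  by_cases h4 : p = 2 → 4 ≤ Nat.card M
  · obtain ⟨A, hA, hloc⟩ := local_pgroup S h27 hx₁ hx₂ hall hp hM1 hMp hab h4
    exact ⟨A, hXM.trans hA, hloc⟩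
  push Not at h4
  obtain ⟨rfl, h4⟩ := h4
  obtain ⟨k, hk⟩ := IsPGroup.iff_card.1 hMp
  have hk0 : k ≠ 0 := fun h0 => hM1 (Subgroup.card_eq_one.1 (by rw [hk, h0, pow_zero]))
  have hk1 : k = 1 := by
    by_contra hne
    have : 2 ^ 2 ≤ 2 ^ k := Nat.pow_le_pow_right (by norm_num) (by omega)
    omega
  subst hk1
  rw [pow_one, Nat.card_eq_two_iff' (1 : M)] at hk
  obtain ⟨⟨t, ht⟩, ht1, huniq⟩ := hk
  replace ht1 : t ≠ 1 := fun h => ht1 (Subtype.ext h)
  have hcent : ∀ x ∈ X, x * t = t * x := fun x hx => by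
    have hm := (Subgroup.mem_normalizer_iff.1 (hXM hx) t).1 ht
    have := congrArg Subtype.val (huniq ⟨_, hm⟩ (fun e => ht1 (conj_eq_one_iff.1 (congrArg Subtype.val e))))
    exact mul_inv_eq_iff_eq_mul.1 this
  have ht2 : t * t = 1 := by
    have hsq := pow_card_eq_one' (x := (⟨t, ht⟩ : M))
    rw [(Nat.card_eq_two_iff' (1 : M)).2 ⟨⟨t, ht⟩, fun e => ht1 (congrArg Subtype.val e), huniq⟩, pow_two] at hsq
    exact congrArg Subtype.val hsq
  obtain ⟨c, hc⟩ := isConj_iff.1 (involutions_conj S ht2 ht1)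
  let f : ↥X →* RG S := (MulAut.conj c⁻¹).toMonoidHom.comp X.subtype
  haveI := hX
  obtain ⟨A, hA, hloc⟩ := solvable_Cent S h27 hx₁ hx₂ hall (X := f.range)
    (by
      rintro _ ⟨⟨x, hx⟩, rfl⟩
      refine (mem_Cent S).2 ?_
      show c⁻¹ * x * c⁻¹⁻¹ * tau S = tau S * (c⁻¹ * x * c⁻¹⁻¹)
      calc c⁻¹ * x * c⁻¹⁻¹ * tau S = c⁻¹ * (x * (c * tau S * c⁻¹)) * c := by group
        _ = c⁻¹ * ((c * tau S * c⁻¹) * x) * c := by rw [hc, hcent x hx]
        _ = _ := by group)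
    (Group.isSolvable_of_surjective f.rangeRestrict_surjective)
  refine ⟨A.map (MulAut.conj c).toMonoidHom, fun x hx => mem_normalizer_map_conj ?_, loc_conj S hloc c⟩
  have h2 : c⁻¹ * x * c⁻¹⁻¹ ∈ Subgroup.normalizer (A : Set (RG S)) := hA ⟨⟨x, hx⟩, rfl⟩
  rwa [inv_inv] at h2

end Cfsg.Agent.Small.Ree
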