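import Cfsg.Agent.Lib.Small.Ree.CentInv
import Cfsg.Agent.Lib.Classical.SL2FourSylow

/-!
The small Ree groups: Sylow 2-subgroups, and the centraliser of an involution as a direct product.
-/

set_option autoImplicit false
set_option synthInstance.maxHeartbeats 400000
set_option maxHeartbeats 1600000
set_option maxRecDepth 4000
set_option linter.style.haveILetI false

namespace Cfsg.Agent.Small.Ree

open Cfsg Cfsg.Lie Cfsg.Agent.Lie Cfsg.Agent.Lie.Twist Matrix
open scoped MatrixGroups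
open Cfsg.Agent.Lie.G2 (Os Setup)
open Cfsg.Agent.Small.TwistAut Cfsg.Agent.Small.TwistAut.G2

variable {K : Type*} [Field K] [Fintype K] {m : ℕ} (S : Setup K m)

theorem fact_eight {n k : ℕ} (hn : n = 8 * k) (hk : Odd k) : n.factorization 2 = 3 := by
  have h8 : (8 : ℕ) = 2 ^ 3 := rfl
  rw [hn, Nat.factorization_mul (by norm_num) hk.pos.ne', Finsupp.add_apply, h8,
    Nat.Prime.factorization_pow Nat.prime_two, Finsupp.single_eq_same,
    Nat.factorization_eq_zero_of_not_dvd (fun h => (Nat.not_even_iff_odd.2 hk) (even_iff_two_dvd.2 h)), add_zero]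

include S in
theorem exists_halves : ∃ a b : ℕ, Odd a ∧ Odd b ∧ Fintype.card K - 1 = 2 * a ∧ Fintype.card K + 1 = 4 * b := by
  have h := card_mod_eight S
  exact ⟨(Fintype.card K - 1) / 2, (Fintype.card K + 1) / 4, Nat.odd_iff.2 (by omega), Nat.odd_iff.2 (by omega),
    by omega, by omega⟩

include S in
theorem odd_card : Odd (Fintype.card K) := Nat.odd_iff.2 (by have := card_mod_eight S; omega)

theorem factorization_Cent : (Nat.card ↥(Cent S)).factorization 2 = 3 := by
  obtain ⟨a, b, ha, hb, h1, h2⟩ := exists_halves S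
  refine fact_eight (k := Fintype.card K * (a * b)) ?_ ((odd_card S).mul (ha.mul hb))
  rw [card_Cent, h1, h2]
  ring

theorem factorization_group : (Nat.card (RG S)).factorization 2 = 3 := by
  obtain ⟨a, b, ha, hb, h1, h2⟩ := exists_halves S
  have hq : Fintype.card K = 3 ^ (2 * m + 1) := card_K S
  obtain ⟨c, hc, h3⟩ : ∃ c : ℕ, Odd c ∧ Fintype.card K ^ 3 + 1 = (Fintype.card K + 1) * c := by
    obtain ⟨t, ht⟩ := odd_card S
    refine ⟨4 * t * t + 2 * t + 1, ⟨2 * t * t + t, by ring⟩, ?_⟩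
    rw [ht]; ring
  refine fact_eight (k := Fintype.card K ^ 3 * (a * (b * c))) ?_
    ((odd_card S).pow.mul (ha.mul (hb.mul hc)))
  show Nat.card ↥(twistedG2 K (3 ^ m)) = _
  rw [S.card_group, ← hq, h1, h3, h2]
  ring

/-- In the centraliser, an element whose square is trivial on the fixed points squares to one. -/
theorem sq_eq_one {c : ↥(Cent S)} (h : rhoR S c * rhoR S c = 1) : c * c = 1 := by
  by_cases h1 : rhoR S c = 1
  · rcases (rho_eq_one S).1 (congrArg Subtype.val h1) with h2 | h2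
    · exact Subtype.ext (by rw [Subgroup.coe_mul, h2, one_mul, Subgroup.coe_one])
    · exact Subtype.ext (by rw [Subgroup.coe_mul, h2, tau_sq, Subgroup.coe_one])
  obtain ⟨x, hx⟩ : ∃ x : Ft S, c • x ≠ x := by
    by_contra hh
    exact h1 (Subtype.ext (Equiv.ext fun x => by_contra fun hx => hh ⟨x, hx⟩))
  have hcx : c • c • x = x := by
    rw [← rhoR_smul, ← rhoR_smul, smul_smul, h, one_smul]
  obtain ⟨k, hk1, hk2⟩ := move_Ft S (Ne.symm hx)
  obtain ⟨z, hz⟩ := swap_eq S (g := ((k⁻¹ * c * k : ↥(Cent S)) : RG S))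
    (congrArg Subtype.val (show (k⁻¹ * c * k) • aI S = aO S by
      rw [mul_smul, mul_smul, hk1, inv_smul_eq_iff, hk2]))
    (congrArg Subtype.val (show (k⁻¹ * c * k) • aO S = aI S by
      rw [mul_smul, mul_smul, hk2, hcx, inv_smul_eq_iff, hk1]))
  have h2 : (k⁻¹ * c * k) * (k⁻¹ * c * k) = 1 := Subtype.ext (by rw [Subgroup.coe_mul, hz]; exact nn_tz_sq S z)
  calc c * c = k * ((k⁻¹ * c * k) * (k⁻¹ * c * k)) * k⁻¹ := by group
    _ = 1 := by rw [h2]; group

/-- The elements of two-power order in the centraliser are involutions. -/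
theorem two_elt {c : ↥(Cent S)} {j : ℕ} (hc : c ^ 2 ^ j = 1) : c * c = 1 := by
  classical
  haveI : Fact (Nat.Prime 2) := ⟨Nat.prime_two⟩
  obtain ⟨e⟩ := Cb_equiv S
  refine sq_eq_one S (e.injective ?_)
  have hy : e (rhoR S c) ^ 2 ^ j = 1 := by rw [← map_pow, ← map_pow, hc, map_one, map_one]
  have hp : IsPGroup 2 ↥(Subgroup.zpowers (e (rhoR S c))) := by
    rintro ⟨w, hw⟩
    obtain ⟨i, rfl⟩ := Subgroup.mem_zpowers_iff.1 hw
    exact ⟨j, Subtype.ext (by
      show (e (rhoR S c) ^ i) ^ 2 ^ j = 1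
      rw [← zpow_natCast, ← _root_.zpow_mul, mul_comm, _root_.zpow_mul, zpow_natCast, hy, _root_.one_zpow])⟩
  obtain ⟨Q, hQ⟩ := hp.exists_le_sylow
  have hk := Classical.SL2Four.sylow_psl_klein (two_ne S) (Or.inl (card_mod_eight S)) Q
  rw [map_mul, map_one]
  have h2 := Monoid.pow_exponent_eq_one
    (⟨e (rhoR S c), hQ (Subgroup.mem_zpowers _)⟩ : ↥(Q : Subgroup _))
  rw [hk.exponent_two, pow_two] at h2
  exact congrArg Subtype.val h2

theorem exists_E : ∃ E : Subgroup (RG S), E ≤ Cent S ∧ tau S ∈ E ∧ Nat.card E = 8 ∧ ∀ x ∈ E, x * x = 1 := by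
  classical
  haveI : Fact (Nat.Prime 2) := ⟨Nat.prime_two⟩
  obtain ⟨P, hP⟩ := (show IsPGroup 2 ↥(Subgroup.zpowers (⟨tau S, tau_mem_Cent S⟩ : ↥(Cent S))) from by
    rintro ⟨w, hw⟩
    obtain ⟨i, rfl⟩ := Subgroup.mem_zpowers_iff.1 hw
    exact ⟨1, Subtype.ext (Subtype.ext (by
      show (tau S ^ i) ^ 2 ^ 1 = 1
      rw [pow_one, ← zpow_natCast, ← _root_.zpow_mul, mul_comm, _root_.zpow_mul, zpow_natCast, pow_two, tau_sq, _root_.one_zpow]))⟩).exists_le_sylow
  refine ⟨(P : Subgroup ↥(Cent S)).map (Cent S).subtype, Subgroup.map_subtype_le _,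
    ⟨_, hP (Subgroup.mem_zpowers _), rfl⟩, ?_, ?_⟩
  · rw [← Nat.card_congr ((P : Subgroup ↥(Cent S)).equivMapOfInjective _ Subtype.val_injective).toEquiv,
      P.card_eq_multiplicity, factorization_Cent]
    norm_num
  · rintro _ ⟨c, hc, rfl⟩
    obtain ⟨j, hj⟩ := P.2 ⟨c, hc⟩
    exact congrArg Subtype.val (two_elt S (c := c) (congrArg Subtype.val hj))

/-- The Sylow 2-subgroups are elementary abelian of order eight. -/
theorem sylow_two (P : Sylow 2 (RG S)) : Nat.card P = 8 ∧ ∀ x ∈ P, x * x = 1 := by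
  haveI : Fact (Nat.Prime 2) := ⟨Nat.prime_two⟩
  have hcard : Nat.card P = 8 := by rw [P.card_eq_multiplicity, factorization_group]; norm_num
  refine ⟨hcard, fun x hx => ?_⟩
  obtain ⟨E, -, -, hE, hEx⟩ := exists_E S
  obtain ⟨g, hg⟩ := MulAction.exists_smul_eq (RG S) (Sylow.ofCard E (by rw [hE, factorization_group]; norm_num)) P
  have h2 : x ∈ (P : Subgroup (RG S)) := hx
  rw [← hg, Sylow.coe_subgroup_smul, Subgroup.mem_pointwise_smul_iff_inv_smul_mem, ← map_inv,
    MulAut.smul_def, MulAut.conj_apply, inv_inv] at h2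
  calc x * x = g * ((g⁻¹ * x * g) * (g⁻¹ * x * g)) * g⁻¹ := by group
    _ = 1 := by rw [hEx _ h2]; group

open scoped IsMulCommutative in
/-- A retraction onto the group generated by the involution. -/
theorem exists_retraction :
    ∃ T : ↥(Cent S) →* Multiplicative (ZMod 2), T ⟨tau S, tau_mem_Cent S⟩ = Multiplicative.ofAdd 1 := by
  classical
  haveI : Fact (Nat.Prime 2) := ⟨Nat.prime_two⟩
  set τ : ↥(Cent S) := ⟨tau S, tau_mem_Cent S⟩ with hτ
  have hτ2 : τ ^ 2 = 1 := Subtype.ext (by rw [pow_two]; exact tau_sq S)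
  have hcen : ∀ c : ↥(Cent S), c * τ = τ * c := fun c => Subtype.ext ((mem_Cent S).1 c.2)
  obtain ⟨P, hP⟩ := (show IsPGroup 2 ↥(Subgroup.zpowers τ) from by
    rintro ⟨w, hw⟩
    obtain ⟨i, rfl⟩ := Subgroup.mem_zpowers_iff.1 hw
    exact ⟨1, Subtype.ext (by
      show (τ ^ i) ^ 2 ^ 1 = 1
      rw [pow_one, ← zpow_natCast, ← _root_.zpow_mul, mul_comm, _root_.zpow_mul, zpow_natCast, hτ2, _root_.one_zpow])⟩).exists_le_sylow
  have hτP : τ ∈ (P : Subgroup ↥(Cent S)) := hP (Subgroup.mem_zpowers _)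
  have hexp : ∀ x : (P : Subgroup ↥(Cent S)), x * x = 1 := fun x => by
    obtain ⟨j, hj⟩ := P.2 x
    exact Subtype.ext (two_elt S (c := x.1) (congrArg Subtype.val hj))
  have hinv : ∀ x : (P : Subgroup ↥(Cent S)), x⁻¹ = x := fun x => inv_eq_of_mul_eq_one_right (hexp x)
  have hcomm : ∀ x y : (P : Subgroup ↥(Cent S)), x * y = y * x := fun x y => by
    rw [← hinv (x * y), _root_.mul_inv_rev, hinv, hinv]
  letI : CommGroup (P : Subgroup ↥(Cent S)) := { (inferInstance : Group (P : Subgroup ↥(Cent S))) with mul_comm := hcomm }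
  letI : Module (ZMod 2) (Additive (P : Subgroup ↥(Cent S))) := AddCommGroup.zmodModule fun x => by
    rw [two_nsmul]; exact hexp (Additive.toMul x)
  set v : Additive (P : Subgroup ↥(Cent S)) := Additive.ofMul ⟨τ, hτP⟩ with hv
  have hv0 : v ≠ 0 := fun h => tau_ne S (congrArg (fun c => ((c.1 : ↥(Cent S)) : RG S)) (congrArg Additive.toMul h))
  obtain ⟨g, hg⟩ := LinearMap.exists_leftInverse_of_injective (LinearMap.toSpanSingleton (ZMod 2) _ v)
    (LinearMap.ker_toSpanSingleton (ZMod 2) hv0)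
  have hg1 : g v = 1 := by
    have := LinearMap.congr_fun hg (1 : ZMod 2)
    rwa [LinearMap.comp_apply, LinearMap.toSpanSingleton_apply, one_smul, LinearMap.id_apply] at this
  let φ₀ : (P : Subgroup ↥(Cent S)) →* Multiplicative (ZMod 2) :=
    AddMonoidHom.toMultiplicativeRight g.toAddMonoidHom
  haveI : (P : Subgroup ↥(Cent S)).FiniteIndex := inferInstance
  set T := MonoidHom.transfer φ₀
  have hT : T τ = Multiplicative.ofAdd 1 := by
    have hpow : ∀ (k : ℕ) (g₀ : ↥(Cent S)), g₀⁻¹ * τ ^ k * g₀ ∈ (P : Subgroup ↥(Cent S)) →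
        g₀⁻¹ * τ ^ k * g₀ = τ ^ k := fun k g₀ _ => by
      rw [mul_assoc, ← (((show Commute g₀ τ from hcen g₀).pow_right k).eq), inv_mul_cancel_left]
    rw [show T τ = φ₀ _ from MonoidHom.transfer_eq_pow φ₀ τ hpow]
    have hodd : Odd (P : Subgroup ↥(Cent S)).index := by
      rw [← Nat.not_even_iff_odd, even_iff_two_dvd]
      exact P.not_dvd_index
    obtain ⟨k, hk⟩ := hodd
    rw [show (⟨τ ^ (P : Subgroup ↥(Cent S)).index, _⟩ : (P : Subgroup ↥(Cent S))) = ⟨τ, hτP⟩ from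
      Subtype.ext (show τ ^ _ = τ by rw [hk, pow_add, pow_mul, hτ2, one_pow, one_mul, pow_one])]
    exact congrArg Multiplicative.ofAdd hg1
  exact ⟨T, hT⟩

/-- The centraliser of the involution splits. -/
theorem Cent_equiv : Nonempty (↥(Cent S) ≃* Multiplicative (ZMod 2) × Matrix.ProjectiveSpecialLinearGroup (Fin 2) K) := by
  obtain ⟨T, hT⟩ := exists_retraction S
  set τ : ↥(Cent S) := ⟨tau S, tau_mem_Cent S⟩ with hτ
  obtain ⟨e⟩ := Cb_equiv S
  set Φ : ↥(Cent S) →* Multiplicative (ZMod 2) × ↥(Cb S) := T.prod (rhoR S) with hΦ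
  have hinj : Function.Injective Φ := by
    rw [← MonoidHom.ker_eq_bot_iff, Subgroup.eq_bot_iff_forall]
    intro c hc
    obtain ⟨h1, h2⟩ := Prod.ext_iff.1 (MonoidHom.mem_ker.1 hc)
    rcases (rho_eq_one S).1 (congrArg Subtype.val h2) with h | h
    · exact Subtype.ext h
    · rw [show c = τ from Subtype.ext h] at h1
      exact absurd (hT.symm.trans h1) fun h => one_ne_zero (α := ZMod 2) (congrArg Multiplicative.toAdd h)
  have hbij : Function.Bijective Φ := (Nat.bijective_iff_injective_and_card Φ).2 ⟨hinj, by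
    rw [Nat.card_prod, card_Cent, ← card_Cb, Nat.card_congr Multiplicative.toAdd, Nat.card_zmod]⟩
  exact ⟨(MulEquiv.ofBijective Φ hbij).trans ((MulEquiv.refl _).prodCongr e)⟩

/-- An involution of the diagonal subgroup is the torus involution. -/
theorem eq_tau {a : RG S} (ha : a ∈ H1 S.data) (h1 : a ≠ 1) (h2 : a * a = 1) : a = tau S := by
  obtain ⟨z, rfl⟩ := (mem_H1_iff S).1 ha
  rw [← map_mul, ← map_one (tz S), (tz_inj S).eq_iff, ← pow_two] at h2
  rcases unit_sq h2 with rfl | rfl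
  · exact absurd (map_one _) h1
  · rfl

end Cfsg.Agent.Small.Ree
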