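import Cfsg.Agent.Lib.Small.Ree.EFour

/-!
The small Ree groups: 3-elements, and the split torus with its normaliser.
-/

set_option autoImplicit false
set_option synthInstance.maxHeartbeats 400000
set_option maxHeartbeats 1600000
set_option maxRecDepth 4000
set_option linter.style.haveILetI false

namespace Cfsg.Agent.Small.Ree

open Cfsg Cfsg.Lie Cfsg.Agent.Lie Cfsg.Agent.Lie.Twist Matrix
open scoped MatrixGroups
open Cfsg.Agent.Lie.G2 (Os Setup)
open Cfsg.Agent.Small.TwistAut Cfsg.Agent.Small.TwistAut.G2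

variable {K : Type*} [Field K] [Fintype K] {m : ℕ} (S : Setup K m)

theorem card_U1 : Nat.card ↥(U1 S.data) = Fintype.card K ^ 3 := by
  let f : K × K × K → ↥(U1 S.data) := fun x =>
    ⟨P S x.1 x.2.1 x.2.2, (mem_U1_iff S).2 ⟨_, _, _, rfl⟩⟩
  have hf : Function.Bijective f := by
    refine ⟨fun x y h => ?_, fun g => ?_⟩
    · obtain ⟨h1, h2, h3⟩ := P_inj S (congrArg Subtype.val h)
      exact Prod.ext h1 (Prod.ext h2 h3)
    · obtain ⟨t, u, v, h⟩ := (mem_U1_iff S).1 g.2
      exact ⟨(t, u, v), Subtype.ext h.symm⟩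
  rw [← Nat.card_eq_of_bijective _ hf, Nat.card_prod, Nat.card_prod, Nat.card_eq_fintype_card]
  ring

theorem card_BB : Nat.card ↥(BB S) = Fintype.card K ^ 3 * (Fintype.card K - 1) := by
  let f : (K × K × K) × Kˣ → ↥(BB S) := fun x =>
    ⟨P S x.1.1 x.1.2.1 x.1.2.2 * tz S x.2, mul_mem (P_mem_BB S _ _ _) (tz_mem_BB S _)⟩
  have hf : Function.Bijective f := by
    refine ⟨fun x y h => ?_, fun g => ?_⟩
    · obtain ⟨h1, h2, h3, h4⟩ := BB_unique S (congrArg Subtype.val h)
      exact Prod.ext (Prod.ext h1 (Prod.ext h2 h3)) h4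
    · obtain ⟨t, u, v, z, h⟩ := (exists_BB S).1 g.2
      exact ⟨((t, u, v), z), Subtype.ext h.symm⟩
  rw [← Nat.card_eq_of_bijective _ hf, Nat.card_prod, Nat.card_prod, Nat.card_prod, Nat.card_units,
    Nat.card_eq_fintype_card]
  ring

theorem fix_conj_BB {g : RG S} {x : Pt S} (h : g • x = x) : ∃ a : RG S, a⁻¹ * g * a ∈ BB S := by
  obtain ⟨a, rfl⟩ := MulAction.exists_smul_eq (RG S) (infty S) x
  exact ⟨a, (fix_infty S).1 (by rw [mul_smul, mul_smul, h, inv_smul_smul])⟩

theorem fix_order {g : RG S} {x : Pt S} (h : g • x = x) :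
    orderOf g ∣ Fintype.card K ^ 3 * (Fintype.card K - 1) := by
  obtain ⟨a, ha⟩ := fix_conj_BB S h
  have h1 : orderOf (a⁻¹ * g * a) = orderOf g :=
    orderOf_injective (MulAut.conj a⁻¹).toMonoidHom (MulAut.conj a⁻¹).injective g |>.symm |> fun e => by
      simpa [mul_assoc] using e.symm
  rw [← h1, ← card_BB S, ← Subgroup.orderOf_mk _ ha]
  exact orderOf_dvd_natCard _

/-- The order of the group over the part prime to three. -/
theorem factorization_three : (Nat.card (RG S)).factorization 3 = 3 * (2 * m + 1) := by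
  have hq : Fintype.card K = 3 ^ (2 * m + 1) := card_K S
  show (Nat.card ↥(twistedG2 K (3 ^ m))).factorization 3 = _
  have h3 : Fintype.card K % 3 = 0 := by rw [hq, pow_succ]; simp
  have hpos : 0 < Fintype.card K := Fintype.card_pos
  have hnd : ¬ 3 ∣ (Fintype.card K - 1) * (Fintype.card K ^ 3 + 1) := by
    rw [Nat.prime_three.dvd_mul]
    rintro (h | h)
    · omega
    · have : 3 ∣ Fintype.card K ^ 3 := dvd_pow (Nat.dvd_of_mod_eq_zero h3) (by norm_num)
      omega
  have hne : (Fintype.card K - 1) * (Fintype.card K ^ 3 + 1) ≠ 0 := fun h0 => hnd (by rw [h0]; exact dvd_zero 3)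
  rw [S.card_group, ← hq, mul_assoc,
    Nat.factorization_mul (pow_ne_zero _ hpos.ne') hne, Finsupp.add_apply,
    Nat.factorization_eq_zero_of_not_dvd hnd, hq, ← pow_mul, Nat.prime_three.factorization_pow,
    Finsupp.single_eq_same, add_zero, mul_comm]

/-- The unipotent subgroup as a Sylow subgroup. -/
noncomputable def sylU : Sylow 3 (RG S) :=
  haveI : Fact (Nat.Prime 3) := ⟨Nat.prime_three⟩
  Sylow.ofCard (U1 S.data) (by rw [card_U1, factorization_three, card_K S, ← pow_mul, mul_comm])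

theorem U_fix_only {g : RG S} (hg : g ∈ U1 S.data) (hg1 : g ≠ 1) {x : Pt S} (h : g • x = x) :
    x = infty S := by
  obtain ⟨t, u, v, rfl⟩ := (mem_U1_iff S).1 hg
  rcases pt_cases S x with rfl | ⟨a, b, c, rfl⟩
  · rfl
  exfalso
  obtain ⟨a', b', c', he⟩ := mul_U S ⟨t, u, v, rfl⟩ ⟨a, b, c, rfl⟩
  rw [smul_smul, he] at h
  obtain ⟨rfl, rfl, rfl⟩ := P_smul_inj S h
  exact hg1 (mul_eq_right.1 he)

/-- A nontrivial 3-element fixes exactly one point. -/
theorem three_unique {g : RG S} (hg1 : g ≠ 1) {j : ℕ} (hg : g ^ 3 ^ j = 1) :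
    ∃ x : Pt S, g • x = x ∧ ∀ y : Pt S, g • y = y → y = x := by
  haveI : Fact (Nat.Prime 3) := ⟨Nat.prime_three⟩
  have hp : IsPGroup 3 ↥(Subgroup.zpowers g) := by
    rintro ⟨w, hw⟩
    obtain ⟨i, rfl⟩ := Subgroup.mem_zpowers_iff.1 hw
    exact ⟨j, Subtype.ext (by
      show (g ^ i) ^ 3 ^ j = 1
      rw [← zpow_natCast, ← _root_.zpow_mul, mul_comm, _root_.zpow_mul, zpow_natCast, hg, _root_.one_zpow])⟩
  obtain ⟨Q, hQ⟩ := hp.exists_le_sylow
  obtain ⟨a, ha⟩ := MulAction.exists_smul_eq (RG S) (sylU S) Q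
  have h2 : g ∈ (Q : Subgroup (RG S)) := hQ (Subgroup.mem_zpowers g)
  rw [← ha, Sylow.coe_subgroup_smul, Subgroup.mem_pointwise_smul_iff_inv_smul_mem, ← map_inv,
    MulAut.smul_def, MulAut.conj_apply, inv_inv] at h2
  have h3 : a⁻¹ * g * a ∈ U1 S.data := h2
  have h4 : a⁻¹ * g * a ≠ 1 := fun h => hg1 (by
    rw [mul_assoc, inv_mul_eq_one, eq_comm, mul_eq_right] at h; exact h)
  obtain ⟨t, u, v, h5⟩ := (mem_U1_iff S).1 h3
  refine ⟨a • infty S, ?_, fun y hy => ?_⟩
  · have := P_smul_infty S t u v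
    rw [← h5, mul_smul, mul_smul, inv_smul_eq_iff] at this
    exact this
  · have := U_fix_only S h3 h4 (x := a⁻¹ • y) (by rw [mul_smul, mul_smul, smul_inv_smul, hy])
    rw [← this, smul_inv_smul]

/-! ### The split torus -/

/-- The torus. -/
noncomputable def HH : Subgroup (RG S) := (tz S).range

theorem mem_HH {g : RG S} : g ∈ HH S ↔ ∃ z, tz S z = g := Iff.rfl

theorem card_HH : Nat.card ↥(HH S) = Fintype.card K - 1 := by
  rw [HH, ← Nat.card_congr (MonoidHom.ofInjective (tz_inj S)).toEquiv, Nat.card_units, Nat.card_eq_fintype_card]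

theorem cyclic_HH : IsCyclic ↥(HH S) :=
  isCyclic_of_surjective _ (tz S).rangeRestrict_surjective

theorem tz_fix_only {z : Kˣ} (hz : z ^ 2 ≠ 1) {x : Pt S} (h : tz S z • x = x) :
    x = infty S ∨ x = zero S := by
  by_contra hx
  rw [not_or] at hx
  have hz1 : z ≠ 1 := fun e => hz (by rw [e, one_pow])
  rcases fix_three S (tz_smul_infty S z) (tz_smul_zero S z) hx.1 hx.2 h with h1 | ⟨h1, -⟩
  · exact hz1 (tz_inj S (h1.trans (map_one _).symm))
  · exact hz (by rw [tz_inj S h1, neg_one_sq])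

theorem nn_tz_inverts (z : Kˣ) {g : RG S} (hg : g ∈ HH S) :
    (nn S * tz S z) * g * (nn S * tz S z)⁻¹ = g⁻¹ := by
  obtain ⟨a, rfl⟩ := hg
  calc nn S * tz S z * tz S a * (nn S * tz S z)⁻¹ =
      nn S * (tz S z * tz S a * (tz S z)⁻¹) * (nn S)⁻¹ := by group
    _ = _ := by rw [← map_mul, mul_comm z, map_mul, mul_inv_cancel_right, nn_tz, mul_inv_cancel_right]

/-- The odd part of the torus. -/
noncomputable def A1 : Subgroup (RG S) := ((tz S).comp (powMonoidHom 2)).range

theorem A1_le_HH : A1 S ≤ HH S := by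
  rintro _ ⟨z, rfl⟩
  exact ⟨_, rfl⟩

theorem cyclic_A1 : IsCyclic ↥(A1 S) :=
  isCyclic_of_surjective _ ((tz S).comp (powMonoidHom 2)).rangeRestrict_surjective

theorem card_A1 : 2 * Nat.card ↥(A1 S) = Fintype.card K - 1 := by
  classical
  have hk : Nat.card (((tz S).comp (powMonoidHom 2)).ker) = 2 := by
    rw [Nat.card_eq_two_iff]
    have hm : ∀ z : Kˣ, z ∈ ((tz S).comp (powMonoidHom 2)).ker ↔ z = 1 ∨ z = -1 := fun z => by
      rw [MonoidHom.mem_ker, MonoidHom.comp_apply, ← map_one (tz S), (tz_inj S).eq_iff, powMonoidHom_apply]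
      exact ⟨unit_sq, by rintro (rfl | rfl) <;> simp⟩
    refine ⟨1, ⟨-1, (hm _).2 (Or.inr rfl)⟩, fun h => neg_one_ne S (congrArg Subtype.val h).symm, ?_⟩
    refine Set.eq_univ_of_forall fun c => ?_
    rcases (hm c.1).1 c.2 with h | h
    · exact Or.inl (Subtype.ext h)
    · exact Or.inr (Subtype.ext h)
  have h := Subgroup.card_mul_index ((tz S).comp (powMonoidHom 2)).ker
  rw [hk, Subgroup.index_ker, Nat.card_units, Nat.card_eq_fintype_card (α := K)] at h
  rw [A1, h]

theorem exists_of_mem_A1 {g : RG S} (hg : g ∈ A1 S) (hg1 : g ≠ 1) :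
    ∃ z : Kˣ, g = tz S z ∧ z ^ 2 ≠ 1 := by
  obtain ⟨y, rfl⟩ := hg
  refine ⟨y ^ 2, by rw [MonoidHom.comp_apply, powMonoidHom_apply], fun h => hg1 ?_⟩
  obtain ⟨a, -, ⟨k, rfl⟩, -, h1, -⟩ := exists_halves S
  have hy : y ^ (2 * (2 * k + 1)) = 1 := by
    rw [← h1, ← Nat.card_eq_fintype_card, ← Nat.card_units]
    exact pow_card_eq_one'
  have h2 : y ^ 2 = 1 := by
    rw [← pow_mul] at h
    rw [show 2 * (2 * k + 1) = 2 * 2 * k + 2 by ring, pow_add, pow_mul, h, one_pow, one_mul] at hy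
    exact hy
  rw [MonoidHom.comp_apply, powMonoidHom_apply, h2, map_one]

theorem centralizer_A1 {A : Subgroup (RG S)} (hA : A ≤ A1 S) (hA1 : A ≠ ⊥) :
    Subgroup.centralizer (A : Set (RG S)) = HH S := by
  obtain ⟨⟨g, hg⟩, hg1⟩ := Subgroup.ne_bot_iff_exists_ne_one.1 hA1
  replace hg1 : g ≠ 1 := fun h => hg1 (Subtype.ext h)
  obtain ⟨z, rfl, hz⟩ := exists_of_mem_A1 S (hA hg) hg1
  refine le_antisymm (fun c hc => ?_) (fun c hc => ?_)
  · have hcom : tz S z * c = c * tz S z := Subgroup.mem_centralizer_iff.1 hc _ hg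
    have hfix : ∀ x : Pt S, tz S z • x = x → tz S z • c • x = c • x := fun x hx => by
      rw [smul_smul, hcom, mul_smul, hx]
    have h1 := tz_fix_only S hz (hfix _ (tz_smul_infty S z))
    have h2 := tz_fix_only S hz (hfix _ (tz_smul_zero S z))
    have hne : c • infty S ≠ c • zero S := fun e => zero_ne_infty S (MulAction.injective c e).symm
    rcases h1 with h1 | h1
    · have h2' := h2.resolve_left fun e => hne (h1.trans e.symm)
      obtain ⟨w, hw⟩ := fix_pair S h1 h2'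
      exact ⟨w, hw.symm⟩
    · exfalso
      have h2' := h2.resolve_right fun e => hne (h1.trans e.symm)
      obtain ⟨w, rfl⟩ := swap_eq S h1 h2'
      have h3 := nn_tz_inverts S w ⟨z, rfl⟩
      rw [← hcom, mul_inv_cancel_right, ← map_inv, (tz_inj S).eq_iff, ← mul_eq_one_iff_eq_inv, ← pow_two] at h3
      exact hz h3
  · obtain ⟨w, rfl⟩ := hc
    refine Subgroup.mem_centralizer_iff.2 fun y hy => ?_
    obtain ⟨a, rfl⟩ := A1_le_HH S (hA hy)
    rw [← map_mul, ← map_mul, mul_comm]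

theorem mem_normalizer_A1 {A : Subgroup (RG S)} (hA : A ≤ A1 S) (hA1 : A ≠ ⊥) {g : RG S} :
    g ∈ Subgroup.normalizer (A : Set (RG S)) ↔ ∃ z, g = tz S z ∨ g = nn S * tz S z := by
  constructor
  · intro hg
    obtain ⟨⟨a, ha⟩, ha1⟩ := Subgroup.ne_bot_iff_exists_ne_one.1 hA1
    replace ha1 : a ≠ 1 := fun h => ha1 (Subtype.ext h)
    have hga : g * a * g⁻¹ ∈ A := (Subgroup.mem_normalizer_iff.1 hg a).1 ha
    obtain ⟨z, rfl, -⟩ := exists_of_mem_A1 S (hA ha) ha1
    obtain ⟨w, hw, hw2⟩ := exists_of_mem_A1 S (hA hga) (fun h => ha1 (conj_eq_one_iff.1 h))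
    have hfix : ∀ x : Pt S, tz S z • x = x → tz S w • g • x = g • x := fun x hx => by
      rw [← hw, smul_smul, mul_assoc (g * tz S z), inv_mul_cancel, mul_one, mul_smul, hx]
    have h1 := tz_fix_only S hw2 (hfix _ (tz_smul_infty S z))
    have h2 := tz_fix_only S hw2 (hfix _ (tz_smul_zero S z))
    have hne : g • infty S ≠ g • zero S := fun e => zero_ne_infty S (MulAction.injective g e).symm
    rcases h1 with h1 | h1
    · obtain ⟨v, hv⟩ := fix_pair S h1 (h2.resolve_left fun e => hne (h1.trans e.symm))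
      exact ⟨v, Or.inl hv⟩
    · obtain ⟨v, hv⟩ := swap_eq S h1 (h2.resolve_right fun e => hne (h1.trans e.symm))
      exact ⟨v, Or.inr hv⟩
  · rintro ⟨z, rfl | rfl⟩
    · refine Subgroup.centralizer_le_normalizer _ ?_
      rw [centralizer_A1 S hA hA1]
      exact ⟨z, rfl⟩
    · rw [Subgroup.mem_normalizer_iff]
      intro y
      constructor
      · intro hy
        rw [nn_tz_inverts S z (A1_le_HH S (hA hy))]
        exact inv_mem hy
      · intro hy
        have h := nn_tz_inverts S z (A1_le_HH S (hA hy))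
        have e : y = (nn S * tz S z)⁻¹ * (nn S * tz S z * y * (nn S * tz S z)⁻¹) * (nn S * tz S z) := by group
        have hinv : (nn S * tz S z)⁻¹ = nn S * tz S z := inv_eq_of_mul_eq_one_right (nn_tz_sq S z)
        rw [e]
        have h' : (nn S * tz S z)⁻¹ * (nn S * tz S z * y * (nn S * tz S z)⁻¹) * (nn S * tz S z) =
            (nn S * tz S z * y * (nn S * tz S z)⁻¹)⁻¹ := by
          rw [← h]
          simp only [hinv]
        rw [h']
        exact inv_mem hy

theorem normalizer_A1 {A : Subgroup (RG S)} (hA : A ≤ A1 S) (hA1 : A ≠ ⊥) :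
    Subgroup.normalizer (A : Set (RG S)) = Subgroup.normalizer (A1 S : Set (RG S)) := by
  ext g
  rw [mem_normalizer_A1 S hA hA1, mem_normalizer_A1 S le_rfl (fun h => hA1 (le_bot_iff.1 (h ▸ hA)))]

theorem card_normalizer_A1 (h27 : 3 ≤ Fintype.card K - 1) :
    Nat.card ↥(Subgroup.normalizer (A1 S : Set (RG S))) = 2 * (Fintype.card K - 1) := by
  classical
  have hne : A1 S ≠ ⊥ := fun h => by
    have := card_A1 S
    rw [h, Subgroup.card_bot] at this
    omega
  let f : Bool × Kˣ → ↥(Subgroup.normalizer (A1 S : Set (RG S))) := fun x =>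
    ⟨if x.1 then nn S * tz S x.2 else tz S x.2, (mem_normalizer_A1 S le_rfl hne).2 ⟨x.2, by
      rcases x.1 <;> simp⟩⟩
  have hnot : ∀ z w, nn S * tz S z ≠ tz S w := fun z w h => zero_ne_infty S (by
    have e := congrArg (· • infty S) h
    simpa [mul_smul, tz_smul_infty, nn_smul_infty] using e)
  have hf : Function.Bijective f := by
    refine ⟨?_, fun g => ?_⟩
    · rintro ⟨a, z⟩ ⟨b, w⟩ h
      have h' := congrArg Subtype.val h
      rcases a <;> rcases b <;> simp only [f, Bool.false_eq_true, if_true, if_false] at h'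
      · rw [tz_inj S h']
      · exact absurd h'.symm (hnot _ _)
      · exact absurd h' (hnot _ _)
      · rw [tz_inj S (mul_left_cancel h')]
    · obtain ⟨z, h | h⟩ := (mem_normalizer_A1 S le_rfl hne).1 g.2
      · exact ⟨(false, z), Subtype.ext h.symm⟩
      · exact ⟨(true, z), Subtype.ext h.symm⟩
  rw [← Nat.card_eq_of_bijective _ hf, Nat.card_prod, Nat.card_units,
    Nat.card_eq_fintype_card (α := Bool), Nat.card_eq_fintype_card (α := K), Fintype.card_bool]

end Cfsg.Agent.Small.Ree
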