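import Cfsg.Agent.Lib.Small.Ree.Torus
import Cfsg.Agent.Lib.Small.Ree.PSLFacts

/-!
The small Ree groups: the torus of order a quarter of `q + 1`, its centraliser and normaliser.
-/

set_option autoImplicit false
set_option synthInstance.maxHeartbeats 400000
set_option maxHeartbeats 1600000
set_option maxRecDepth 4000
set_option linter.style.haveILetI false

namespace Cfsg.Agent.Small.Ree

open Cfsg Cfsg.Lie Cfsg.Agent.Lie Cfsg.Agent.Lie.Twist Matrix
open scoped MatrixGroups
open Cfsg.Agent.Lie.G2 (Os Setup)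
open Cfsg.Agent.Small.TwistAut Cfsg.Agent.Small.TwistAut.G2

section Generic

theorem mem_of_coprime_pow {G : Type*} [Group G] {H : Subgroup G} {g : G} {a b : ℕ} (hc : Nat.Coprime a b)
    (ha : g ^ a ∈ H) (hb : g ^ b ∈ H) : g ∈ H := by
  have h := mul_mem (zpow_mem ha (Nat.gcdA a b)) (zpow_mem hb (Nat.gcdB a b))
  rwa [← zpow_natCast g a, ← zpow_natCast g b, ← _root_.zpow_mul, ← _root_.zpow_mul, ← _root_.zpow_add,
    ← Nat.gcd_eq_gcd_ab, hc.gcd_eq_one, Nat.cast_one, zpow_one] at h

theorem eq_one_of_sq_odd {G : Type*} [Group G] {H : Subgroup G} (hH : Odd (Nat.card H)) {x : G} (hx : x ∈ H)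
    (h : x * x = 1) : x = 1 := by
  obtain ⟨k, hk⟩ := hH
  have h1 : (⟨x, hx⟩ : H) ^ (2 * k + 1) = 1 := hk ▸ pow_card_eq_one'
  have h2 := congrArg Subtype.val h1
  rw [SubmonoidClass.coe_pow, OneMemClass.coe_one, pow_succ, pow_mul, pow_two, h, one_pow, one_mul] at h2
  exact h2

/-- A four-group acting on a group of odd order with one common fixed-point group acts trivially. -/
theorem four_fixed {G : Type*} [Group G] {O : Subgroup G} (hO : Odd (Nat.card O)) {u v : G}
    (hu : u * u = 1) (hv : v * v = 1) (huv : u * v = v * u)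
    (nu : ∀ o ∈ O, u * o * u ∈ O) (nv : ∀ o ∈ O, v * o * v ∈ O)
    (h1 : ∀ o ∈ O, v * o * v = o → u * o * u = o)
    (h2 : ∀ o ∈ O, (u * v) * o * (u * v) = o → u * o * u = o) : ∀ o ∈ O, u * o * u = o := by
  intro o ho
  obtain ⟨k, hk⟩ := id hO
  have hroot : ∀ d ∈ O, d ^ (k + 1) * d ^ (k + 1) = d := fun d hd => by
    have h := congrArg Subtype.val (show (⟨d, hd⟩ : O) ^ (2 * k + 1) = 1 from hk ▸ pow_card_eq_one')
    rw [SubmonoidClass.coe_pow, OneMemClass.coe_one] at h
    rw [← pow_add, show k + 1 + (k + 1) = 2 * k + 1 + 1 by omega, pow_succ, h, one_mul]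
  have hui : u⁻¹ = u := inv_eq_of_mul_eq_one_right hu
  have hvi : v⁻¹ = v := inv_eq_of_mul_eq_one_right hv
  have hcu : ∀ x y, u * (x * y) * u = (u * x * u) * (u * y * u) := fun x y => by
    calc u * (x * y) * u = u * x * (u * u) * y * u := by rw [hu, mul_one]; group
      _ = _ := by group
  have hcv : ∀ x y, v * (x * y) * v = (v * x * v) * (v * y * v) := fun x y => by
    calc v * (x * y) * v = v * x * (v * v) * y * v := by rw [hv, mul_one]; group
      _ = _ := by group
  have huu : ∀ x, u * (u * x * u) * u = x := fun x => by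
    calc u * (u * x * u) * u = (u * u) * x * (u * u) := by group
      _ = x := by rw [hu, one_mul, mul_one]
  have hvv : ∀ x, v * (v * x * v) * v = x := fun x => by
    calc v * (v * x * v) * v = (v * v) * x * (v * v) := by group
      _ = x := by rw [hv, one_mul, mul_one]
  have hiu : ∀ x, u * x⁻¹ * u = (u * x * u)⁻¹ := fun x => by
    rw [_root_.mul_inv_rev, _root_.mul_inv_rev, hui, mul_assoc]
  have hiv : ∀ x, v * x⁻¹ * v = (v * x * v)⁻¹ := fun x => by
    rw [_root_.mul_inv_rev, _root_.mul_inv_rev, hvi, mul_assoc]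
  have huvc : ∀ x, v * (u * x * u) * v = u * (v * x * v) * u := fun x => by
    calc v * (u * x * u) * v = (v * u) * x * (u * v) := by group
      _ = (u * v) * x * (v * u) := by rw [huv]
      _ = _ := by group
  suffices key : ∀ a ∈ O, u * a * u = a⁻¹ → a = 1 by
    have h := key (o⁻¹ * (u * o * u)) (mul_mem (inv_mem ho) (nu o ho)) (by
      rw [hcu, huu, hiu, _root_.mul_inv_rev (o⁻¹), inv_inv])
    rw [inv_mul_eq_one] at h
    exact h.symm
  intro a ha hau
  have hdmem : a⁻¹ * (v * a * v) ∈ O := mul_mem (inv_mem ha) (nv a ha)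
  obtain ⟨d, hd⟩ : ∃ d, d = a⁻¹ * (v * a * v) := ⟨_, rfl⟩
  rw [← hd] at hdmem
  obtain ⟨r, hr⟩ : ∃ r, r = d ^ (k + 1) := ⟨_, rfl⟩
  have hrm : r ∈ O := hr ▸ pow_mem hdmem _
  have hdv : v * d * v = d⁻¹ := by rw [hd, hcv, hvv, hiv, _root_.mul_inv_rev (a⁻¹), inv_inv]
  have hrv : v * r * v = r⁻¹ := by
    have := conj_pow (i := k + 1) (a := v) (b := d)
    rw [hvi] at this
    rw [hr, ← this, hdv, inv_pow]
  have hrr : r * r = d := hr ▸ hroot d hdmem
  obtain ⟨c, hc⟩ : ∃ c, c = a * r := ⟨_, rfl⟩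
  have hcm : c ∈ O := hc ▸ mul_mem ha hrm
  have hcv' : v * c * v = c := by
    rw [hc, hcv, hrv, show v * a * v = a * d by rw [hd]; group, ← hrr]
    group
  have hcu' : u * c * u = c := h1 c hcm hcv'
  have hac : a = c * r⁻¹ := by rw [hc]; group
  have he : u * r⁻¹ * u = c⁻¹ * r * c⁻¹ := by
    have h := hau
    rw [hac, hcu, hcu', _root_.mul_inv_rev, inv_inv, ← eq_inv_mul_iff_mul_eq] at h
    rw [h]; group
  have he2 : v * (c⁻¹ * r * c⁻¹) * v = (c⁻¹ * r * c⁻¹)⁻¹ := by
    rw [← he, huvc, hiv, hrv, inv_inv, hiu r, inv_inv]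
  rw [hcv, hcv, hrv, hiv, hcv', _root_.mul_inv_rev, _root_.mul_inv_rev, inv_inv] at he2
  have hc2 : r * (c * c) * r⁻¹ = (c * c)⁻¹ := by
    calc r * (c * c) * r⁻¹ = r * c * (c * r⁻¹ * c) * c⁻¹ := by group
      _ = r * c * (c * (r⁻¹ * c)) * c⁻¹ := by group
      _ = r * c * (c⁻¹ * r⁻¹ * c⁻¹) * c⁻¹ := by rw [← he2]
      _ = _ := by group
  have hcomm : Commute (r * r) (c * c) := by
    have h : (r * r) * (c * c) * (r * r)⁻¹ = c * c := by
      calc r * r * (c * c) * (r * r)⁻¹ = r * (r * (c * c) * r⁻¹) * r⁻¹ := by group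
        _ = r * (c * c)⁻¹ * r⁻¹ := by rw [hc2]
        _ = (r * (c * c) * r⁻¹)⁻¹ := by group
        _ = c * c := by rw [hc2, inv_inv]
    exact mul_inv_eq_iff_eq_mul.1 h
  have hrc : r * (c * c) * r⁻¹ = c * c := by
    have h := hcomm.pow_left (k + 1)
    rw [(Commute.refl r).mul_pow, hroot r hrm] at h
    exact mul_inv_eq_iff_eq_mul.2 h.eq
  have hc4 : (c * c) * (c * c) = 1 := by
    have h := hc2.symm.trans hrc
    calc (c * c) * (c * c) = (c * c)⁻¹ * (c * c) := by rw [h]
      _ = 1 := inv_mul_cancel _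
  have hc1 : c = 1 := eq_one_of_sq_odd hO hcm (eq_one_of_sq_odd hO (mul_mem hcm hcm) hc4)
  rw [hc1, one_mul] at hac
  have hav : v * a * v = a⁻¹ := by rw [hac, hiv, hrv]
  have hua : u * a * u = a := h2 a ha (by
    calc u * v * a * (u * v) = u * v * a * (v * u) := by rw [huv]
      _ = u * (v * a * v) * u := by group
      _ = a := by rw [hav, hiu, hau, inv_inv])
  rw [hau] at hua
  exact eq_one_of_sq_odd hO ha (by
    calc a * a = a⁻¹ * a := by rw [hua]
      _ = 1 := inv_mul_cancel a)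

/-- A four-group Sylow subgroup is central in its normaliser when three does not divide the order. -/
theorem klein_burnside {X : Type*} [Group X] [Finite X] [Fact (Nat.Prime 2)] (P : Sylow 2 X)
    (h4 : Nat.card (P : Subgroup X) = 4)
    (hab : ∀ y ∈ (P : Subgroup X), ∀ z ∈ (P : Subgroup X), y * z = z * y) (h3 : ¬ 3 ∣ Nat.card X) :
    Subgroup.normalizer ((P : Subgroup X) : Set X) ≤ Subgroup.centralizer ((P : Subgroup X) : Set X) := by
  classical
  haveI := Fintype.ofFinite X
  intro n hn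
  haveI : ((P : Subgroup X).subgroupOf (Subgroup.normalizer ((P : Subgroup X) : Set X))).Normal :=
    Subgroup.normal_in_normalizer
  have hr := Subgroup.pow_index_mem ((P : Subgroup X).subgroupOf (Subgroup.normalizer ((P : Subgroup X) : Set X))) ⟨n, hn⟩
  obtain ⟨r, hrdef⟩ : ∃ r, r = ((P : Subgroup X).subgroupOf (Subgroup.normalizer ((P : Subgroup X) : Set X))).index := ⟨_, rfl⟩
  rw [← hrdef] at hr
  have h1 : r ∣ (P : Subgroup X).index := hrdef ▸
    Dvd.intro (Subgroup.normalizer ((P : Subgroup X) : Set X)).index (Subgroup.relIndex_mul_index Subgroup.le_normalizer)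
  have hrodd : Odd r := by
    have hnd : ¬ 2 ∣ (P : Subgroup X).index := P.not_dvd_index
    exact (Nat.odd_iff.2 (by omega) : Odd (P : Subgroup X).index).of_dvd_nat h1
  have hr3 : ¬ 3 ∣ r := fun h => h3 (h.trans (h1.trans (Subgroup.index_dvd_card _)))
  have hC1 : n ^ r ∈ Subgroup.centralizer ((P : Subgroup X) : Set X) :=
    Subgroup.mem_centralizer_iff.2 fun z hz => hab z hz _ hr
  let σ : Equiv.Perm {z : X // z ∈ (P : Subgroup X) ∧ z ≠ 1} := (MulAut.conj n).toEquiv.subtypeEquiv fun z => by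
    show z ∈ (P : Subgroup X) ∧ z ≠ 1 ↔ n * z * n⁻¹ ∈ (P : Subgroup X) ∧ n * z * n⁻¹ ≠ 1
    rw [Ne, Ne, conj_eq_one_iff]
    exact and_congr_left' (Subgroup.mem_normalizer_iff.1 hn z)
  have hT : Nat.card {z : X // z ∈ (P : Subgroup X) ∧ z ≠ 1} = 3 := by
    rw [Nat.card_eq_fintype_card, Fintype.card_subtype] at h4 ⊢
    rw [show (Finset.univ.filter fun z : X => z ∈ (P : Subgroup X) ∧ z ≠ 1) =
      (Finset.univ.filter fun z : X => z ∈ (P : Subgroup X)).erase 1 by ext; simp [and_comm],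
      Finset.card_erase_of_mem (by simp [one_mem]), h4]
  have hσ : σ ^ 6 = 1 := by
    have h := pow_card_eq_one' (x := σ)
    rwa [Nat.card_perm, hT, show Nat.factorial 3 = 6 from rfl] at h
  have hpow : ∀ (k : ℕ) (z : {z : X // z ∈ (P : Subgroup X) ∧ z ≠ 1}),
      (((σ ^ k) z).1 : X) = n ^ k * z.1 * (n ^ k)⁻¹ := by
    intro k
    induction k with
    | zero => intro z; simp
    | succ k ih =>
      intro z
      rw [pow_succ', Equiv.Perm.mul_apply]
      show n * ((σ ^ k) z).1 * n⁻¹ = _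
      rw [ih, pow_succ']
      group
  have hC6 : n ^ 6 ∈ Subgroup.centralizer ((P : Subgroup X) : Set X) := by
    refine Subgroup.mem_centralizer_iff.2 fun z hz => ?_
    by_cases hz1 : z = 1
    · rw [hz1, one_mul, mul_one]
    have h := hpow 6 ⟨z, hz, hz1⟩
    rw [hσ, Equiv.Perm.one_apply] at h
    exact (mul_inv_eq_iff_eq_mul.1 h.symm).symm
  have hc : Nat.Coprime r 6 := by
    rw [show (6 : ℕ) = 2 * 3 from rfl]
    exact Nat.Coprime.mul_right (Nat.coprime_two_right.2 hrodd)
      ((Nat.Prime.coprime_iff_not_dvd Nat.prime_three).2 hr3).symm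
  exact mem_of_coprime_pow hc hC1 hC6

/-- A normal complement to a Sylow subgroup central in its normaliser. -/
theorem normal_complement {X : Type*} [Group X] [Finite X] [Fact (Nat.Prime 2)] (P : Sylow 2 X)
    (h : Subgroup.normalizer ((P : Subgroup X) : Set X) ≤ Subgroup.centralizer ((P : Subgroup X) : Set X)) :
    ∃ O : Subgroup X, O.Normal ∧ Subgroup.IsComplement' O (P : Subgroup X) :=
  ⟨(MonoidHom.transferSylow P h).ker, MonoidHom.normal_ker _, MonoidHom.ker_transferSylow_isComplement' P h⟩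

end Generic

variable {K : Type*} [Field K] [Fintype K] {m : ℕ} (S : Setup K m)

/-- The projection of the centraliser of the involution onto `PSL₂`. -/
noncomputable def fC : ↥(Cent S) →* Matrix.ProjectiveSpecialLinearGroup (Fin 2) K :=
  (Cb_equiv S).some.toMonoidHom.comp (rhoR S)

theorem fC_surj : Function.Surjective (fC S) := (Cb_equiv S).some.surjective.comp (rhoR_surj S)

theorem fC_eq_one {c : ↥(Cent S)} : fC S c = 1 ↔ (c : RG S) = 1 ∨ (c : RG S) = tau S := by
  show (Cb_equiv S).some (rhoR S c) = 1 ↔ _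
  rw [MulEquiv.map_eq_one_iff, Subtype.ext_iff]
  exact rho_eq_one S

theorem card_comap_fC (H : Subgroup (Matrix.ProjectiveSpecialLinearGroup (Fin 2) K)) :
    Nat.card ↥(H.comap (fC S)) = 2 * Nat.card H := by
  have hk : Nat.card (fC S).ker = 2 := by
    have : (fC S).ker = (rho S).ker := Subgroup.ext fun c => by
      rw [MonoidHom.mem_ker, MonoidHom.mem_ker, fC_eq_one, rho_eq_one]
    rw [this, card_ker_rho]
  have h1 := Subgroup.card_mul_index (H.comap (fC S))
  have h3 := Subgroup.card_mul_index H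
  have h5 := Subgroup.card_mul_index (fC S).ker
  rw [hk, Subgroup.index_ker, MonoidHom.range_eq_top.2 (fC_surj S), Subgroup.card_top] at h5
  rw [Subgroup.index_comap_of_surjective _ (fC_surj S)] at h1
  refine Nat.eq_of_mul_eq_mul_right (Nat.pos_of_ne_zero (Subgroup.index_ne_zero_of_finite (H := H))) ?_
  rw [h1, ← h5, ← h3]
  ring

/-- Elements of the centraliser commuting modulo the involution commute. -/
theorem commute_of_fC {c w : ↥(Cent S)} (h : fC S c * fC S w = fC S w * fC S c) : c * w = w * c := by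
  obtain ⟨T, hT⟩ := exists_retraction S
  have h1 : fC S (c * w * (w * c)⁻¹) = 1 := by
    rw [map_mul (fC S) (c * w), map_inv, map_mul, map_mul, h, mul_inv_cancel]
  rcases (fC_eq_one S).1 h1 with h2 | h2
  · exact mul_inv_eq_one.1 (Subtype.ext h2)
  · exfalso
    have h3 : T (c * w * (w * c)⁻¹) = Multiplicative.ofAdd 1 := by
      rw [show c * w * (w * c)⁻¹ = ⟨tau S, tau_mem_Cent S⟩ from Subtype.ext h2, hT]
    rw [map_mul T (c * w), map_inv, map_mul, map_mul, mul_comm (T c), mul_inv_cancel] at h3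
    exact one_ne_zero (α := ZMod 2) (congrArg Multiplicative.toAdd h3).symm

theorem centralizer_fC (w : ↥(Cent S)) :
    Subgroup.centralizer ({w} : Set ↥(Cent S)) = (Subgroup.centralizer ({fC S w} : Set _)).comap (fC S) := by
  ext c
  rw [Subgroup.mem_comap, Subgroup.mem_centralizer_singleton_iff, Subgroup.mem_centralizer_singleton_iff]
  exact ⟨fun h => by rw [← map_mul, h, map_mul], commute_of_fC S⟩

/-! ### Arithmetic of a quarter of `q + 1` -/

include S in
theorem quarter_facts : Fintype.card K + 1 = 4 * ((Fintype.card K + 1) / 4) ∧ Odd ((Fintype.card K + 1) / 4) ∧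
    Nat.Coprime ((Fintype.card K + 1) / 4) (Fintype.card K ^ 3 * (Fintype.card K - 1)) := by
  have h8 := card_mod_eight S
  have h1 : Fintype.card K + 1 = 4 * ((Fintype.card K + 1) / 4) := by omega
  have hodd : Odd ((Fintype.card K + 1) / 4) := Nat.odd_iff.2 (by omega)
  refine ⟨h1, hodd, Nat.Coprime.mul_right (Nat.Coprime.pow_right _ ?_) ?_⟩
  · refine Nat.coprime_of_dvd fun p hp hpa hpb => hp.ne_one (Nat.dvd_one.1 ?_)
    have h2 : p ∣ Fintype.card K + 1 := h1 ▸ hpa.mul_left 4
    exact (Nat.dvd_add_right hpb).1 h2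
  · refine Nat.coprime_of_dvd fun p hp hpa hpb => ?_
    have h2 : p ∣ Fintype.card K + 1 := h1 ▸ hpa.mul_left 4
    have h3 : p ∣ 2 := by
      have h4 := Nat.dvd_sub h2 hpb
      rwa [show Fintype.card K + 1 - (Fintype.card K - 1) = 2 by omega] at h4
    obtain rfl := (Nat.prime_dvd_prime_iff_eq hp Nat.prime_two).1 h3
    exact (Nat.not_even_iff_odd.2 hodd) (even_iff_two_dvd.2 hpa)

theorem odd_part_mem {x : RG S} (h : orderOf x ∣ (Fintype.card K + 1) / 4) (hx1 : x ≠ 1) :
    x * x ≠ 1 := fun h2 => hx1 (orderOf_eq_one_iff.1 (Nat.Coprime.eq_one_of_dvd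
  ((Nat.coprime_two_right.2 (quarter_facts S).2.1).coprime_dvd_left h)
  (orderOf_dvd_of_pow_eq_one (by rw [pow_two, h2]))))

/-- The centraliser of a nontrivial element of order dividing a quarter of `q + 1`. -/
theorem centralizer_quarter {x : RG S} (hxC : x ∈ Cent S) (hord : orderOf x ∣ (Fintype.card K + 1) / 4)
    (hx1 : x ≠ 1) :
    Subgroup.centralizer ({x} : Set (RG S)) ≤ Cent S ∧
      Nat.card ↥(Subgroup.centralizer ({x} : Set (RG S))) = Fintype.card K + 1 ∧
      ∀ a ∈ Subgroup.centralizer ({x} : Set (RG S)), ∀ b ∈ Subgroup.centralizer ({x} : Set (RG S)),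
        a * b = b * a := by
  classical
  haveI : Fact (Nat.Prime 2) := ⟨Nat.prime_two⟩
  obtain ⟨h4b, hbodd, hbcop⟩ := quarter_facts S
  -- the part inside the centraliser of an involution
  have inner : ∀ y : ↥(Cent S), orderOf (y : RG S) ∣ (Fintype.card K + 1) / 4 → (y : RG S) ≠ 1 →
      Nat.card ↥(Subgroup.centralizer ({(y : RG S)} : Set (RG S)) ⊓ Cent S) = Fintype.card K + 1 ∧
      ∀ a ∈ Subgroup.centralizer ({(y : RG S)} : Set (RG S)) ⊓ Cent S,
        ∀ b ∈ Subgroup.centralizer ({(y : RG S)} : Set (RG S)) ⊓ Cent S, a * b = b * a := by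
    intro y hy hy1
    have hfy : fC S y ≠ 1 := fun h => by
      rcases (fC_eq_one S).1 h with h' | h'
      · exact hy1 h'
      · exact odd_part_mem S hy hy1 (h' ▸ tau_sq S)
    have hdvd : orderOf (fC S y) ∣ orderOf (y : RG S) := by
      rw [Subgroup.orderOf_coe]; exact orderOf_map_dvd _ _
    obtain ⟨hc, hcomm⟩ := PSLFacts.odd_centralizer (card_mod_four' S) (hbodd.of_dvd_nat (hdvd.trans hy)) hfy
      (Nat.Coprime.coprime_dvd_left (hdvd.trans hy) (hbcop.coprime_dvd_right
        (mul_dvd_mul_right (dvd_pow_self _ (by norm_num)) _)))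
    have hmap : Subgroup.centralizer ({(y : RG S)} : Set (RG S)) ⊓ Cent S =
        (Subgroup.centralizer ({y} : Set ↥(Cent S))).map (Cent S).subtype := by
      ext g
      constructor
      · rintro ⟨h1, h2⟩
        exact ⟨⟨g, h2⟩, Subgroup.mem_centralizer_singleton_iff.2
          (Subtype.ext (Subgroup.mem_centralizer_singleton_iff.1 h1)), rfl⟩
      · rintro ⟨c, hc, rfl⟩
        exact ⟨Subgroup.mem_centralizer_singleton_iff.2
          (congrArg Subtype.val (Subgroup.mem_centralizer_singleton_iff.1 hc)), c.2⟩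
    rw [hmap]
    refine ⟨?_, ?_⟩
    · rw [← Nat.card_congr (Subgroup.equivMapOfInjective _ _ Subtype.val_injective).toEquiv, centralizer_fC,
        card_comap_fC, hc]
      omega
    · rintro _ ⟨a, ha, rfl⟩ _ ⟨b, hb, rfl⟩
      rw [centralizer_fC] at ha hb
      exact congrArg Subtype.val (commute_of_fC S (hcomm _ ha _ hb))
  obtain ⟨hWc, hWab⟩ := inner ⟨x, hxC⟩ hord hx1
  set X := Subgroup.centralizer ({x} : Set (RG S)) with hX
  set W := X ⊓ Cent S with hW
  -- no element of order three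
  have hfix : ∀ p : Pt S, x • p ≠ p := fun p hp => hx1 (orderOf_eq_one_iff.1
    (Nat.Coprime.eq_one_of_dvd (Nat.Coprime.coprime_dvd_left hord hbcop) (fix_order S hp)))
  have h3 : ¬ 3 ∣ Nat.card X := by
    intro h
    haveI : Fact (Nat.Prime 3) := ⟨Nat.prime_three⟩
    obtain ⟨y, hy⟩ := exists_prime_orderOf_dvd_card' 3 h
    obtain ⟨p, hp, hpu⟩ := three_unique S (g := (y : RG S))
      (fun e => by
        rw [← Subgroup.orderOf_coe, e, orderOf_one] at hy
        omega) (j := 1)
      (by rw [pow_one, ← hy, ← Subgroup.orderOf_coe, pow_orderOf_eq_one])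
    refine hfix p (hpu _ ?_)
    rw [smul_smul, Subgroup.mem_centralizer_singleton_iff.1 y.2, mul_smul, hp]
  have h8 : ¬ 8 ∣ Nat.card X := by
    intro h
    obtain ⟨Q, hQ⟩ := Sylow.exists_subgroup_card_pow_prime 2 (G := X) (n := 3) h
    have hQc : Nat.card ↥(Q.map X.subtype) = 2 ^ (Nat.card (RG S)).factorization 2 := by
      rw [← Nat.card_congr (Subgroup.equivMapOfInjective _ _ Subtype.val_injective).toEquiv, hQ,
        factorization_group]
    have hx : x ∈ Subgroup.centralizer ((Sylow.ofCard _ hQc : Sylow 2 (RG S)) : Set (RG S)) :=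
      Subgroup.mem_centralizer_iff.2 fun g hg => by
        obtain ⟨c, -, rfl⟩ := hg
        exact Subgroup.mem_centralizer_singleton_iff.1 c.2
    rw [show ((Sylow.ofCard _ hQc : Sylow 2 (RG S)) : Set (RG S)) =
      (((Sylow.ofCard _ hQc : Sylow 2 (RG S)) : Subgroup (RG S)) : Set (RG S)) from rfl,
      sylow_two_centralizer] at hx
    exact odd_part_mem S hord hx1 ((sylow_two S _).2 x hx)
  -- the four-group
  let V : Subgroup (RG S) :=
    { carrier := {y | y ∈ W ∧ y * y = 1}
      one_mem' := ⟨one_mem W, one_mul 1⟩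
      mul_mem' := fun {a b} ha hb => ⟨mul_mem ha.1 hb.1, by
        rw [mul_assoc a b, ← mul_assoc b a, hWab _ hb.1 _ ha.1, mul_assoc a b b, hb.2, mul_one, ha.2]⟩
      inv_mem' := fun {a} ha => ⟨inv_mem ha.1, by rw [← _root_.mul_inv_rev, ha.2, inv_one]⟩ }
  have hVle : V ≤ X := fun y hy => hy.1.1
  have hV4 : Nat.card V = 4 := by
    obtain ⟨Q, hQ⟩ := Sylow.exists_subgroup_card_pow_prime 2 (G := W) (n := 2) (by rw [hWc, h4b]; exact Dvd.intro _ rfl)
    have hQV : Q.map W.subtype ≤ V := by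
      rintro _ ⟨c, hc, rfl⟩
      refine ⟨c.2, ?_⟩
      have h1 : (⟨c, hc⟩ : Q) ^ 4 = 1 := by
        have := pow_card_eq_one' (x := (⟨c, hc⟩ : Q))
        rwa [hQ] at this
      exact congrArg Subtype.val (two_elt S (c := ⟨(c : RG S), c.2.2⟩) (j := 2)
        (Subtype.ext (congrArg (fun t : Q => ((t.1 : W) : RG S)) h1)))
    have hge : 4 ≤ Nat.card V := by
      have := Subgroup.card_le_of_le hQV
      rwa [← Nat.card_congr (Subgroup.equivMapOfInjective _ _ Subtype.val_injective).toEquiv, hQ] at this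
    have hpg : IsPGroup 2 V := fun y => ⟨1, Subtype.ext (by
      show (y : RG S) ^ 2 ^ 1 = 1
      rw [pow_one, pow_two, y.2.2])⟩
    obtain ⟨j, hj⟩ := IsPGroup.iff_card.1 hpg
    have hdvd : Nat.card V ∣ Nat.card X := Subgroup.card_dvd_of_le hVle
    have hj2 : j ≤ 2 := by
      by_contra hj3
      exact h8 ((pow_dvd_pow 2 (show 3 ≤ j by omega)).trans (hj ▸ hdvd))
    rw [hj] at hge ⊢
    interval_cases j <;> omega
  have hVX : Nat.card ↥(V.subgroupOf X) = 2 ^ (Nat.card X).factorization 2 := by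
    have h4 : 2 ^ 2 ∣ Nat.card X := by
      have := Subgroup.card_dvd_of_le hVle
      rwa [hV4] at this
    rw [Nat.card_congr (Subgroup.subgroupOfEquivOfLe hVle).toEquiv, hV4]
    have hne : Nat.card X ≠ 0 := Nat.card_pos.ne'
    have h2le := (Nat.Prime.pow_dvd_iff_le_factorization Nat.prime_two hne).1 h4
    have h3le : ¬ 3 ≤ (Nat.card X).factorization 2 := fun h =>
      h8 ((Nat.Prime.pow_dvd_iff_le_factorization Nat.prime_two hne).2 h)
    rw [show (Nat.card X).factorization 2 = 2 by omega]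
    norm_num
  set P : Sylow 2 X := Sylow.ofCard (V.subgroupOf X) hVX with hP
  -- normaliser centralises
  have hburn : Subgroup.normalizer ((P : Subgroup X) : Set X) ≤ Subgroup.centralizer ((P : Subgroup X) : Set X) :=
    klein_burnside P
      (by
        show Nat.card ↥(V.subgroupOf X) = 4
        rw [Nat.card_congr (Subgroup.subgroupOfEquivOfLe hVle).toEquiv, hV4])
      (fun y hy z hz => Subtype.ext (hWab _ (show (y : RG S) ∈ V from hy).1 _ (show (z : RG S) ∈ V from hz).1))
      h3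
  obtain ⟨O, hOn, hcompl⟩ := normal_complement P hburn
  set O' := O.map X.subtype with hO'
  have hOc : Nat.card O' * 4 = Nat.card X := by
    rw [hO', ← Nat.card_congr (Subgroup.equivMapOfInjective _ _ Subtype.val_injective).toEquiv, ← hcompl.card_mul_card]
    congr 1
    show 4 = Nat.card ↥(V.subgroupOf X)
    rw [Nat.card_congr (Subgroup.subgroupOfEquivOfLe hVle).toEquiv, hV4]
  have hOodd : Odd (Nat.card O') := by
    rcases Nat.even_or_odd (Nat.card O') with ⟨i, hi⟩ | h
    · exact absurd ⟨i, by rw [← hOc, hi]; ring⟩ h8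
    · exact h
  have hnorm : ∀ y ∈ V, ∀ o ∈ O', y * o * y ∈ O' := by
    rintro y hy _ ⟨o, ho, rfl⟩
    refine ⟨⟨y, hVle hy⟩ * o * (⟨y, hVle hy⟩ : X)⁻¹,
      hOn.conj_mem o ho _, ?_⟩
    show y * (o : RG S) * y⁻¹ = y * (o : RG S) * y
    rw [inv_eq_of_mul_eq_one_right hy.2]
  -- centralisers of the involutions of the four-group
  have hinv : ∀ y ∈ V, y ≠ 1 → ∀ o ∈ X, y * o * y = o → o ∈ W := by
    intro y hy hy1 o ho hoy
    obtain ⟨g, hg⟩ := isConj_iff.1 (involutions_conj S hy.2 hy1)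
    have hmemC : ∀ z : RG S, z * y = y * z → g⁻¹ * z * g ∈ Cent S := fun z hz => (mem_Cent S).2 (by
      calc g⁻¹ * z * g * tau S = g⁻¹ * (z * (g * tau S * g⁻¹)) * g := by group
        _ = g⁻¹ * ((g * tau S * g⁻¹) * z) * g := by rw [hg, hz]
        _ = _ := by group)
    have hxy : x * y = y * x := (Subgroup.mem_centralizer_singleton_iff.1 hy.1.1).symm
    have hyinv := inv_eq_of_mul_eq_one_right hy.2
    have hoy' : o * y = y * o := by
      calc o * y = (y * o * y) * y := by rw [hoy]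
        _ = y * o * (y * y) := by group
        _ = y * o := by rw [hy.2, mul_one]
    have hxc : orderOf (g⁻¹ * x * g) = orderOf x := by
      have := orderOf_injective (MulAut.conj g⁻¹).toMonoidHom (MulAut.conj g⁻¹).injective x
      simpa [mul_assoc] using this
    obtain ⟨hc, -⟩ := inner ⟨g⁻¹ * x * g, hmemC x hxy⟩ (hxc.symm ▸ hord)
      (fun e => hx1 (by
        have e' : g⁻¹ * x * g = 1 := e
        rw [mul_assoc, inv_mul_eq_one, eq_comm, mul_eq_right] at e'
        exact e'))
    set W' := (Subgroup.centralizer ({g⁻¹ * x * g} : Set (RG S)) ⊓ Cent S).map (MulAut.conj g).toMonoidHom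
    have hmem : ∀ z ∈ X, z * y = y * z → z ∈ W' := fun z hz hzy =>
      ⟨g⁻¹ * z * g, ⟨Subgroup.mem_centralizer_singleton_iff.2 (by
        calc g⁻¹ * z * g * (g⁻¹ * x * g) = g⁻¹ * (z * x) * g := by group
          _ = g⁻¹ * (x * z) * g := by rw [Subgroup.mem_centralizer_singleton_iff.1 hz]
          _ = _ := by group), hmemC z hzy⟩, by
        show g * (g⁻¹ * z * g) * g⁻¹ = z
        group⟩
    have hWW : W ≤ W' := fun z hz => hmem z hz.1 (hWab _ hz _ hy.1)
    have heq : W = W' := Subgroup.eq_of_le_of_card_ge hWW (by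
      rw [hWc, ← Nat.card_congr (Subgroup.equivMapOfInjective _ _ (MulAut.conj g).injective).toEquiv]
      exact hc.le)
    rw [heq]
    exact hmem o ho hoy'
  have htV : tau S ∈ V := ⟨⟨Subgroup.mem_centralizer_singleton_iff.2 ((mem_Cent S).1 hxC).symm, tau_mem_Cent S⟩, tau_sq S⟩
  obtain ⟨v, hvV, hv1, hvt⟩ : ∃ v ∈ V, v ≠ 1 ∧ v ≠ tau S := by
    by_contra hh
    have : (V : Set (RG S)) ⊆ {1, tau S} := fun z hz => by
      by_contra hz'
      rw [Set.mem_insert_iff, Set.mem_singleton_iff, not_or] at hz'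
      exact hh ⟨z, hz, hz'.1, hz'.2⟩
    have h := Set.ncard_le_ncard this (Set.toFinite _)
    rw [← Nat.card_coe_set_eq, Set.ncard_pair (tau_ne S).symm] at h
    have : Nat.card (V : Set (RG S)) = 4 := hV4
    omega
  have hOC : ∀ o ∈ O', o ∈ Cent S := by
    have hOX : ∀ o ∈ O', o ∈ X := by rintro _ ⟨o, -, rfl⟩; exact o.2
    have hback : ∀ o ∈ O', o ∈ W → tau S * o * tau S = o := fun o _ ho => by
      rw [← (mem_Cent S).1 ho.2, mul_assoc, tau_sq, mul_one]
    intro o ho
    have h := four_fixed hOodd (tau_sq S) hvV.2 (hWab _ htV.1 _ hvV.1) (hnorm _ htV) (hnorm _ hvV)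
      (fun o ho hvo => hback o ho (hinv _ hvV hv1 o (hOX o ho) hvo))
      (fun o ho hvo => hback o ho (hinv _ (mul_mem htV hvV) (fun e => hvt (by
        rw [← inv_eq_of_mul_eq_one_right e, tau_inv])) o (hOX o ho) hvo)) o ho
    rw [mem_Cent]
    calc o * tau S = (tau S * o * tau S) * tau S := by rw [h]
      _ = tau S * o * (tau S * tau S) := by group
      _ = tau S * o := by rw [tau_sq, mul_one]
  have hXC : X ≤ Cent S := fun z hz => by
    obtain ⟨⟨⟨o, ho⟩, ⟨w, hw⟩⟩, he⟩ := hcompl.2 ⟨z, hz⟩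
    have e : (o : RG S) * (w : RG S) = z := congrArg Subtype.val he
    rw [← e]
    exact mul_mem (hOC _ ⟨o, ho, rfl⟩) (show (w : RG S) ∈ V from hw).1.2
  have hXW : W = X := le_antisymm inf_le_left (le_inf le_rfl hXC)
  exact ⟨hXC, hXW ▸ hWc, hXW ▸ hWab⟩

end Cfsg.Agent.Small.Ree
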