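import Cfsg.Agent.Lib.Small.Ree.TorusTwo

/-!
The small Ree groups: the normaliser of the torus of order a quarter of `q + 1` and of its four-group.
-/

set_option autoImplicit false
set_option synthInstance.maxHeartbeats 400000
set_option maxHeartbeats 1600000
set_option maxRecDepth 4000
set_option linter.style.haveILetI false

namespace Cfsg.Agent.Small.Ree

open Cfsg Cfsg.Lie Cfsg.Agent.Lie Cfsg.Agent.Lie.Twist Matrix
open scoped MatrixGroups
open Cfsg.Agent.Lie.G2 (Os Setup)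
open Cfsg.Agent.Small.TwistAut Cfsg.Agent.Small.TwistAut.G2

/-- A cyclic group has one subgroup of each order. -/
theorem cyclic_sub_eq {C : Type*} [Group C] [Finite C] [IsCyclic C] {H L : Subgroup C}
    (h : Nat.card H = Nat.card L) : H = L := by
  letI := IsCyclic.commGroup (α := C)
  have hker : ∀ M : Subgroup C, M = (powMonoidHom (Nat.card M) : C →* C).ker := fun M => by
    refine Subgroup.eq_of_le_of_card_ge (fun x hx => congrArg Subtype.val
      (pow_card_eq_one' (x := (⟨x, hx⟩ : M)))) ?_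
    rw [IsCyclic.card_powMonoidHom_ker, Nat.gcd_eq_right (Subgroup.card_subgroup_dvd_card M)]
  rw [hker H, hker L, h]

variable {K : Type*} [Field K] [Fintype K] {m : ℕ} (S : Setup K m)

theorem exists_quarter : ∃ y : RG S, y ∈ Cent S ∧ orderOf y = (Fintype.card K + 1) / 4 := by
  obtain ⟨h1, hodd, -⟩ := quarter_facts S
  obtain ⟨z, hz⟩ := PSLFacts.exists_quarter (card_mod_four' S) (F := K)
  obtain ⟨c, hc⟩ := fC_surj S z
  obtain ⟨k, hk⟩ := hodd
  have hc2 : (c ^ 2) ^ (2 * k + 1) = 1 := by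
    have h : fC S (c ^ (2 * k + 1)) = 1 := by rw [map_pow, hc, ← hk, ← hz, pow_orderOf_eq_one]
    rw [← pow_mul, mul_comm, pow_mul, pow_two]
    rcases (fC_eq_one S).1 h with e | e <;> refine Subtype.ext ?_ <;>
      rw [Subgroup.coe_mul, e, Subgroup.coe_one]
    · exact one_mul 1
    · exact tau_sq S
  refine ⟨((c ^ 2 : ↥(Cent S)) : RG S), (c ^ 2).2, ?_⟩
  rw [Subgroup.orderOf_coe]
  refine Nat.dvd_antisymm ?_ ?_
  · rw [hk]; exact orderOf_dvd_of_pow_eq_one hc2
  · have h := orderOf_map_dvd (fC S) (c ^ 2)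
    rwa [map_pow, hc, orderOf_pow, hz, hk,
      (Nat.coprime_two_right.2 ⟨k, rfl⟩ : Nat.Coprime (2 * k + 1) 2).gcd_eq_one, Nat.div_one, ← hk] at h

/-- A generator of the second torus. -/
noncomputable def y2 : RG S := (exists_quarter S).choose

theorem y2_spec : y2 S ∈ Cent S ∧ orderOf (y2 S) = (Fintype.card K + 1) / 4 := (exists_quarter S).choose_spec

/-- The second torus. -/
noncomputable def A2 : Subgroup (RG S) := Subgroup.zpowers (y2 S)

theorem cyclic_A2 : IsCyclic ↥(A2 S) :=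
  (Subgroup.isCyclic_iff_exists_zpowers_eq_top (A2 S)).2 ⟨y2 S, rfl⟩

theorem card_A2 : Nat.card ↥(A2 S) = (Fintype.card K + 1) / 4 := by
  rw [A2, Nat.card_zpowers, (y2_spec S).2]

theorem A2_props {x : RG S} (hx : x ∈ A2 S) : x ∈ Cent S ∧ orderOf x ∣ (Fintype.card K + 1) / 4 := by
  obtain ⟨i, rfl⟩ := Subgroup.mem_zpowers_iff.1 hx
  refine ⟨zpow_mem (y2_spec S).1 i, ?_⟩
  rw [← card_A2, A2, ← Subgroup.orderOf_mk _ (zpow_mem (Subgroup.mem_zpowers (y2 S)) i)]
  exact orderOf_dvd_natCard _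

/-- The centraliser of the second torus. -/
noncomputable def Z2 : Subgroup (RG S) := Subgroup.centralizer ({y2 S} : Set (RG S))

variable (h27 : 27 ≤ Fintype.card K)

include h27

theorem y2_ne : y2 S ≠ 1 := fun h => by
  have := (y2_spec S).2
  rw [h, orderOf_one] at this
  omega

theorem Z2_props : Z2 S ≤ Cent S ∧ Nat.card ↥(Z2 S) = Fintype.card K + 1 ∧
    ∀ a ∈ Z2 S, ∀ b ∈ Z2 S, a * b = b * a :=
  centralizer_quarter S (y2_spec S).1 (dvd_of_eq (y2_spec S).2) (y2_ne S h27)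

theorem A2_le_Z2 : A2 S ≤ Z2 S :=
  (Subgroup.zpowers_le).2 (Subgroup.mem_centralizer_singleton_iff.2 rfl)

theorem centralizer_A2 {A : Subgroup (RG S)} (hA : A ≤ A2 S) (hA1 : A ≠ ⊥) :
    Subgroup.centralizer (A : Set (RG S)) = Z2 S := by
  obtain ⟨⟨x, hx⟩, hx1⟩ := Subgroup.ne_bot_iff_exists_ne_one.1 hA1
  replace hx1 : x ≠ 1 := fun h => hx1 (Subtype.ext h)
  obtain ⟨hxC, hxo⟩ := A2_props S (hA hx)
  obtain ⟨-, hcard, -⟩ := centralizer_quarter S hxC hxo hx1
  obtain ⟨hZC, hZc, hZab⟩ := Z2_props S h27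
  have h1 : Z2 S = Subgroup.centralizer ({x} : Set (RG S)) :=
    Subgroup.eq_of_le_of_card_ge (fun z hz => Subgroup.mem_centralizer_singleton_iff.2
      (hZab z hz x (A2_le_Z2 S h27 (hA hx)))) (by rw [hcard, hZc])
  refine le_antisymm ?_ fun z hz => ?_
  · rw [h1]
    exact Subgroup.centralizer_le (Set.singleton_subset_iff.2 hx)
  · exact Subgroup.mem_centralizer_iff.2 fun a ha => (hZab z hz a (A2_le_Z2 S h27 (hA ha))).symm

theorem A2_ne : A2 S ≠ ⊥ := fun h => y2_ne S h27 (Subgroup.zpowers_eq_bot.1 h)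

theorem mem_A2_iff {z : RG S} (hz : z ∈ Z2 S) : z ∈ A2 S ↔ z ^ ((Fintype.card K + 1) / 4) = 1 := by
  refine ⟨fun h => orderOf_dvd_iff_pow_eq_one.1 (A2_props S h).2, fun h => ?_⟩
  obtain ⟨hZC, hZc, hZab⟩ := Z2_props S h27
  obtain ⟨h4b, hodd, -⟩ := quarter_facts S
  let O : Subgroup (RG S) :=
    { carrier := {w | w ∈ Z2 S ∧ w ^ ((Fintype.card K + 1) / 4) = 1}
      one_mem' := ⟨one_mem _, one_pow _⟩
      mul_mem' := fun {a b} ha hb => ⟨mul_mem ha.1 hb.1, by
        rw [(show Commute a b from hZab a ha.1 b hb.1).mul_pow, ha.2, hb.2, one_mul]⟩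
      inv_mem' := fun {a} ha => ⟨inv_mem ha.1, by rw [inv_pow, ha.2, inv_one]⟩ }
  have hle : A2 S ≤ O := fun w hw => ⟨A2_le_Z2 S h27 hw, orderOf_dvd_iff_pow_eq_one.1 (A2_props S hw).2⟩
  have hOodd : Nat.Coprime (Nat.card O) 2 := by
    rw [Nat.coprime_comm, Nat.Prime.coprime_iff_not_dvd Nat.prime_two]
    intro h2
    haveI : Fact (Nat.Prime 2) := ⟨Nat.prime_two⟩
    obtain ⟨w, hw⟩ := exists_prime_orderOf_dvd_card' 2 h2
    have hd : orderOf w ∣ (Fintype.card K + 1) / 4 := orderOf_dvd_of_pow_eq_one (Subtype.ext w.2.2)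
    rw [hw] at hd
    exact (Nat.not_even_iff_odd.2 hodd) (even_iff_two_dvd.2 hd)
  have hd : Nat.card O ∣ 2 * 2 * ((Fintype.card K + 1) / 4) := by
    rw [show 2 * 2 * ((Fintype.card K + 1) / 4) = Fintype.card K + 1 by omega, ← hZc]
    exact Subgroup.card_dvd_of_le fun w hw => hw.1
  have heq : A2 S = O := Subgroup.eq_of_le_of_card_ge hle (by
    rw [card_A2]
    exact Nat.le_of_dvd (by omega) ((Nat.Coprime.mul_right hOodd hOodd).dvd_of_dvd_mul_left hd))
  rw [heq]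
  exact ⟨hz, h⟩

/-- The four-group of the second torus. -/
def V2 : Subgroup (RG S) where
  carrier := {z | z ∈ Z2 S ∧ z * z = 1}
  one_mem' := ⟨one_mem _, one_mul 1⟩
  mul_mem' {a b} ha hb := ⟨mul_mem ha.1 hb.1, by
    rw [mul_assoc a b, ← mul_assoc b a, (Z2_props S h27).2.2 _ hb.1 _ ha.1, mul_assoc a b b, hb.2, mul_one, ha.2]⟩
  inv_mem' {a} ha := ⟨inv_mem ha.1, by rw [← _root_.mul_inv_rev, ha.2, inv_one]⟩

theorem tau_mem_Z2 : tau S ∈ Z2 S :=
  Subgroup.mem_centralizer_singleton_iff.2 ((mem_Cent S).1 (y2_spec S).1).symm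

theorem V2_cases : ∃ u : RG S, u ∈ V2 S h27 ∧ u ≠ 1 ∧ u ≠ tau S ∧
    ∀ v ∈ V2 S h27, v = 1 ∨ v = tau S ∨ v = u ∨ v = tau S * u := by
  classical
  haveI : Fact (Nat.Prime 2) := ⟨Nat.prime_two⟩
  obtain ⟨hZC, hZc, hZab⟩ := Z2_props S h27
  obtain ⟨h4b, hodd, -⟩ := quarter_facts S
  have hp : IsPGroup 2 (V2 S h27) := fun y => ⟨1, Subtype.ext (by
    show (y : RG S) ^ 2 ^ 1 = 1
    rw [pow_one, pow_two, y.2.2])⟩
  obtain ⟨j, hj⟩ := IsPGroup.iff_card.1 hp
  have hdvd : Nat.card (V2 S h27) ∣ Fintype.card K + 1 := hZc ▸ Subgroup.card_dvd_of_le fun z hz => hz.1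
  have hle : Nat.card (V2 S h27) ≤ 4 := by
    rw [hj]
    by_contra h
    have hj3 : 3 ≤ j := by
      by_contra hj'
      interval_cases j <;> simp at h
    have h8 : 2 ^ 3 ∣ Fintype.card K + 1 := (pow_dvd_pow 2 hj3).trans (hj ▸ hdvd)
    have := card_mod_eight S
    omega
  obtain ⟨Q, hQ⟩ := Sylow.exists_subgroup_card_pow_prime 2 (G := Z2 S) (n := 2)
    (by rw [hZc, h4b]; exact Dvd.intro _ rfl)
  have hQV : ∀ c ∈ Q, (c : RG S) ∈ V2 S h27 := fun c hc => by
    refine ⟨c.2, ?_⟩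
    have h1 : (⟨c, hc⟩ : Q) ^ 4 = 1 := by
      have := pow_card_eq_one' (x := (⟨c, hc⟩ : Q))
      rwa [hQ] at this
    exact congrArg Subtype.val (two_elt S (c := ⟨(c : RG S), hZC c.2⟩) (j := 2)
      (Subtype.ext (congrArg (fun t : Q => ((t.1 : ↥(Z2 S)) : RG S)) h1)))
  have ht : tau S ∈ V2 S h27 := ⟨tau_mem_Z2 S h27, tau_sq S⟩
  obtain ⟨u, hu, hu1, hut⟩ : ∃ u ∈ V2 S h27, u ≠ 1 ∧ u ≠ tau S := by
    by_contra hh
    have hsub : (fun c : ↥(Z2 S) => (c : RG S)) '' (Q : Set ↥(Z2 S)) ⊆ ({1, tau S} : Set (RG S)) := by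
      rintro _ ⟨c, hc, rfl⟩
      by_contra hz
      rw [Set.mem_insert_iff, Set.mem_singleton_iff, not_or] at hz
      exact hh ⟨_, hQV c hc, hz.1, hz.2⟩
    have h := Set.ncard_le_ncard hsub (Set.toFinite _)
    rw [Set.ncard_image_of_injective _ Subtype.val_injective, ← Nat.card_coe_set_eq,
      Set.ncard_pair (tau_ne S).symm] at h
    have : Nat.card (Q : Set ↥(Z2 S)) = 4 := by rw [SetLike.coe_sort_coe, hQ]; norm_num
    omega
  refine ⟨u, hu, hu1, hut, fun v hv => ?_⟩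
  by_contra hne
  simp only [not_or] at hne
  obtain ⟨n1, n2, n3, n4⟩ := hne
  have htu1 : tau S * u ≠ 1 := fun e => hut (by rw [← inv_eq_of_mul_eq_one_right e, tau_inv])
  have h5 : 5 ≤ Nat.card (V2 S h27) := by
    have hs : ({1, tau S, u, tau S * u, v} : Finset (RG S)) ⊆ Finset.univ.filter (fun z => z ∈ V2 S h27) := by
      intro z hz
      simp only [Finset.mem_insert, Finset.mem_singleton] at hz
      refine Finset.mem_filter.2 ⟨Finset.mem_univ _, ?_⟩
      rcases hz with rfl | rfl | rfl | rfl | rfl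
      exacts [one_mem _, ht, hu, mul_mem ht hu, hv]
    have hc5 : ({1, tau S, u, tau S * u, v} : Finset (RG S)).card = 5 := by
      rw [Finset.card_insert_of_notMem, Finset.card_insert_of_notMem, Finset.card_insert_of_notMem,
        Finset.card_pair (Ne.symm n4)]
      · simp only [Finset.mem_insert, Finset.mem_singleton, not_or]
        exact ⟨fun e => tau_ne S (by simpa using e), Ne.symm n3⟩
      · simp only [Finset.mem_insert, Finset.mem_singleton, not_or]
        exact ⟨Ne.symm hut, fun e => hu1 (by simpa using e), Ne.symm n2⟩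
      · simp only [Finset.mem_insert, Finset.mem_singleton, not_or]
        exact ⟨(tau_ne S).symm, Ne.symm hu1, Ne.symm htu1, Ne.symm n1⟩
    rw [Nat.card_eq_fintype_card, Fintype.card_subtype]
    exact hc5 ▸ Finset.card_le_card hs
  omega

theorem card_centralizer_pair {u : RG S} (huC : u ∈ Cent S) (hu : u * u = 1) (hu1 : u ≠ 1) (hut : u ≠ tau S) :
    Nat.card ↥(Subgroup.centralizer ({u} : Set (RG S)) ⊓ Cent S) = 2 * (Fintype.card K + 1) := by
  have hf1 : fC S ⟨u, huC⟩ ≠ 1 := fun h => by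
    rcases (fC_eq_one S).1 h with e | e
    · exact hu1 e
    · exact hut e
  have hf2 : fC S ⟨u, huC⟩ * fC S ⟨u, huC⟩ = 1 := by
    rw [← map_mul, show (⟨u, huC⟩ : ↥(Cent S)) * ⟨u, huC⟩ = 1 from Subtype.ext hu, map_one]
  have hmap : Subgroup.centralizer ({u} : Set (RG S)) ⊓ Cent S =
      (Subgroup.centralizer ({⟨u, huC⟩} : Set ↥(Cent S))).map (Cent S).subtype := by
    ext g
    constructor
    · rintro ⟨h1, h2⟩
      exact ⟨⟨g, h2⟩, Subgroup.mem_centralizer_singleton_iff.2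
        (Subtype.ext (Subgroup.mem_centralizer_singleton_iff.1 h1)), rfl⟩
    · rintro ⟨c, hc, rfl⟩
      exact ⟨Subgroup.mem_centralizer_singleton_iff.2
        (congrArg Subtype.val (Subgroup.mem_centralizer_singleton_iff.1 hc)), c.2⟩
  rw [hmap, ← Nat.card_congr (Subgroup.equivMapOfInjective _ _ Subtype.val_injective).toEquiv, centralizer_fC,
    card_comap_fC, PSLFacts.invol_centralizer (card_mod_four' S) hf2 hf1]

omit h27 in
/-- An element commuting with the involution and sending `u` into `u` or `u tau` commutes with `u`. -/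
theorem fix_pair_coset {c u : RG S} (hc : c ∈ Cent S) (huC : u ∈ Cent S)
    (h : c * u * c⁻¹ = u ∨ c * u * c⁻¹ = tau S * u) : c * u = u * c := by
  have key : (⟨c, hc⟩ : ↥(Cent S)) * ⟨u, huC⟩ = ⟨u, huC⟩ * ⟨c, hc⟩ := commute_of_fC S (by
    rw [← mul_inv_eq_iff_eq_mul, ← map_inv, ← map_mul, ← map_mul]
    rcases h with h | h
    · exact congrArg (fC S) (Subtype.ext h)
    · rw [show (⟨c, hc⟩ : ↥(Cent S)) * ⟨u, huC⟩ * ⟨c, hc⟩⁻¹ = ⟨tau S, tau_mem_Cent S⟩ * ⟨u, huC⟩ from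
        Subtype.ext h, map_mul, (fC_eq_one S).2 (Or.inr rfl), one_mul])
  exact congrArg Subtype.val key

/-- The normaliser of a Sylow 2-subgroup in the centraliser moves the planes through the involution. -/
theorem plane_move {E : Subgroup (RG S)} (hEC : E ≤ Cent S) (ht : tau S ∈ E) (hE : Nat.card E = 8)
    (hE2 : ∀ x ∈ E, x * x = 1) {u w : RG S} (hu : u ∈ E) (hu1 : u ≠ 1) (hut : u ≠ tau S) (hw : w ∈ E)
    (hw1 : w ≠ 1) (hwt : w ≠ tau S) :
    ∃ c ∈ Subgroup.normalizer (E : Set (RG S)) ⊓ Cent S, c * u * c⁻¹ = w ∨ c * u * c⁻¹ = tau S * w := by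
  classical
  haveI : Fact (Nat.Prime 3) := ⟨Nat.prime_three⟩
  set N := Subgroup.normalizer (E : Set (RG S)) with hN
  obtain ⟨h168, htrans⟩ := normalizer_E S hEC ht hE hE2
  letI act : MulAction ↥N (RG S) :=
    MulAction.compHom (RG S) (((MulAut.conj : RG S →* MulAut (RG S))).comp N.subtype)
  have horb : MulAction.orbit ↥N (tau S) = {x | x ∈ E ∧ x ≠ 1} := by
    ext x
    constructor
    · rintro ⟨n, rfl⟩
      exact ⟨(Subgroup.mem_normalizer_iff.1 n.2 _).1 ht, fun e => tau_ne S (conj_eq_one_iff.1 e)⟩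
    · rintro ⟨hx, hx1⟩
      obtain ⟨n, hn, e⟩ := htrans x hx hx1
      exact ⟨⟨n, hn⟩, e⟩
  have horb7 : Nat.card (MulAction.orbit ↥N (tau S)) = 7 := by
    rw [horb]
    show Nat.card {x : RG S // x ∈ E ∧ x ≠ 1} = 7
    have h8 : (Finset.univ.filter fun x : RG S => x ∈ E).card = 8 := by
      rw [← hE, Nat.card_eq_fintype_card, Fintype.card_subtype]
    rw [Nat.card_eq_fintype_card, Fintype.card_subtype,
      show (Finset.univ.filter fun x : RG S => x ∈ E ∧ x ≠ 1) =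
        (Finset.univ.filter fun x : RG S => x ∈ E).erase 1 by ext; simp [and_comm],
      Finset.card_erase_of_mem (by simp [one_mem E]), h8]
  have h1 := Nat.card_congr (MulAction.orbitProdStabilizerEquivGroup ↥N (tau S))
  rw [Nat.card_prod, horb7, h168] at h1
  obtain ⟨n, hn⟩ := exists_prime_orderOf_dvd_card' 3
    (show 3 ∣ Nat.card (MulAction.stabilizer ↥N (tau S)) by omega)
  have hnC : ((n : ↥N) : RG S) ∈ Cent S := (mem_Cent S).2 (mul_inv_eq_iff_eq_mul.1 n.2)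
  obtain ⟨c, hc⟩ : ∃ c, c = ((n : ↥N) : RG S) := ⟨_, rfl⟩
  have hcN : c ∈ N := hc ▸ n.1.2
  rw [← hc] at hnC
  have hc3 : orderOf c = 3 := by rw [hc, Subgroup.orderOf_coe, Subgroup.orderOf_coe, hn]
  have hq3 : ¬ 3 ∣ 2 * (Fintype.card K + 1) := by
    have : Fintype.card K % 3 = 0 := by rw [card_K S, pow_succ]; simp
    omega
  -- the element of order three moves every plane
  have hmove : ∀ z ∈ E, z ≠ 1 → z ≠ tau S → ¬ (c * z * c⁻¹ = z ∨ c * z * c⁻¹ = tau S * z) := by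
    intro z hz hz1 hzt h
    have hcz := fix_pair_coset S hnC (hEC hz) h
    refine hq3 ?_
    rw [← card_centralizer_pair S h27 (hEC hz) (hE2 z hz) hz1 hzt, ← hc3,
      ← Subgroup.orderOf_mk c (show c ∈ Subgroup.centralizer ({z} : Set (RG S)) ⊓ Cent S from
        ⟨Subgroup.mem_centralizer_singleton_iff.2 hcz, hnC⟩)]
    exact orderOf_dvd_natCard _
  have hf : ∀ z (hz : z ∈ E), z ≠ 1 → z ≠ tau S → fC S ⟨z, hEC hz⟩ ≠ 1 := fun z hz h1 h2 h => by
    rcases (fC_eq_one S).1 h with e | e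
    · exact h1 e
    · exact h2 e
  have hfe : ∀ a b (ha : a ∈ E) (hb : b ∈ E), fC S ⟨a, hEC ha⟩ = fC S ⟨b, hEC hb⟩ → a = b ∨ a = tau S * b := by
    intro a b ha hb h
    have h1 : fC S (⟨a, hEC ha⟩ * ⟨b, hEC hb⟩⁻¹) = 1 := by rw [map_mul, map_inv, h, mul_inv_cancel]
    rcases (fC_eq_one S).1 h1 with e | e
    · exact Or.inl (mul_inv_eq_one.1 e)
    · exact Or.inr (mul_inv_eq_iff_eq_mul.1 e)
  obtain ⟨u₁, hu₁⟩ : ∃ u₁, u₁ = c * u * c⁻¹ := ⟨_, rfl⟩
  obtain ⟨u₂, hu₂⟩ : ∃ u₂, u₂ = c * u₁ * c⁻¹ := ⟨_, rfl⟩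
  have hconj : ∀ z ∈ E, c * z * c⁻¹ ∈ E := fun z hz => (Subgroup.mem_normalizer_iff.1 hcN z).1 hz
  have hne : ∀ z, z ≠ 1 → z ≠ tau S → c * z * c⁻¹ ≠ 1 ∧ c * z * c⁻¹ ≠ tau S := fun z h1 h2 =>
    ⟨fun e => h1 (conj_eq_one_iff.1 e), fun e => h2 (by
      calc z = c⁻¹ * (c * z * c⁻¹) * c := by group
        _ = c⁻¹ * (tau S * c) := by rw [e]; group
        _ = tau S := by rw [← (mem_Cent S).1 hnC, inv_mul_cancel_left])⟩
  have m1 : u₁ ∈ E := hu₁ ▸ hconj u hu
  have m2 : u₂ ∈ E := hu₂ ▸ hconj u₁ m1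
  obtain ⟨a1, a2⟩ : u₁ ≠ 1 ∧ u₁ ≠ tau S := hu₁ ▸ hne u hu1 hut
  obtain ⟨b1, b2⟩ : u₂ ≠ 1 ∧ u₂ ≠ tau S := hu₂ ▸ hne u₁ a1 a2
  have hcube : c * u₂ * c⁻¹ = u := by
    have h3 : c ^ 3 = 1 := by rw [← hc3]; exact pow_orderOf_eq_one c
    have h3' : c * c * c = 1 := by rw [← h3, pow_succ, pow_two]
    calc c * u₂ * c⁻¹ = c * c * c * u * (c * c * c)⁻¹ := by rw [hu₂, hu₁]; group
      _ = u := by rw [h3']; group
  have d01 : fC S ⟨u₁, hEC m1⟩ ≠ fC S ⟨u, hEC hu⟩ := fun h =>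
    hmove u hu hu1 hut (by rw [← hu₁]; exact hfe _ _ m1 hu h)
  have d12 : fC S ⟨u₂, hEC m2⟩ ≠ fC S ⟨u₁, hEC m1⟩ := fun h =>
    hmove u₁ m1 a1 a2 (by rw [← hu₂]; exact hfe _ _ m2 m1 h)
  have d20 : fC S ⟨u, hEC hu⟩ ≠ fC S ⟨u₂, hEC m2⟩ := fun h =>
    hmove u₂ m2 b1 b2 (by rw [hcube]; exact hfe _ _ hu m2 h)
  -- the image is a four-group
  let Q : Subgroup (Matrix.ProjectiveSpecialLinearGroup (Fin 2) K) := (E.subgroupOf (Cent S)).map (fC S)
  have hQle : Nat.card Q ≤ 4 := by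
    have hcard : Nat.card ↥(E.subgroupOf (Cent S)) = 8 := by
      rw [Nat.card_congr (Subgroup.subgroupOfEquivOfLe hEC).toEquiv, hE]
    have hkle : (fC S).ker ≤ E.subgroupOf (Cent S) := fun z hz => by
      rcases (fC_eq_one S).1 hz with h | h
      · rw [Subgroup.mem_subgroupOf, h]; exact one_mem _
      · rw [Subgroup.mem_subgroupOf, h]; exact ht
    have h := card_comap_fC S Q
    rw [Subgroup.comap_map_eq_self hkle, hcard] at h
    omega
  by_contra hno
  have hmemQ : ∀ z (hz : z ∈ E), fC S ⟨z, hEC hz⟩ ∈ Q := fun z hz => ⟨_, hz, rfl⟩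
  have h5 : ({1, fC S ⟨u, hEC hu⟩, fC S ⟨u₁, hEC m1⟩, fC S ⟨u₂, hEC m2⟩, fC S ⟨w, hEC hw⟩} :
      Finset _).card = 5 := by
    have hno' : ∀ g ∈ N ⊓ Cent S, ∀ z (hz : z ∈ E), z = g * u * g⁻¹ → fC S ⟨z, hEC hz⟩ ≠ fC S ⟨w, hEC hw⟩ :=
      fun g hg z hz e h => hno ⟨g, hg, by rw [← e]; exact hfe _ _ hz hw h⟩
    rw [Finset.card_insert_of_notMem, Finset.card_insert_of_notMem, Finset.card_insert_of_notMem,
      Finset.card_pair (hno' (c * c) (mul_mem ⟨hcN, hnC⟩ ⟨hcN, hnC⟩) u₂ m2 (by rw [hu₂, hu₁]; group))]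
    · simp only [Finset.mem_insert, Finset.mem_singleton, not_or]
      exact ⟨d12.symm, hno' c ⟨hcN, hnC⟩ u₁ m1 hu₁⟩
    · simp only [Finset.mem_insert, Finset.mem_singleton, not_or]
      exact ⟨d01.symm, d20, hno' 1 (one_mem _) u hu (by simp)⟩
    · simp only [Finset.mem_insert, Finset.mem_singleton, not_or]
      exact ⟨(hf u hu hu1 hut).symm, (hf u₁ m1 a1 a2).symm, (hf u₂ m2 b1 b2).symm, (hf w hw hw1 hwt).symm⟩
  have hs : ({1, fC S ⟨u, hEC hu⟩, fC S ⟨u₁, hEC m1⟩, fC S ⟨u₂, hEC m2⟩, fC S ⟨w, hEC hw⟩} : Finset _) ⊆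
      Finset.univ.filter (fun z => z ∈ Q) := by
    intro z hz
    simp only [Finset.mem_insert, Finset.mem_singleton] at hz
    refine Finset.mem_filter.2 ⟨Finset.mem_univ _, ?_⟩
    rcases hz with rfl | rfl | rfl | rfl | rfl
    exacts [one_mem _, hmemQ _ hu, hmemQ _ m1, hmemQ _ m2, hmemQ _ hw]
  have := Finset.card_le_card hs
  rw [h5, ← Fintype.card_subtype, ← Nat.card_eq_fintype_card] at this
  exact absurd (this.trans hQle) (by norm_num)

/-- The normaliser of the four-group induces a cyclic group of order three. -/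
theorem card_normalizer_V2 :
    Nat.card ↥(Subgroup.normalizer (V2 S h27 : Set (RG S))) = 6 * (Fintype.card K + 1) := by
  classical
  haveI : Fact (Nat.Prime 2) := ⟨Nat.prime_two⟩
  obtain ⟨u, hu, hu1, hut, hcases⟩ := V2_cases S h27
  obtain ⟨hZC, hZc, hZab⟩ := Z2_props S h27
  have huC : u ∈ Cent S := hZC hu.1
  have htV : tau S ∈ V2 S h27 := ⟨tau_mem_Z2 S h27, tau_sq S⟩
  -- a Sylow subgroup above the four-group
  have hp : IsPGroup 2 (V2 S h27) := fun y => ⟨1, Subtype.ext (by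
    show (y : RG S) ^ 2 ^ 1 = 1
    rw [pow_one, pow_two, y.2.2])⟩
  obtain ⟨P, hP⟩ := hp.exists_le_sylow
  obtain ⟨hE, hE2⟩ := sylow_two S P
  set E := (P : Subgroup (RG S)) with hEdef
  have ht : tau S ∈ E := hP htV
  have hEC : E ≤ Cent S := fun z hz => (mem_Cent S).2 (comm_of_sq hE2 hz ht)
  obtain ⟨g, hg, hgt⟩ := (normalizer_E S hEC ht hE hE2).2 u (hP hu) hu1
  set w := g⁻¹ * tau S * g with hw
  have hwE : w ∈ E := by
    have h := (Subgroup.mem_normalizer_iff.1 (inv_mem hg) (tau S)).1 ht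
    rwa [inv_inv] at h
  have hw1 : w ≠ 1 := fun e => tau_ne S (by
    calc tau S = g * w * g⁻¹ := by rw [hw]; group
      _ = 1 := by rw [e]; group)
  have hwt : w ≠ tau S := fun e => hut (by
    calc u = g * tau S * g⁻¹ := hgt.symm
      _ = g * w * g⁻¹ := by rw [e]
      _ = tau S := by rw [hw]; group)
  obtain ⟨c, ⟨hcN, hcC⟩, hcu⟩ := plane_move S h27 hEC ht hE hE2 (hP hu) hu1 hut hwE hw1 hwt
  obtain ⟨h, hh⟩ : ∃ h, h = g * c := ⟨_, rfl⟩
  have hht : h * tau S * h⁻¹ = u := by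
    calc h * tau S * h⁻¹ = g * (c * tau S * c⁻¹) * g⁻¹ := by rw [hh]; group
      _ = u := by rw [(mem_Cent S).1 hcC, mul_inv_cancel_right, hgt]
  have hhu : h * u * h⁻¹ = tau S ∨ h * u * h⁻¹ = u * tau S := by
    have e : h * u * h⁻¹ = g * (c * u * c⁻¹) * g⁻¹ := by rw [hh]; group
    rcases hcu with h' | h' <;> rw [e, h', hw]
    · left; group
    · right
      rw [show g * (tau S * (g⁻¹ * tau S * g)) * g⁻¹ = (g * tau S * g⁻¹) * tau S by group, hgt]
  have hVuC : ∀ x y, x ∈ V2 S h27 → y ∈ V2 S h27 → x * y = y * x := fun x y hx hy => hZab x hx.1 y hy.1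
  have hhN : h ∈ Subgroup.normalizer (V2 S h27 : Set (RG S)) := by
    rw [Subgroup.mem_normalizer_iff_map_conj_eq]
    refine Subgroup.eq_of_le_of_card_ge ?_ (le_of_eq (Nat.card_congr
      (Subgroup.equivMapOfInjective _ _ (MulAut.conj h).injective).toEquiv))
    rintro _ ⟨v, hv, rfl⟩
    show h * v * h⁻¹ ∈ V2 S h27
    have hu' : h * u * h⁻¹ ∈ V2 S h27 := by
      rcases hhu with e | e <;> rw [e]
      exacts [htV, mul_mem hu htV]
    rcases hcases v hv with rfl | rfl | rfl | rfl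
    · simp
    · rw [hht]; exact hu
    · exact hu'
    · rw [show h * (tau S * u) * h⁻¹ = (h * tau S * h⁻¹) * (h * u * h⁻¹) by group, hht]
      exact mul_mem hu hu'
  set N := Subgroup.normalizer (V2 S h27 : Set (RG S)) with hN
  letI act : MulAction ↥N (RG S) :=
    MulAction.compHom (RG S) (((MulAut.conj : RG S →* MulAut (RG S))).comp N.subtype)
  have hst : (MulAction.stabilizer ↥N (tau S)).map N.subtype =
      Subgroup.centralizer ({u} : Set (RG S)) ⊓ Cent S := by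
    ext x
    constructor
    · rintro ⟨n, hn, rfl⟩
      have hnC : (n : RG S) ∈ Cent S := (mem_Cent S).2 (mul_inv_eq_iff_eq_mul.1 hn)
      refine ⟨Subgroup.mem_centralizer_singleton_iff.2 (fix_pair_coset S hnC huC ?_), hnC⟩
      rcases hcases _ ((Subgroup.mem_normalizer_iff.1 n.2 u).1 hu) with e | e | e | e
      · exact absurd (conj_eq_one_iff.1 e) hu1
      · exact absurd (MulAction.injective (⟨n.1, n.2⟩ : ↥N) (show n • u = n • tau S from e.trans hn.symm)) hut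
      · exact Or.inl e
      · exact Or.inr e
    · rintro ⟨h1, h2⟩
      have hxu := Subgroup.mem_centralizer_singleton_iff.1 h1
      have hxt := (mem_Cent S).1 h2
      have hxN : x ∈ N := by
        rw [hN]
        refine Subgroup.centralizer_le_normalizer _ (Subgroup.mem_centralizer_iff.2 fun v hv => ?_)
        rcases hcases v hv with rfl | rfl | rfl | rfl
        · rw [one_mul, mul_one]
        · exact hxt.symm
        · exact hxu.symm
        · rw [mul_assoc, ← hxu, ← mul_assoc, ← hxt, mul_assoc]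
      exact ⟨⟨x, hxN⟩, mul_inv_eq_iff_eq_mul.2 hxt, rfl⟩
  have htu1 : tau S * u ≠ 1 := fun e => hut (by rw [← inv_eq_of_mul_eq_one_right e, tau_inv])
  have horb : MulAction.orbit ↥N (tau S) = {tau S, u, tau S * u} := by
    refine le_antisymm ?_ ?_
    · rintro _ ⟨n, rfl⟩
      rcases hcases _ ((Subgroup.mem_normalizer_iff.1 n.2 _).1 htV) with e | e | e | e
      · exact absurd (conj_eq_one_iff.1 e) (tau_ne S)
      · exact Or.inl e
      · exact Or.inr (Or.inl e)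
      · exact Or.inr (Or.inr e)
    · have hmem_u : u ∈ MulAction.orbit ↥N (tau S) := ⟨⟨h, hhN⟩, hht⟩
      rintro v (rfl | rfl | rfl)
      · exact MulAction.mem_orbit_self _
      · exact hmem_u
      · refine ⟨⟨h * h, mul_mem hhN hhN⟩, ?_⟩
        show h * h * tau S * (h * h)⁻¹ = tau S * u
        rw [show h * h * tau S * (h * h)⁻¹ = h * (h * tau S * h⁻¹) * h⁻¹ by group, hht]
        rcases hhu with e | e
        · exfalso
          have hfix : h * (tau S * u) * h⁻¹ = tau S * u := by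
            rw [show h * (tau S * u) * h⁻¹ = (h * tau S * h⁻¹) * (h * u * h⁻¹) by group, hht, e]
            exact hVuC u (tau S) hu htV
          obtain ⟨k, hk⟩ := isConj_iff.1 (involutions_conj S (mul_mem htV hu).2 htu1)
          have hC : ∀ z, z * (tau S * u) = (tau S * u) * z → k⁻¹ * z * k ∈ Cent S := fun z hz => (mem_Cent S).2 (by
            calc k⁻¹ * z * k * tau S = k⁻¹ * (z * (k * tau S * k⁻¹)) * k := by group
              _ = k⁻¹ * ((k * tau S * k⁻¹) * z) * k := by rw [hk, hz]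
              _ = _ := by group)
          have h1 := fix_pair_coset S (c := k⁻¹ * h * k) (u := k⁻¹ * tau S * k) (hC _ (mul_inv_eq_iff_eq_mul.1 hfix))
            (hC _ (hVuC _ _ htV (mul_mem htV hu))) (Or.inr (by
              calc k⁻¹ * h * k * (k⁻¹ * tau S * k) * (k⁻¹ * h * k)⁻¹ = k⁻¹ * (h * tau S * h⁻¹) * k := by group
                _ = k⁻¹ * u * k := by rw [hht]
                _ = k⁻¹ * ((tau S * u) * tau S) * k := by
                  rw [show tau S * u * tau S = u by rw [hVuC _ _ htV hu, mul_assoc, tau_sq, mul_one]]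
                _ = k⁻¹ * (k * tau S * k⁻¹ * tau S) * k := by rw [hk]
                _ = _ := by group))
          apply hut
          calc u = h * tau S * h⁻¹ := hht.symm
            _ = k * ((k⁻¹ * h * k) * (k⁻¹ * tau S * k)) * k⁻¹ * h⁻¹ := by group
            _ = tau S := by rw [h1]; group
        · rw [e, hVuC u (tau S) hu htV]
  have h3 : Nat.card (MulAction.orbit ↥N (tau S)) = 3 := by
    rw [horb, Nat.card_coe_set_eq, Set.ncard_eq_three]
    exact ⟨_, _, _, hut.symm, fun e => hu1 (by simpa using e),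
      fun e => tau_ne S (by simpa using e), rfl⟩
  rw [← Nat.card_congr (MulAction.orbitProdStabilizerEquivGroup ↥N (tau S)), Nat.card_prod, h3,
    Nat.card_congr (Subgroup.equivMapOfInjective _ _ N.subtype_injective).toEquiv, hst,
    card_centralizer_pair S h27 huC hu.2 hu1 hut]
  ring

theorem normalizer_A2_eq_V2 :
    Subgroup.normalizer (A2 S : Set (RG S)) = Subgroup.normalizer (V2 S h27 : Set (RG S)) := by
  obtain ⟨hZC, hZc, hZab⟩ := Z2_props S h27
  obtain ⟨u, hu, hu1, hut, hcases⟩ := V2_cases S h27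
  ext g
  constructor <;> intro hg <;> rw [Subgroup.mem_normalizer_iff_map_conj_eq] at hg ⊢
  · have hinv : ∀ x ∈ A2 S, g⁻¹ * x * g ∈ A2 S := fun x hx => by
      rw [← hg] at hx
      obtain ⟨y, hy, e⟩ := hx
      rw [← e]
      simpa [mul_assoc] using hy
    refine Subgroup.eq_of_le_of_card_ge ?_ (le_of_eq (Nat.card_congr
      (Subgroup.equivMapOfInjective _ _ (MulAut.conj g).injective).toEquiv))
    rintro _ ⟨v, ⟨hv, hv2⟩, rfl⟩
    show g * v * g⁻¹ ∈ V2 S h27
    refine ⟨?_, by rw [conj_mul, hv2, mul_one, mul_inv_cancel]⟩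
    rw [← centralizer_A2 S h27 le_rfl (A2_ne S h27)] at hv ⊢
    refine Subgroup.mem_centralizer_iff.2 fun x hx => ?_
    calc x * (g * v * g⁻¹) = g * ((g⁻¹ * x * g) * v) * g⁻¹ := by group
      _ = g * (v * (g⁻¹ * x * g)) * g⁻¹ := by rw [Subgroup.mem_centralizer_iff.1 hv _ (hinv x hx)]
      _ = _ := by group
  · refine Subgroup.eq_of_le_of_card_ge ?_ (le_of_eq (Nat.card_congr
      (Subgroup.equivMapOfInjective _ _ (MulAut.conj g).injective).toEquiv))
    rintro _ ⟨x, hx, rfl⟩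
    show g * x * g⁻¹ ∈ A2 S
    have htV : tau S ∈ V2 S h27 := ⟨tau_mem_Z2 S h27, tau_sq S⟩
    have hcomm : ∀ v ∈ V2 S h27, g * x * g⁻¹ * v = v * (g * x * g⁻¹) := fun v hv => by
      rw [← hg] at hv
      obtain ⟨y, hy, rfl⟩ := hv
      show g * x * g⁻¹ * (g * y * g⁻¹) = g * y * g⁻¹ * (g * x * g⁻¹)
      rw [conj_mul, conj_mul, hZab x (A2_le_Z2 S h27 hx) y hy.1]
    obtain ⟨y, hy⟩ : ∃ y, y = g * x * g⁻¹ := ⟨_, rfl⟩
    rw [← hy] at hcomm ⊢
    have hyb : y ^ ((Fintype.card K + 1) / 4) = 1 := by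
      rw [hy, conj_pow, orderOf_dvd_iff_pow_eq_one.1 (A2_props S hx).2, mul_one, mul_inv_cancel]
    set C := Subgroup.centralizer ({u} : Set (RG S)) ⊓ Cent S with hC
    have hyC : y ∈ C := ⟨Subgroup.mem_centralizer_singleton_iff.2 (hcomm u hu), (mem_Cent S).2 (hcomm _ htV)⟩
    have hle : Z2 S ≤ C := fun z hz => ⟨Subgroup.mem_centralizer_singleton_iff.2 (hZab z hz u hu.1), hZC hz⟩
    have hidx : (Z2 S).relIndex C = 2 := by
      have h := Subgroup.card_mul_index ((Z2 S).subgroupOf C)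
      rw [Nat.card_congr (Subgroup.subgroupOfEquivOfLe hle).toEquiv, hZc, hC,
        card_centralizer_pair S h27 (hZC hu.1) hu.2 hu1 hut, mul_comm 2] at h
      exact Nat.eq_of_mul_eq_mul_left (by omega) h
    have hy2 : y ^ 2 ∈ Z2 S := by
      have := Subgroup.sq_mem_of_index_two (H := (Z2 S).subgroupOf C) hidx ⟨y, hyC⟩
      exact this
    have hyZ : y ∈ Z2 S := mem_of_coprime_pow (Nat.coprime_two_left.2 (quarter_facts S).2.1) hy2
      (hyb.symm ▸ one_mem _)
    exact (mem_A2_iff S h27 hyZ).2 hyb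

theorem normalizer_A2 {A : Subgroup (RG S)} (hA : A ≤ A2 S) (hA1 : A ≠ ⊥) :
    Subgroup.normalizer (A : Set (RG S)) = Subgroup.normalizer (A2 S : Set (RG S)) := by
  obtain ⟨hZC, hZc, hZab⟩ := Z2_props S h27
  ext g
  constructor <;> intro hg <;> rw [Subgroup.mem_normalizer_iff_map_conj_eq] at hg ⊢
  · refine Subgroup.eq_of_le_of_card_ge ?_ (le_of_eq (Nat.card_congr
      (Subgroup.equivMapOfInjective _ _ (MulAut.conj g).injective).toEquiv))
    rintro _ ⟨x, hx, rfl⟩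
    show g * x * g⁻¹ ∈ A2 S
    have hZ : g * x * g⁻¹ ∈ Z2 S := by
      rw [← centralizer_A2 S h27 hA hA1]
      refine Subgroup.mem_centralizer_iff.2 fun a ha => ?_
      have ha' : a ∈ A.map (MulAut.conj g : RG S →* RG S) := by rw [hg]; exact ha
      obtain ⟨b, hb, rfl⟩ := ha'
      show g * b * g⁻¹ * (g * x * g⁻¹) = g * x * g⁻¹ * (g * b * g⁻¹)
      rw [conj_mul, conj_mul, hZab b (A2_le_Z2 S h27 (hA hb)) x (A2_le_Z2 S h27 hx)]
    rw [mem_A2_iff S h27 hZ, conj_pow, orderOf_dvd_iff_pow_eq_one.1 (A2_props S hx).2, mul_one, mul_inv_cancel]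
  · have hle : A.map (MulAut.conj g).toMonoidHom ≤ A2 S := hg ▸ Subgroup.map_mono hA
    haveI := cyclic_A2 S
    have hc : Nat.card ↥(A.map (MulAut.conj g).toMonoidHom) = Nat.card A :=
      (Nat.card_congr (Subgroup.equivMapOfInjective _ _ (MulAut.conj g).injective).toEquiv).symm
    have e : (A.map (MulAut.conj g).toMonoidHom).subgroupOf (A2 S) = A.subgroupOf (A2 S) :=
      cyclic_sub_eq (by rw [Nat.card_congr (Subgroup.subgroupOfEquivOfLe hle).toEquiv,
        Nat.card_congr (Subgroup.subgroupOfEquivOfLe hA).toEquiv, hc])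
    rw [Subgroup.subgroupOf_inj, inf_eq_left.2 hle, inf_eq_left.2 hA] at e
    exact e

end Cfsg.Agent.Small.Ree
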