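import Cfsg.Agent.Lib.Small.Ree.CountTori

/-!
The small Ree groups: exactly two classes of tori of orders `q + 1 ± 3 ^ (m + 1)`.
-/

set_option autoImplicit false
set_option synthInstance.maxHeartbeats 400000
set_option maxHeartbeats 1600000
set_option maxRecDepth 4000
set_option linter.style.haveILetI false

namespace Cfsg.Agent.Small.Ree

open Cfsg Cfsg.Lie Cfsg.Agent.Lie Cfsg.Agent.Lie.Twist Matrix
open scoped MatrixGroups
open Cfsg.Agent.Lie.G2 (Os Setup)
open Cfsg.Agent.Small.TwistAut Cfsg.Agent.Small.TwistAut.G2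

variable {K : Type*} [Field K] [Fintype K] {m : ℕ} (S : Setup K m)

/-- Elements conjugate into a given torus. -/
def InT (x g : RG S) : Prop := g ≠ 1 ∧ ∃ a : RG S, a⁻¹ * g * a ∈ Tor S x

theorem exists_singer {p : ℕ} (hp : p.Prime) (hd : p ∣ Kp K) :
    ∃ x : RG S, IsSinger S x ∧ orderOf x = p := by
  haveI : Fact p.Prime := ⟨hp⟩
  obtain ⟨x, hx⟩ := exists_prime_orderOf_dvd_card' p (G := RG S) (by
    rw [card_split]; exact Dvd.dvd.mul_left hd _)
  exact ⟨x, ⟨by rw [hx]; exact hp, by rw [hx]; exact hd⟩, hx⟩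

theorem singer_seven_le {x : RG S} (hx : IsSinger S x) : 7 ≤ orderOf x := by
  haveI : Fact (orderOf x).Prime := ⟨hx.1⟩
  have h6 := order_six S hx.1 hx.2
  have hu : (Fintype.card K : ZMod (orderOf x)) ≠ 0 := by
    intro h0
    rw [h0] at h6
    have h := pow_orderOf_eq_one (0 : ZMod (orderOf x))
    rw [h6, zero_pow (by norm_num)] at h
    exact zero_ne_one h
  have h := ZMod.orderOf_dvd_card_sub_one hu
  rw [h6] at h
  have := hx.1.two_le
  omega

theorem card_group_Kp : Nat.card (RG S) =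
    Fintype.card K ^ 3 * (Fintype.card K - 1) * (Fintype.card K + 1) * Kp K := by
  have hle : Fintype.card K ≤ Fintype.card K ^ 2 := Nat.le_self_pow two_ne_zero _
  have e : Fintype.card K ^ 3 + 1 = (Fintype.card K + 1) * Kp K := by
    rw [Kp]; zify [hle]; ring
  show Nat.card ↥(twistedG2 K (3 ^ m)) = _
  rw [S.card_group, ← card_K S, e, mul_assoc (Fintype.card K ^ 3 * (Fintype.card K - 1))]

variable (h27 : 27 ≤ Fintype.card K)

include h27

theorem conj_into_tor {x y : RG S} (hx : IsSinger S x) (hy : IsSinger S y)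
    (hd : orderOf y ∣ Nat.card ↥(Tor S x)) : ∃ a : RG S, ∀ g ∈ Tor S y, a⁻¹ * g * a ∈ Tor S x := by
  haveI : Fact (orderOf y).Prime := ⟨hy.1⟩
  obtain ⟨a, ha⟩ := pgroup_conj_into (tor_hall S h27 hx hy.1 hd)
    (zpowers_isPGroup (x := y) (p := orderOf y) (j := 1) (by rw [pow_one, pow_orderOf_eq_one]))
  refine ⟨a, fun g hg => ?_⟩
  have hy' := ha y (Subgroup.mem_zpowers y)
  rw [← tor_centralizer S h27 hx hy' (fun e => singer_ne S hy (by
    rw [mul_assoc, inv_mul_eq_one, eq_comm, mul_eq_right] at e; exact e))]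
  refine Subgroup.mem_centralizer_singleton_iff.2 ?_
  calc a⁻¹ * g * a * (a⁻¹ * y * a) = a⁻¹ * (g * y) * a := by group
    _ = a⁻¹ * (y * g) * a := by rw [Subgroup.mem_centralizer_singleton_iff.1 hg]
    _ = _ := by group

theorem tor_dvd {x : RG S} (hx : IsSinger S x) : Nat.card ↥(Tor S x) ∣ Kp K := by
  have hG : Nat.card ↥(Tor S x) ∣ Nat.card (RG S) := Subgroup.card_subgroup_dvd_card _
  rw [card_split] at hG
  refine Nat.Coprime.dvd_of_dvd_mul_left (Nat.coprime_of_dvd fun r hr hrT hr1 => ?_) hG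
  obtain ⟨h2, h3, ha, hb⟩ := (factor_prime S hr).2.2 (tor_primes S h27 hx hr hrT)
  rcases hr.dvd_mul.1 hr1 with h | h
  · rcases hr.dvd_mul.1 h with h | h
    · rcases hr.dvd_mul.1 h with h | h
      · exact h2 ((Nat.prime_dvd_prime_iff_eq hr Nat.prime_two).1 (hr.dvd_of_dvd_pow (show r ∣ 2 ^ 3 from h)))
      · rw [card_K S, ← pow_mul] at h
        exact h3 ((Nat.prime_dvd_prime_iff_eq hr Nat.prime_three).1 (hr.dvd_of_dvd_pow h))
    · exact ha h
  · exact hb h

theorem tor_ge {x : RG S} (hx : IsSinger S x) : 7 ≤ Nat.card ↥(Tor S x) :=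
  (singer_seven_le S hx).trans
    (Nat.le_of_dvd Nat.card_pos (Subgroup.orderOf_dvd_natCard _ (self_mem_tor S x)))

/-- The number of elements conjugate into one torus. -/
theorem count_T {x : RG S} (hx : IsSinger S x) :
    Nat.card {g : RG S // InT S x g} * Nat.card ↥(Subgroup.normalizer (Tor S x : Set (RG S))) =
      Nat.card (RG S) * (Nat.card ↥(Tor S x) - 1) := by
  classical
  have key := count_conj (Tor S x) (Subgroup.normalizer (Tor S x : Set (RG S))) (InT S x)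
    (fun a g hg => ⟨fun e => hg.1 (by
      rw [mul_assoc, inv_mul_eq_one, eq_comm, mul_eq_right] at e; exact e), by
      obtain ⟨b, hb⟩ := hg.2
      exact ⟨a⁻¹ * b, by convert hb using 1; group⟩⟩)
    (fun n hn h hh => by
      have := (Subgroup.mem_normalizer_iff.1 (inv_mem hn) h).1 hh
      rwa [inv_inv] at this)
    (fun g hg => hg.2)
    (fun h hh hp a ha => by
      have h1 : a⁻¹ * h * a ≠ 1 := fun e => hp.1 (by
        rw [mul_assoc, inv_mul_eq_one, eq_comm, mul_eq_right] at e; exact e)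
      refine Subgroup.mem_normalizer_iff_map_conj_eq.2 (Subgroup.eq_of_le_of_card_ge ?_ (le_of_eq (Nat.card_congr
        (Subgroup.equivMapOfInjective _ _ (MulAut.conj a).injective).toEquiv)))
      rintro _ ⟨t, ht, rfl⟩
      show a * t * a⁻¹ ∈ Tor S x
      rw [← tor_centralizer S h27 hx hh hp.1]
      refine Subgroup.mem_centralizer_singleton_iff.2 ?_
      have hc := tor_comm S h27 hx ht ha
      calc a * t * a⁻¹ * h = a * (t * (a⁻¹ * h * a)) * a⁻¹ := by group
        _ = a * ((a⁻¹ * h * a) * t) * a⁻¹ := by rw [hc]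
        _ = _ := by group)
  rw [key]
  congr 1
  haveI : Fintype ↥(Tor S x) := Fintype.ofFinite _
  rw [Nat.card_eq_fintype_card, Nat.card_eq_fintype_card, Fintype.card_subtype,
    show (Finset.univ.filter fun h : Tor S x => InT S x (h : RG S)) = Finset.univ.erase 1 by
      ext h
      rw [Finset.mem_filter, Finset.mem_erase]
      simp only [Finset.mem_univ, true_and, and_true]
      exact ⟨fun hh e => hh.1 (by rw [e]; rfl),
        fun hh => ⟨fun e => hh (Subtype.ext e), 1, by rw [inv_one, one_mul, mul_one]; exact h.2⟩⟩,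
    Finset.card_erase_of_mem (Finset.mem_univ _), Finset.card_univ]

theorem inT_inK {x g : RG S} (hx : IsSinger S x) (hg : InT S x g) : InK S g := by
  obtain ⟨hg1, a, ha⟩ := hg
  refine ⟨hg1, a * x * a⁻¹, ?_, Subgroup.mem_centralizer_singleton_iff.2 ?_⟩
  · have e : orderOf (a * x * a⁻¹) = orderOf x := by
      have := conj_orderOf a⁻¹ x
      rwa [inv_inv] at this
    exact ⟨e ▸ hx.1, e ▸ hx.2⟩
  · calc g * (a * x * a⁻¹) = a * ((a⁻¹ * g * a) * x) * a⁻¹ := by group
      _ = a * (x * (a⁻¹ * g * a)) * a⁻¹ := by rw [Subgroup.mem_centralizer_singleton_iff.1 ha]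
      _ = _ := by group

omit h27 in
theorem inT_order {x g : RG S} (hg : InT S x g) :
    orderOf g ∣ Nat.card ↥(Tor S x) ∧ orderOf g ≠ 1 := by
  obtain ⟨hg1, a, ha⟩ := hg
  exact ⟨conj_orderOf a g ▸ Subgroup.orderOf_dvd_natCard _ ha, fun e => hg1 (orderOf_eq_one_iff.1 e)⟩

/-- A torus of order the whole of `q ^ 2 - q + 1` is impossible. -/
theorem not_whole {x : RG S} (hx : IsSinger S x) : Nat.card ↥(Tor S x) ≠ Kp K := by
  intro ht
  obtain ⟨e, he6, hN⟩ := tor_index S h27 hx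
  have hiff : ∀ g, InK S g ↔ InT S x g := fun g => ⟨fun hg => by
    obtain ⟨hg1, y, hy, hgy⟩ := hg
    obtain ⟨a, ha⟩ := conj_into_tor S h27 hx hy (by rw [ht]; exact hy.2)
    exact ⟨hg1, a, ha g hgy⟩, inT_inK S h27 hx⟩
  have h1 := count_T S h27 hx
  rw [← Nat.card_congr (Equiv.subtypeEquivRight hiff), hN, ht, card_group_Kp] at h1
  have h2 := count_K S h27
  have hle : Fintype.card K ≤ Fintype.card K ^ 2 := Nat.le_self_pow two_ne_zero _
  have hK : Kp K - 1 = Fintype.card K * (Fintype.card K - 1) := by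
    rw [Kp, Nat.add_sub_cancel, pow_two, Nat.mul_sub, mul_one]
  have h3 : Fintype.card K ^ 2 - 2 * Fintype.card K = Fintype.card K * (Fintype.card K - 2) := by
    rw [pow_two, Nat.mul_sub, mul_comm 2]
  have hpos : 0 < Fintype.card K ^ 3 * (Fintype.card K - 1) * (Fintype.card K + 1) * Kp K := by
    rw [← card_group_Kp S]; exact Nat.card_pos
  have h4 : 3 * (Fintype.card K * (Fintype.card K - 1)) = e * (Fintype.card K * (Fintype.card K - 2)) := by
    refine Nat.eq_of_mul_eq_mul_left hpos ?_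
    rw [hK] at h1
    rw [h3] at h2
    zify at h1 h2 ⊢
    linear_combination (e : ℤ) * (Kp K : ℤ) * h2 - 3 * h1
  have h5 : 3 * (Fintype.card K - 1) = e * (Fintype.card K - 2) :=
    Nat.eq_of_mul_eq_mul_left (show 0 < Fintype.card K by omega) (by linarith)
  have := Nat.le_of_dvd (by norm_num) he6
  interval_cases e <;> omega

/-- The two tori. -/
theorem two_tori : ∃ x₁ x₂ : RG S, IsSinger S x₁ ∧ IsSinger S x₂ ∧
    Nat.card ↥(Tor S x₁) + 3 ^ (m + 1) = Fintype.card K + 1 ∧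
    Nat.card ↥(Tor S x₂) = Fintype.card K + 1 + 3 ^ (m + 1) ∧
    Nat.card ↥(Subgroup.normalizer (Tor S x₁ : Set (RG S))) = 6 * Nat.card ↥(Tor S x₁) ∧
    Nat.card ↥(Subgroup.normalizer (Tor S x₂ : Set (RG S))) = 6 * Nat.card ↥(Tor S x₂) ∧
    Nat.card ↥(Tor S x₁) * Nat.card ↥(Tor S x₂) = Kp K ∧
    Nat.Coprime (Nat.card ↥(Tor S x₁)) (Nat.card ↥(Tor S x₂)) ∧
    ∀ y, IsSinger S y → orderOf y ∣ Nat.card ↥(Tor S x₁) ∨ orderOf y ∣ Nat.card ↥(Tor S x₂) := by
  classical
  haveI : Fintype (RG S) := Fintype.ofFinite _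
  have hle : Fintype.card K ≤ Fintype.card K ^ 2 := Nat.le_self_pow two_ne_zero _
  have hle2 : 2 * Fintype.card K ≤ Fintype.card K ^ 2 := by
    rw [pow_two]; exact Nat.mul_le_mul_right _ (by omega)
  have hKne : Kp K ≠ 0 := Nat.succ_ne_zero _
  have hK1 : 1 < Kp K := by
    rw [Kp]
    have : 2 * Fintype.card K ≤ Fintype.card K ^ 2 := hle2
    omega
  obtain ⟨p, hp, hpd⟩ := Nat.exists_prime_and_dvd hK1.ne'
  obtain ⟨x₁, hx₁, -⟩ := exists_singer S hp hpd
  have hfac : ∀ {x : RG S}, IsSinger S x → ∀ r : ℕ, r.Prime → r ∣ Nat.card ↥(Tor S x) →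
      (Nat.card ↥(Tor S x)).factorization r = (Kp K).factorization r := by
    intro x hx r hr hrT
    obtain ⟨h2, h3, ha, hb⟩ := (factor_prime S hr).2.2 (tor_primes S h27 hx hr hrT)
    rw [← tor_hall S h27 hx hr hrT, factorization_split S hr h2 h3, Nat.factorization_eq_zero_of_not_dvd ha,
      Nat.factorization_eq_zero_of_not_dvd hb, zero_add, zero_add, Kp]
  -- a second torus
  obtain ⟨p₂, hp₂, hp₂d, hp₂n⟩ : ∃ r, r.Prime ∧ r ∣ Kp K ∧ ¬ r ∣ Nat.card ↥(Tor S x₁) := by
    by_contra h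
    push Not at h
    refine not_whole S h27 hx₁ (Nat.eq_of_factorization_eq Nat.card_pos.ne' hKne fun r => ?_)
    by_cases hr : r.Prime
    · by_cases hrK : r ∣ Kp K
      · exact hfac hx₁ r hr (h r hr hrK)
      · rw [Nat.factorization_eq_zero_of_not_dvd hrK,
          Nat.factorization_eq_zero_of_not_dvd fun h' => hrK (h'.trans (tor_dvd S h27 hx₁))]
    · rw [Nat.factorization_eq_zero_of_not_prime _ hr, Nat.factorization_eq_zero_of_not_prime _ hr]
  obtain ⟨x₂, hx₂, hx₂o⟩ := exists_singer S hp₂ hp₂d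
  -- tori sharing a prime are conjugate
  have hshare : ∀ {x y : RG S}, IsSinger S x → IsSinger S y →
      ¬ Nat.Coprime (Nat.card ↥(Tor S x)) (Nat.card ↥(Tor S y)) →
      Nat.card ↥(Tor S y) = Nat.card ↥(Tor S x) := by
    intro x y hx hy hnc
    obtain ⟨r, hr, hrx, hry⟩ := Nat.Prime.not_coprime_iff_dvd.1 hnc
    haveI : Fact r.Prime := ⟨hr⟩
    obtain ⟨⟨w, hw⟩, hwo⟩ := exists_prime_orderOf_dvd_card' r hry
    rw [Subgroup.orderOf_mk] at hwo
    have hwK := tor_primes S h27 hy hr hry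
    have hws : IsSinger S w := ⟨hwo ▸ hr, hwo ▸ hwK⟩
    obtain ⟨a, ha⟩ := conj_into_tor S h27 hx hws (hwo ▸ hrx)
    have hTw : Tor S w = Tor S y := tor_eq S h27 hy hw (singer_ne S hws)
    obtain ⟨⟨v, hv⟩, hvo⟩ := exists_prime_orderOf_dvd_card' r hrx
    rw [Subgroup.orderOf_mk] at hvo
    have hvs : IsSinger S v := ⟨hvo ▸ hr, hvo ▸ hwK⟩
    obtain ⟨b, hb⟩ := conj_into_tor S h27 hy hvs (hvo ▸ hry)
    have hTv : Tor S v = Tor S x := tor_eq S h27 hx hv (singer_ne S hvs)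
    refine le_antisymm ?_ ?_
    · rw [← hTw]
      exact Nat.card_le_card_of_injective (fun g : Tor S w => (⟨_, ha g g.2⟩ : Tor S x)) fun g g' e =>
        Subtype.ext ((MulAut.conj a⁻¹).injective (by simpa using congrArg Subtype.val e))
    · rw [← hTv]
      exact Nat.card_le_card_of_injective (fun g : Tor S v => (⟨_, hb g g.2⟩ : Tor S y)) fun g g' e =>
        Subtype.ext ((MulAut.conj b⁻¹).injective (by simpa using congrArg Subtype.val e))
  have hc12 : Nat.Coprime (Nat.card ↥(Tor S x₁)) (Nat.card ↥(Tor S x₂)) := by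
    by_contra hnc
    refine hp₂n ?_
    rw [← hshare hx₁ hx₂ hnc, ← hx₂o]
    exact Subgroup.orderOf_dvd_natCard _ (self_mem_tor S x₂)
  have hdisj : ∀ {x y : RG S}, Nat.Coprime (Nat.card ↥(Tor S x)) (Nat.card ↥(Tor S y)) → ∀ g,
      InT S x g → InT S y g → False := fun hc g hx hy =>
    (inT_order S hx).2 (Nat.dvd_one.1 (hc ▸ Nat.dvd_gcd (inT_order S hx).1 (inT_order S hy).1))
  -- lower bounds
  obtain ⟨e₁, he₁, hN₁⟩ := tor_index S h27 hx₁
  obtain ⟨e₂, he₂, hN₂⟩ := tor_index S h27 hx₂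
  have hbound : ∀ {x : RG S} {e : ℕ}, IsSinger S x →
      Nat.card ↥(Subgroup.normalizer (Tor S x : Set (RG S))) = e * Nat.card ↥(Tor S x) →
      6 * Nat.card (RG S) ≤ 7 * e * Nat.card {g : RG S // InT S x g} := by
    intro x e hx hN
    have h := count_T S h27 hx
    rw [hN] at h
    have h7 := tor_ge S h27 hx
    obtain ⟨t, ht⟩ : ∃ t, Nat.card ↥(Tor S x) = t + 1 := ⟨Nat.card ↥(Tor S x) - 1, by omega⟩
    rw [ht, Nat.add_sub_cancel] at h
    refine Nat.le_of_mul_le_mul_right (c := t + 1) ?_ (Nat.succ_pos t)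
    calc 6 * Nat.card (RG S) * (t + 1) ≤ 7 * Nat.card (RG S) * t := by nlinarith [Nat.card_pos (α := RG S)]
      _ = _ := by rw [mul_assoc, ← h]; ring
  have hnK : 3 * Nat.card {g : RG S // InK S g} < Nat.card (RG S) := by
    rw [count_K S h27, card_group_Kp, Kp]
    refine Nat.mul_lt_mul_of_pos_left (by omega) ?_
    have : 0 < Fintype.card K ^ 3 * (Fintype.card K - 1) * (Fintype.card K + 1) * Kp K := by
      rw [← card_group_Kp S]; exact Nat.card_pos
    exact Nat.pos_of_mul_pos_right this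
  have hsum2 : Nat.card {g : RG S // InT S x₁ g} + Nat.card {g : RG S // InT S x₂ g} ≤
      Nat.card {g : RG S // InK S g} := by
    simp only [Nat.card_eq_fintype_card, Fintype.card_subtype]
    rw [← Finset.card_union_of_disjoint (Finset.disjoint_filter.2 fun g _ => hdisj hc12 g)]
    refine Finset.card_le_card fun g hg => ?_
    simp only [Finset.mem_union, Finset.mem_filter, Finset.mem_univ, true_and] at hg ⊢
    exact hg.elim (inT_inK S h27 hx₁) (inT_inK S h27 hx₂)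
  have he1le := Nat.le_of_dvd (by norm_num) he₁
  have he2le := Nat.le_of_dvd (by norm_num) he₂
  have he₁6 : e₁ = 6 := by
    by_contra hne
    have : e₁ ≤ 3 := by interval_cases e₁ <;> simp_all
    have h1 := hbound hx₁ hN₁
    have h2 := hbound hx₂ hN₂
    nlinarith
  have he₂6 : e₂ = 6 := by
    by_contra hne
    have : e₂ ≤ 3 := by interval_cases e₂ <;> simp_all
    have h1 := hbound hx₁ hN₁
    have h2 := hbound hx₂ hN₂
    nlinarith
  subst he₁6 he₂6
  -- no third torus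
  have hcover : ∀ r, r.Prime → r ∣ Kp K →
      r ∣ Nat.card ↥(Tor S x₁) ∨ r ∣ Nat.card ↥(Tor S x₂) := by
    intro r hr hrK
    by_contra h
    rw [not_or] at h
    obtain ⟨x₃, hx₃, hx₃o⟩ := exists_singer S hr hrK
    obtain ⟨e₃, he₃, hN₃⟩ := tor_index S h27 hx₃
    have he3le := Nat.le_of_dvd (by norm_num) he₃
    have hr3 : r ∣ Nat.card ↥(Tor S x₃) := hx₃o ▸ Subgroup.orderOf_dvd_natCard _ (self_mem_tor S x₃)
    have hc13 : Nat.Coprime (Nat.card ↥(Tor S x₁)) (Nat.card ↥(Tor S x₃)) := by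
      by_contra hnc
      exact h.1 (hshare hx₁ hx₃ hnc ▸ hr3)
    have hc23 : Nat.Coprime (Nat.card ↥(Tor S x₂)) (Nat.card ↥(Tor S x₃)) := by
      by_contra hnc
      exact h.2 (hshare hx₂ hx₃ hnc ▸ hr3)
    have hsum3 : Nat.card {g : RG S // InT S x₁ g} + Nat.card {g : RG S // InT S x₂ g} +
        Nat.card {g : RG S // InT S x₃ g} ≤ Nat.card {g : RG S // InK S g} := by
      simp only [Nat.card_eq_fintype_card, Fintype.card_subtype]
      rw [← Finset.card_union_of_disjoint (Finset.disjoint_filter.2 fun g _ => hdisj hc12 g),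
        ← Finset.card_union_of_disjoint (Finset.disjoint_union_left.2
          ⟨Finset.disjoint_filter.2 fun g _ => hdisj hc13 g, Finset.disjoint_filter.2 fun g _ => hdisj hc23 g⟩)]
      refine Finset.card_le_card fun g hg => ?_
      simp only [Finset.mem_union, Finset.mem_filter, Finset.mem_univ, true_and] at hg ⊢
      exact hg.elim (fun h' => h'.elim (inT_inK S h27 hx₁) (inT_inK S h27 hx₂)) (inT_inK S h27 hx₃)
    have h1 := hbound hx₁ hN₁
    have h2 := hbound hx₂ hN₂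
    have h3 := hbound hx₃ hN₃
    nlinarith
  have hprod : Nat.card ↥(Tor S x₁) * Nat.card ↥(Tor S x₂) = Kp K := by
    refine Nat.eq_of_factorization_eq (mul_ne_zero Nat.card_pos.ne' Nat.card_pos.ne') hKne fun r => ?_
    rw [Nat.factorization_mul Nat.card_pos.ne' Nat.card_pos.ne', Finsupp.add_apply]
    by_cases hr : r.Prime
    · by_cases hrK : r ∣ Kp K
      · rcases hcover r hr hrK with h | h
        · rw [hfac hx₁ r hr h, Nat.factorization_eq_zero_of_not_dvd (fun h' =>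
            hr.ne_one (Nat.dvd_one.1 (hc12 ▸ Nat.dvd_gcd h h'))), add_zero]
        · rw [hfac hx₂ r hr h, Nat.factorization_eq_zero_of_not_dvd (fun h' =>
            hr.ne_one (Nat.dvd_one.1 (hc12 ▸ Nat.dvd_gcd h' h))), zero_add]
      · rw [Nat.factorization_eq_zero_of_not_dvd hrK,
          Nat.factorization_eq_zero_of_not_dvd fun h' => hrK (h'.trans (tor_dvd S h27 hx₁)),
          Nat.factorization_eq_zero_of_not_dvd fun h' => hrK (h'.trans (tor_dvd S h27 hx₂))]
    · rw [Nat.factorization_eq_zero_of_not_prime _ hr, Nat.factorization_eq_zero_of_not_prime _ hr,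
        Nat.factorization_eq_zero_of_not_prime _ hr]
  have hall : ∀ y, IsSinger S y →
      orderOf y ∣ Nat.card ↥(Tor S x₁) ∨ orderOf y ∣ Nat.card ↥(Tor S x₂) :=
    fun y hy => hcover _ hy.1 hy.2
  have hsum : Nat.card {g : RG S // InT S x₁ g} + Nat.card {g : RG S // InT S x₂ g} =
      Nat.card {g : RG S // InK S g} := by
    refine le_antisymm hsum2 ?_
    simp only [Nat.card_eq_fintype_card, Fintype.card_subtype]
    refine le_trans (Finset.card_le_card fun g hg => ?_) (Finset.card_union_le _ _)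
    simp only [Finset.mem_union, Finset.mem_filter, Finset.mem_univ, true_and] at hg ⊢
    obtain ⟨hg1, y, hy, hgy⟩ := hg
    rcases hall y hy with h | h
    · obtain ⟨a, ha⟩ := conj_into_tor S h27 hx₁ hy h
      exact Or.inl ⟨hg1, a, ha g hgy⟩
    · obtain ⟨a, ha⟩ := conj_into_tor S h27 hx₂ hy h
      exact Or.inr ⟨hg1, a, ha g hgy⟩
  have hc1 := count_T S h27 hx₁
  have hc2 := count_T S h27 hx₂
  rw [hN₁] at hc1
  rw [hN₂] at hc2
  have hKc := count_K S h27
  have hG := card_group_Kp S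
  rw [← hsum] at hKc
  obtain ⟨t₁, ht₁⟩ : ∃ t, Nat.card ↥(Tor S x₁) = t := ⟨_, rfl⟩
  obtain ⟨t₂, ht₂⟩ : ∃ t, Nat.card ↥(Tor S x₂) = t := ⟨_, rfl⟩
  have h7₁ := tor_ge S h27 hx₁
  have h7₂ := tor_ge S h27 hx₂
  rw [ht₁] at hc1 hprod h7₁ hN₁ hc12 hall
  rw [ht₂] at hc2 hprod h7₂ hN₂ hc12 hall
  have hKz : (t₁ : ℤ) * t₂ = (Fintype.card K : ℤ) ^ 2 - Fintype.card K + 1 := by
    have := congrArg (fun n : ℕ => (n : ℤ)) hprod
    simp only [Kp, Nat.cast_mul, Nat.cast_add, Nat.cast_sub hle, Nat.cast_pow, Nat.cast_one] at this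
    exact this
  have hsum12 : (t₁ : ℤ) + t₂ = 2 * Fintype.card K + 2 := by
    have hposG : (Nat.card (RG S) : ℤ) ≠ 0 := Int.natCast_ne_zero.2 Nat.card_pos.ne'
    zify [show 1 ≤ t₁ by omega, show 1 ≤ t₂ by omega, hle2, show 1 ≤ Fintype.card K by omega] at hc1 hc2 hKc
    have hGz : (Nat.card (RG S) : ℤ) = (Fintype.card K : ℤ) ^ 3 * (Fintype.card K - 1) *
        (Fintype.card K + 1) * (t₁ * t₂) := by
      rw [hG, Nat.cast_mul, Nat.cast_mul, Nat.cast_mul, Nat.cast_pow, Nat.cast_sub (by omega), Nat.cast_add,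
        Nat.cast_one, hKz, Kp, Nat.cast_add, Nat.cast_sub hle, Nat.cast_pow, Nat.cast_one]
    refine mul_left_cancel₀ hposG ?_
    linear_combination (t₂ : ℤ) * hc1 + (t₁ : ℤ) * hc2 - 2 * (t₁ : ℤ) * t₂ * hKc +
      2 * ((Fintype.card K : ℤ) ^ 2 - 2 * Fintype.card K) * hGz + 2 * (Nat.card (RG S) : ℤ) * hKz
  have hr2 : ((3 : ℤ) ^ (m + 1)) ^ 2 = 3 * Fintype.card K := by
    rw [card_K S]; push_cast; ring
  have hsq : ((t₁ : ℤ) - (Fintype.card K + 1) - 3 ^ (m + 1)) * ((t₁ : ℤ) - (Fintype.card K + 1) + 3 ^ (m + 1)) = 0 := by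
    linear_combination -hKz + (t₁ : ℤ) * hsum12 - hr2
  rcases mul_eq_zero.1 hsq with h | h
  · refine ⟨x₂, x₁, hx₂, hx₁, ?_, ?_, ht₂ ▸ hN₂, ht₁ ▸ hN₁, ?_, ?_, fun y hy => (ht₁.symm ▸ ht₂.symm ▸ hall y hy).symm⟩
    · rw [ht₂]; zify; linarith
    · rw [ht₁]; zify; linarith
    · rw [ht₁, ht₂, mul_comm]; exact hprod
    · rw [ht₁, ht₂]; exact hc12.symm
  · refine ⟨x₁, x₂, hx₁, hx₂, ?_, ?_, ht₁ ▸ hN₁, ht₂ ▸ hN₂, ?_, ?_, fun y hy => ht₁.symm ▸ ht₂.symm ▸ hall y hy⟩
    · rw [ht₁]; zify; linarith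
    · rw [ht₂]; zify; linarith
    · rw [ht₁, ht₂]; exact hprod
    · rw [ht₁, ht₂]; exact hc12

end Cfsg.Agent.Small.Ree
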